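import Groth.Agent.H23KS.Isotypical
import Groth.Agent.H11Ample.UnitIso
import Groth.Agent.H10Coh.SheafHom.Pullback
import Groth.Agent.H29Ref.HomSections
import Mathlib

/-!
# Indecomposable invertible modules and twists of indecomposable modules
-/

set_option autoImplicit false
set_option linter.style.haveILetI false
set_option linter.unusedSectionVars false

universe u

open CategoryTheory CategoryTheory.Limits AlgebraicGeometry Opposite TopologicalSpace

noncomputable section

namespace Groth.Agent.H23KS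

open Groth.Agent Groth.Agent.LeadBC

attribute [local instance] Abelian.hasFiniteBiproducts

variable {X : Scheme.{u}}

theorem stalkLin_id (L : X.Modules) (x : X) (v : L.presheaf.stalk x) : H06Mod.stalkLin (𝟙 L) x v = v := by
  obtain ⟨U, hU, a, rfl⟩ := TopCat.Presheaf.exists_germ_eq L.presheaf v
  exact H06Mod.stalkLin_germ _ _ _ _ _

theorem stalkLin_comp' {L M N : X.Modules} (φ : L ⟶ M) (ψ : M ⟶ N) (x : X) (v : L.presheaf.stalk x) :
    H06Mod.stalkLin (φ ≫ ψ) x v = H06Mod.stalkLin ψ x (H06Mod.stalkLin φ x v) := by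
  obtain ⟨U, hU, a, rfl⟩ := TopCat.Presheaf.exists_germ_eq L.presheaf v
  rw [H06Mod.stalkLin_germ, H06Mod.stalkLin_germ, H06Mod.stalkLin_germ]
  rfl

theorem hom_ext_stalkLin {L M : X.Modules} {φ ψ : L ⟶ M}
    (h : ∀ x v, H06Mod.stalkLin φ x v = H06Mod.stalkLin ψ x v) : φ = ψ :=
  Scheme.Modules.hom_ext _ _ fun U => ConcreteCategory.hom_ext _ _ fun m => by
    refine H29Ref.sec_ext M fun y hy => ?_
    have := h y (L.presheaf.germ U y hy m)
    rwa [H06Mod.stalkLin_germ, H06Mod.stalkLin_germ] at this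

/-- An idempotent endomorphism of an invertible module on a connected scheme is trivial. -/
theorem eq_zero_or_id_of_idem [PreconnectedSpace X] {L : X.Modules} (hL : PicF.IsInvertible L) (φ : L ⟶ L)
    (hφ : φ ≫ φ = φ) : φ = 0 ∨ φ = 𝟙 L := by
  classical
  -- the locus where `φ` is the identity
  let P : X → Prop := fun x => ∀ v, H06Mod.stalkLin φ x v = v
  let Q : X → Prop := fun x => ∀ v, H06Mod.stalkLin φ x v = 0
  have hloc : ∀ x, ∃ V : X.Opens, x ∈ V ∧ ∃ c : Γ(X, V),
      (∀ y ∈ X.basicOpen c, P y) ∧ (∀ y ∈ X.basicOpen (1 - c), Q y) ∧ V ≤ X.basicOpen c ⊔ X.basicOpen (1 - c) := by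
    intro x
    obtain ⟨V, e, hxV, he⟩ := H11Ample.exists_gen hL x
    obtain ⟨c, hc⟩ := H11Ample.exists_coeff he (φ.app V e)
    have hst : ∀ (y : X) (hy : y ∈ V) (r : X.presheaf.stalk y),
        H06Mod.stalkLin φ y (r • L.presheaf.germ V y hy e) =
          (r * X.presheaf.germ V y hy c) • L.presheaf.germ V y hy e := by
      intro y hy r
      rw [map_smul, H06Mod.stalkLin_germ, hc, H06Mod.germ_smul, smul_smul]
    have hidem : ∀ (y : X) (hy : y ∈ V), X.presheaf.germ V y hy c * X.presheaf.germ V y hy c =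
        X.presheaf.germ V y hy c := fun y hy => (he y hy).1 (by
      have h1 := stalkLin_comp' φ φ y ((1 : X.presheaf.stalk y) • L.presheaf.germ V y hy e)
      rw [hφ, hst, hst, one_mul] at h1
      exact h1.symm)
    refine ⟨V, hxV, c, fun y hy v => ?_, fun y hy v => ?_, fun y hy => ?_⟩
    · have hyV := X.basicOpen_le c hy
      obtain ⟨r, rfl⟩ := (he y hyV).2 v
      beta_reduce
      rw [hst]
      have : X.presheaf.germ V y hyV c = 1 :=
        ((X.mem_basicOpen c y hyV).1 hy).mul_eq_left.1 (hidem y hyV)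
      rw [this, mul_one]
    · have hyV := X.basicOpen_le _ hy
      obtain ⟨r, rfl⟩ := (he y hyV).2 v
      beta_reduce
      rw [hst]
      have hu := (X.mem_basicOpen (1 - c) y hyV).1 hy
      rw [map_sub, map_one] at hu
      have : X.presheaf.germ V y hyV c = 0 := hu.mul_left_eq_zero.1 (by rw [mul_sub, mul_one, hidem y hyV, sub_self])
      rw [this, mul_zero, zero_smul]
    · rcases IsLocalRing.isUnit_or_isUnit_of_add_one
        (show X.presheaf.germ V y hy c + X.presheaf.germ V y hy (1 - c) = 1 by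
          rw [← map_add, add_sub_cancel, map_one]) with h | h
      · exact Or.inl ((X.mem_basicOpen c y hy).2 h)
      · exact Or.inr ((X.mem_basicOpen (1 - c) y hy).2 h)
  choose V hxV c hP hQ hcov using hloc
  have hdisj : ∀ x, P x → Q x → False := fun x hp hq => by
    obtain ⟨W, e, hxW, he⟩ := H11Ample.exists_gen hL x
    have h1 : (1 : X.presheaf.stalk x) • L.presheaf.germ W x hxW e = (0 : X.presheaf.stalk x) • L.presheaf.germ W x hxW e := by
      rw [zero_smul, one_smul]
      exact (hp _).symm.trans (hq _)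
    exact one_ne_zero ((he x hxW).1 h1)
  have hPQ : ∀ x, P x ∨ Q x := fun x => (hcov x (hxV x)).imp (hP x x) (hQ x x)
  have hPo : IsOpen {x | P x} := isOpen_iff_forall_mem_open.2 fun x hx =>
    ⟨X.basicOpen (c x), fun y hy => hP x y hy, (X.basicOpen (c x)).isOpen, by
      rcases hcov x (hxV x) with h | h
      · exact h
      · exact (hdisj x hx (hQ x x h)).elim⟩
  have hQo : IsOpen {x | Q x} := isOpen_iff_forall_mem_open.2 fun x hx =>
    ⟨X.basicOpen (1 - c x), fun y hy => hQ x y hy, (X.basicOpen (1 - c x)).isOpen, by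
      rcases hcov x (hxV x) with h | h
      · exact (hdisj x (hP x x h) hx).elim
      · exact h⟩
  have hclopen : IsClopen {x | P x} := ⟨⟨by
    have : {x | P x}ᶜ = {x | Q x} := Set.ext fun x =>
      ⟨fun h => (hPQ x).resolve_left h, fun hq hp => hdisj x hp hq⟩
    rw [this]; exact hQo⟩, hPo⟩
  rcases isClopen_iff.1 hclopen with h | h
  · refine Or.inl (hom_ext_stalkLin fun x v => ?_)
    rw [(hPQ x).resolve_left (fun hp => Set.notMem_empty x (h ▸ hp)) v]
    obtain ⟨U, hU, a, rfl⟩ := TopCat.Presheaf.exists_germ_eq L.presheaf v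
    rw [H06Mod.stalkLin_germ]
    exact (map_zero _).symm
  · refine Or.inr (hom_ext_stalkLin fun x v => ?_)
    rw [stalkLin_id]
    exact (h.ge (Set.mem_univ x) : P x) v

/-- An invertible module on a connected scheme is indecomposable. -/
theorem indec_invertible [ConnectedSpace X] {L : X.Modules} (hL : PicF.IsInvertible L) : Indec L := by
  refine ⟨fun hz => ?_, fun B D ⟨g⟩ => ?_⟩
  · obtain ⟨x⟩ := (inferInstance : Nonempty X)
    obtain ⟨W, e, hxW, he⟩ := H11Ample.exists_gen hL x
    have h0 : ∀ v : L.presheaf.stalk x, v = 0 := fun v => by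
      rw [← stalkLin_id L x v, (IsZero.iff_id_eq_zero _).1 hz]
      obtain ⟨U, hU, a, rfl⟩ := TopCat.Presheaf.exists_germ_eq L.presheaf v
      rw [H06Mod.stalkLin_germ]
      exact map_zero _
    exact one_ne_zero ((he x hxW).1 ((h0 _).trans (h0 _).symm) : (1 : X.presheaf.stalk x) = 0)
  · let φ : L ⟶ L := g.hom ≫ biprod.fst ≫ biprod.inl ≫ g.inv
    rcases eq_zero_or_id_of_idem hL φ (by simp [φ]) with h1 | h1
    · refine Or.inl ((IsZero.iff_id_eq_zero _).2 ?_)
      have h2 := congrArg (fun t : L ⟶ L => biprod.inl ≫ g.inv ≫ t ≫ g.hom ≫ biprod.fst) h1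
      simpa [φ] using h2
    · refine Or.inr ((IsZero.iff_id_eq_zero _).2 ?_)
      have h2 := congrArg (fun t : L ⟶ L => biprod.inr ≫ g.inv ≫ t ≫ g.hom ≫ biprod.snd) h1
      simpa [φ] using h2.symm

/-- Twisting by an invertible module preserves indecomposability. -/
theorem indec_tensor {M M' W : X.Modules} (e : CohB1.tensorMod M M' ≅ Coh.structureModule X) (hW : Indec W) :
    Indec (CohB1.tensorMod M W) := by
  have e' : ∀ P : X.Modules, Nonempty (CohB1.tensorMod M' (CohB1.tensorMod M P) ≅ P) := fun P =>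
    ⟨(H11Ample.tensorAssocIso _ _ _).symm ≪≫
      PicGrp.tensorModIso (H11Ample.tensorCommIso _ _ ≪≫ e) (Iso.refl P) ≪≫ H11Ample.tensorLeftUnitIso P⟩
  have e'' : ∀ P : X.Modules, Nonempty (CohB1.tensorMod M (CohB1.tensorMod M' P) ≅ P) := fun P =>
    ⟨(H11Ample.tensorAssocIso _ _ _).symm ≪≫ PicGrp.tensorModIso e (Iso.refl P) ≪≫ H11Ample.tensorLeftUnitIso P⟩
  let T : X.Modules → (X.Modules ⥤ X.Modules) := fun N => (DCoh.tensorBi (X := X)).obj N
  have hz : ∀ (N : X.Modules) {P : X.Modules}, IsZero P → IsZero (CohB1.tensorMod N P) := fun N P h =>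
    (T N).map_isZero h
  haveI : (T M').Additive := inferInstanceAs ((DCoh.tensorBi (X := X)).obj M').Additive
  haveI := preservesBinaryBiproducts_of_preservesBiproducts (T M')
  refine ⟨fun h => hW.1 ((hz M' h).of_iso (e' W).some.symm), fun A B ⟨g⟩ => ?_⟩
  rcases hW.2 _ _ ⟨(e' W).some.symm ≪≫ PicGrp.tensorModIso (Iso.refl M') g ≪≫ (T M').mapBiprod A B⟩ with h | h
  · exact Or.inl ((hz M h).of_iso (e'' A).some.symm)
  · exact Or.inr ((hz M h).of_iso (e'' B).some.symm)

variable {k : Type u} [Field k] {K : Type u} [Field K] [Algebra k K]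
  [X.Over (Spec (CommRingCat.of k))] [IsProper (X ↘ Spec (CommRingCat.of k))]
  {X' : Scheme.{u}} [X'.Over (Spec (CommRingCat.of K))] [IsProper (X' ↘ Spec (CommRingCat.of K))] {q : X' ⟶ X}
  (hsq : IsPullback q (X' ↘ Spec (CommRingCat.of K)) (X ↘ Spec (CommRingCat.of k))
    (Spec.map (CommRingCat.ofHom (algebraMap k K))))

include hsq in
/-- The multiplicity of an indecomposable isotypical module is determined by its type. -/
theorem multiplicity_eq {E E' : X.Modules} (hE : Coh.IsCoh E) (hE' : Coh.IsCoh E') (hEi : Indec E)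
    (hE'i : Indec E') (W : X'.Modules) (hWi : Indec W) (hF : Coh.IsCoh (qF q E)) (r s : ℕ)
    (eE : qF q E ≅ ∐ fun _ : Fin r => W) (eE' : qF q E' ≅ ∐ fun _ : Fin s => W) : r = s := by
  obtain ⟨ψ⟩ := eq_of_isotypical hsq hE hE' hEi hE'i W r s eE eE'
  letI := endAlgebra K (qF q E)
  haveI := finite_end K (qF q E) hF
  obtain ⟨σ, -⟩ := uniqueness K (qF q E) (fun _ : Fin r => W) (fun _ : Fin s => W) (fun _ => hWi) (fun _ => hWi)
    (eE ≪≫ (biproduct.isoCoproduct _).symm)
    ((Scheme.Modules.pullback q).mapIso ψ ≪≫ eE' ≪≫ (biproduct.isoCoproduct _).symm)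
  simpa using Fintype.card_congr σ

end Groth.Agent.H23KS
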