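import Groth.Agent.H23KS.StalkSub
import Groth.Agent.H29Ref.DualStalk
import Groth.Agent.H29Curve.Topology
import Groth.Agent.H8Props.FlatDimOneBase
import Groth.Agent.H8Props.FinLocFree.Global
import Groth.Prelude.Def_TorSh

/-!
# Locally free modules squeezed around a torsion-free module on a curve

On a Noetherian integral scheme of dimension at most one every torsion-free coherent module contains,
and is contained in, a finite locally free module with the same stalks at all points where it is free.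
-/

set_option autoImplicit false
set_option maxHeartbeats 400000

universe u

open CategoryTheory CategoryTheory.Limits AlgebraicGeometry TopologicalSpace Opposite

namespace Groth.Agent.H23KS.CurveLattice

section Ring

variable (R : Type u) [CommRing R] [IsDomain R] (V : Type u) [AddCommGroup V] [Module R V]

/-- A free submodule containing a non-zero multiple of every element. -/
theorem exists_free_submodule :
    ∃ N : Submodule R V, Module.Free R N ∧ ∀ v : V, ∃ a : R, a ≠ 0 ∧ a • v ∈ N := by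
  obtain ⟨s, hs, hmax⟩ := exists_maximal_linearIndepOn R (id : V → V)
  refine ⟨Submodule.span R (Set.range (fun i : s => (i : V))),
    Module.Free.of_basis (Module.Basis.span hs), fun v => ?_⟩
  have he : Submodule.span R (id '' s) ≤ Submodule.span R (Set.range (fun i : s => (i : V))) :=
    Submodule.span_mono (by rintro _ ⟨i, hi, rfl⟩; exact ⟨⟨i, hi⟩, rfl⟩)
  by_cases hv : v ∈ s
  · exact ⟨1, one_ne_zero, by rw [one_smul]; exact Submodule.subset_span ⟨⟨v, hv⟩, rfl⟩⟩
  · obtain ⟨a, ha, h⟩ := hmax v hv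
    exact ⟨a, ha, he h⟩

theorem exists_pow_mem [IsLocalRing R] (hd : ringKrullDim R ≤ 1) {a : R} (ha : a ≠ 0) {r : R}
    (hr : r ∈ IsLocalRing.maximalIdeal R) : ∃ k : ℕ, r ^ k ∈ Ideal.span {a} := by
  haveI : Ring.KrullDimLE 1 R := Ring.krullDimLE_iff.2 hd
  have hrad : r ∈ (Ideal.span {a}).radical := by
    rw [Ideal.radical_eq_sInf]
    refine Submodule.mem_sInf.2 fun J hJ => ?_
    haveI := hJ.2
    have hJ0 : J ≠ ⊥ := fun h => ha (by
      simpa [h] using hJ.1 (Ideal.mem_span_singleton_self a))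
    rw [IsLocalRing.eq_maximalIdeal (Ring.krullDimLE_one_iff_of_noZeroDivisors.1 ‹_› J hJ0 hJ.2)]
    exact hr
  exact hrad

end Ring

variable {X : Scheme.{u}}

/-- Precomposition `B^∨ → A^∨`. -/
noncomputable def dualMap {A B : X.Modules} (i : A ⟶ B) : RefHull.dual B ⟶ RefHull.dual A :=
  let fn : ∀ W : X.Opens, Γ(RefHull.dual B, W) → Γ(RefHull.dual A, W) := fun W s =>
    ⟨fun x => (s.1 x).comp (RefHull.stalkMapₗ i x.1), fun V j m x => by
      obtain ⟨W', hxW, j', o, ho⟩ := s.2 V j (i.app V m) x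
      refine ⟨W', hxW, j', o, fun y => ?_⟩
      show s.1 ⟨y.1, _⟩ (RefHull.stalkMapₗ i y.1 _) = _
      rw [RefHull.stalkMapₗ_germ]
      exact ho y⟩
  ⟨PresheafOfModules.homMk
    { app := fun W => AddCommGrpCat.ofHom (AddMonoidHom.mk' (fn W.unop)
        fun (s t : Γ(RefHull.dual B, W.unop)) => Subtype.ext (funext fun x => LinearMap.ext fun v => rfl))
      naturality := fun W W' j => rfl }
    fun W r s => Subtype.ext (funext fun x => LinearMap.ext fun v => rfl)⟩

/-- On stalks it is precomposition. -/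
theorem dualEquiv_dualMap {A B : X.Modules} (hA : CohB1.IsFP A) (hB : CohB1.IsFP B) (i : A ⟶ B)
    (x : X) (θ : (RefHull.dual B).presheaf.stalk x) (w : A.presheaf.stalk x) :
    H29Ref.dualEquiv A hA x (RefHull.stalkMapₗ (dualMap i) x θ) w =
      H29Ref.dualEquiv B hB x θ (RefHull.stalkMapₗ i x w) := by
  obtain ⟨U, hxU, s, rfl⟩ := TopCat.Presheaf.exists_germ_eq (RefHull.dual B).presheaf θ
  rw [RefHull.stalkMapₗ_germ, H29Ref.dualEquiv_apply, H29Ref.dualEquiv_apply]
  erw [RefHull.evalStalk_germ, RefHull.evalStalk_germ]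
  rfl

variable [IsIntegral X] [IsNoetherian X]

theorem exists_free_at (hdim : topologicalKrullDim X ≤ 1) (F : X.Modules) (x : X) :
    ∃ N : Submodule (X.presheaf.stalk x) (F.presheaf.stalk x),
      Module.Free (X.presheaf.stalk x) N ∧
      (Module.Free (X.presheaf.stalk x) (F.presheaf.stalk x) → N = ⊤) ∧
      (∀ v, ∃ a : X.presheaf.stalk x, a ≠ 0 ∧ a • v ∈ N) ∧
      ∀ r ∈ IsLocalRing.maximalIdeal (X.presheaf.stalk x), ∀ v, ∃ k : ℕ, r ^ k • v ∈ N := by
  by_cases hfree : Module.Free (X.presheaf.stalk x) (F.presheaf.stalk x)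
  · exact ⟨⊤, Module.Free.of_equiv (Submodule.topEquiv).symm, fun _ => rfl,
      fun _ => ⟨1, one_ne_zero, trivial⟩, fun _ _ _ => ⟨0, trivial⟩⟩
  · obtain ⟨N, hN, hN'⟩ := exists_free_submodule (X.presheaf.stalk x) (F.presheaf.stalk x)
    refine ⟨N, hN, fun h => absurd h hfree, hN', fun r hr v => ?_⟩
    obtain ⟨a, ha, hav⟩ := hN' v
    obtain ⟨k, hk⟩ := exists_pow_mem _
      ((H8Props.FlatDimOneBase.ringKrullDim_stalk_le X x).trans hdim) ha hr
    obtain ⟨c, hc⟩ := Ideal.mem_span_singleton'.1 hk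
    exact ⟨k, by rw [← hc, mul_smul]; exact N.smul_mem c hav⟩

theorem free_generic (F : X.Modules) :
    Module.Free (X.presheaf.stalk (genericPoint X)) (F.presheaf.stalk (genericPoint X)) :=
  letI := (H29Ref.isField_generic (X := X)).toField
  inferInstance

/-- The points where a coherent module is not free: finitely many closed points. -/
theorem nonfree_finite (hdim : topologicalKrullDim X ≤ 1) (F : X.Modules) (hF : Coh.IsCoh F) :
    {x : X | ¬ Module.Free (X.presheaf.stalk x) (F.presheaf.stalk x)}.Finite ∧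
      ∀ x : X, ¬ Module.Free (X.presheaf.stalk x) (F.presheaf.stalk x) →
        IsClosed ({x} : Set X) := by
  have hη := free_generic F
  haveI := H29Ref.finite_stalk F hF.2 (genericPoint X)
  obtain ⟨U, hηU, e⟩ := H8Props.FunDescent.isFreeOfRankNear_of_stalkFree_of_isFP F
    (H10Coh.isFP_of_isCoh F hF) (x := genericPoint X) ⟨Module.finBasis _ _⟩
  have hU : ∀ y ∈ U, Module.Free (X.presheaf.stalk y) (F.presheaf.stalk y) := fun y hy =>
    let ⟨b⟩ := H8Props.FunDescent.stalkFree_of_isFreeOfRankNear F hF.1 ⟨U, hy, e⟩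
    Module.Free.of_basis b
  refine ⟨(H29Curve.finite_of_isClosed_of_genericPoint_notMem hdim (Z := (U : Set X)ᶜ)
    U.isOpen.isClosed_compl fun h => h hηU).subset fun x hx hxU => hx (hU x hxU), fun x hx => ?_⟩
  exact (H29Curve.isClosed_singleton_or_eq_genericPoint hdim x).resolve_right
    fun h => hx (h ▸ hη)

theorem isFinLocFreeOfRank_of_generic (E : X.Modules) (hE : FlatMod.IsFinLocFree E) {n : ℕ}
    (hn : Module.finrank (X.presheaf.stalk (genericPoint X)) (E.presheaf.stalk (genericPoint X)) = n) :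
    FlatMod.IsFinLocFreeOfRank n E := fun x => by
  obtain ⟨U, m, hxU, he⟩ := hE x
  have hηU : genericPoint X ∈ U :=
    ((genericPoint_spec X).mem_open_set_iff U.isOpen).2 ⟨x, trivial, hxU⟩
  obtain ⟨b⟩ := H8Props.FunDescent.stalkFree_of_isFreeOfRankNear E
    (H8Props.FinLocFree.isQCoh_of_isFinLocFree E hE) (p := m) ⟨U, hηU, he⟩
  rw [Module.finrank_eq_card_basis b, Fintype.card_fin] at hn
  subst hn
  exact ⟨U, hxU, he⟩

/-- A locally free submodule which agrees with `F` wherever `F` is free. -/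
theorem exists_sub (hdim : topologicalKrullDim X ≤ 1) (F : X.Modules) (hF : Coh.IsCoh F) :
    ∃ (E : X.Modules) (i : E ⟶ F), Mono i ∧ FlatMod.IsFinLocFree E ∧
      (∀ x, Function.Injective (RefHull.stalkMapₗ i x)) ∧
      (∀ (x : X) (v : F.presheaf.stalk x),
        ∃ a : X.presheaf.stalk x, a ≠ 0 ∧ ∃ w, RefHull.stalkMapₗ i x w = a • v) ∧
      ∀ x : X, Module.Free (X.presheaf.stalk x) (F.presheaf.stalk x) →
        Function.Bijective (RefHull.stalkMapₗ i x) := by
  choose N hfree htop htors hnil using exists_free_at hdim F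
  obtain ⟨hfin, hcl⟩ := nonfree_finite hdim F hF
  have hS : {x | N x ≠ ⊤}.Finite := hfin.subset fun x hx h => hx (htop x h)
  have hcl' : ∀ x, N x ≠ ⊤ → IsClosed ({x} : Set X) := fun x hx => hcl x fun h => hx (htop x h)
  refine ⟨StalkSub.subMod F N, StalkSub.subι F N, inferInstance,
    StalkSub.isFinLocFree_subMod F N hS hcl' hF hnil hfree, StalkSub.stalk_injective F N,
    fun x v => ?_, fun x h => StalkSub.stalk_bijective_of_eq_top F N hS hcl' x (htop x h)⟩
  obtain ⟨a, ha, hav⟩ := htors x v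
  rw [← StalkSub.range_stalk F N hS hcl' x] at hav
  exact ⟨a, ha, hav⟩

/-- A locally free module containing `F` which agrees with it wherever `F` is free. -/
theorem exists_super (hdim : topologicalKrullDim X ≤ 1) (F : X.Modules) (hF : Coh.IsCoh F)
    (htf : TorSh.IsTorsionFree F) :
    ∃ (E' : X.Modules) (j : F ⟶ E'), Mono j ∧ FlatMod.IsFinLocFree E' ∧
      ∀ x : X, Module.Free (X.presheaf.stalk x) (F.presheaf.stalk x) →
        Function.Bijective (RefHull.stalkMapₗ j x) := by
  have hFP := H10Coh.isFP_of_isCoh F hF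
  have hGc := H29Ref.isCoh_dual F hF
  have hGP := H29Ref.isFP_dual F hF
  obtain ⟨E, i, -, hE, hinj, htors, hbij⟩ := exists_sub hdim (RefHull.dual F) hGc
  have hEP := H8Props.FinLocFree.isFP_of_isFinLocFree E hE
  have hEc : Coh.IsCoh E := ⟨H8Props.FinLocFree.isQCoh_of_isFinLocFree E hE,
    H29Fitt.isFT_of_isFP E hEP⟩
  let j : F ⟶ RefHull.dual E := RefHull.bidualMap F ≫ dualMap i
  have key : ∀ (x : X) (v : F.presheaf.stalk x) (w : E.presheaf.stalk x),
      H29Ref.dualEquiv E hEP x (RefHull.stalkMapₗ j x v) w =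
        H29Ref.dualEquiv F hFP x (RefHull.stalkMapₗ i x w) v := by
    intro x v w
    have h1 : RefHull.stalkMapₗ j x v =
        RefHull.stalkMapₗ (dualMap i) x (RefHull.stalkMapₗ (RefHull.bidualMap F) x v) := by
      obtain ⟨U, hxU, s, rfl⟩ := TopCat.Presheaf.exists_germ_eq F.presheaf v
      rw [RefHull.stalkMapₗ_germ, RefHull.stalkMapₗ_germ, RefHull.stalkMapₗ_germ]
      rfl
    rw [h1, dualEquiv_dualMap hEP hGP]
    have h2 := LinearMap.congr_fun (H29Ref.ddualEquiv_bidual F hFP hGP x v)
      (H29Ref.dualEquiv F hFP x (RefHull.stalkMapₗ i x w))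
    rw [show H29Ref.ddualEquiv F hFP hGP x (RefHull.stalkMapₗ (RefHull.bidualMap F) x v) =
      (H29Ref.dualEquiv F hFP x).symm.dualMap (H29Ref.dualEquiv (RefHull.dual F) hGP x
        (RefHull.stalkMapₗ (RefHull.bidualMap F) x v)) from rfl, LinearEquiv.dualMap_apply,
      LinearEquiv.symm_apply_apply] at h2
    exact h2
  have hjinj : ∀ x, Function.Injective (RefHull.stalkMapₗ j x) := by
    intro x
    haveI := H29Ref.finite_stalk F hF.2 x
    haveI := htf x
    rw [injective_iff_map_eq_zero]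
    intro v hv
    refine H1CAlg.injective_eval_of_isTorsionFree (R := X.presheaf.stalk x) (F.presheaf.stalk x)
      ((LinearMap.ext fun θ => ?_).trans (map_zero _).symm)
    obtain ⟨a, ha, w, hw⟩ := htors x ((H29Ref.dualEquiv F hFP x).symm θ)
    have h0 := key x v w
    rw [hv, map_zero, hw, map_smul, LinearEquiv.apply_symm_apply] at h0
    exact (mul_eq_zero.1 h0.symm).resolve_left ha
  refine ⟨RefHull.dual E, j, ?_, ?_, fun x hx => ⟨hjinj x, fun φ => ?_⟩⟩
  · haveI : Mono ((SheafOfModules.forget _).map j) :=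
      PresheafOfModules.mono_of_injective fun {U} a b hab => by
        refine H29Ref.sec_ext F (U := U.unop) fun y hy => hjinj y ?_
        rw [RefHull.stalkMapₗ_germ, RefHull.stalkMapₗ_germ]
        exact congrArg ((RefHull.dual E).presheaf.germ U.unop y hy) hab
    exact (SheafOfModules.forget _).mono_of_mono_map ‹_›
  · refine H29Ref.isFinLocFree_of_free_stalk _ (H29Ref.isCoh_dual E hEc) fun x => ?_
    haveI := H8Props.FinLocFree.free_stalk E hE x
    haveI := H29Ref.finite_stalk E hEc.2 x
    exact Module.Free.of_equiv (H29Ref.dualEquiv E hEP x).symm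
  · haveI := H29Ref.finite_stalk F hF.2 x
    haveI := hx
    have hb := hbij x (Module.Free.of_equiv (H29Ref.dualEquiv F hFP x).symm)
    let eI := LinearEquiv.ofBijective (RefHull.stalkMapₗ i x) hb
    let Φ : Module.Dual (X.presheaf.stalk x) (Module.Dual (X.presheaf.stalk x) (F.presheaf.stalk x)) :=
      (H29Ref.dualEquiv E hEP x φ).comp
        (((H29Ref.dualEquiv F hFP x).symm.trans eI.symm : _ ≃ₗ[X.presheaf.stalk x] _) : _ →ₗ[X.presheaf.stalk x] _)
    refine ⟨(Module.evalEquiv (X.presheaf.stalk x) (F.presheaf.stalk x)).symm Φ,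
      (H29Ref.dualEquiv E hEP x).injective (LinearMap.ext fun w => ?_)⟩
    rw [key, Module.apply_evalEquiv_symm_apply]
    show H29Ref.dualEquiv E hEP x φ
      (eI.symm ((H29Ref.dualEquiv F hFP x).symm (H29Ref.dualEquiv F hFP x (eI w)))) = _
    rw [LinearEquiv.symm_apply_apply, LinearEquiv.symm_apply_apply]

end Groth.Agent.H23KS.CurveLattice
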