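import Groth.Agent.H23KS.Isotypical
import Groth.Agent.H10Inj.SheafExt.RelExt
import Groth.Agent.H10Coh.SheafHom.Pullback
import Groth.Agent.H25AbCube.DualInverse
import Groth.Agent.H11Ample.UnitIso
import Groth.Prelude.Def_RefFun
import Mathlib

/-!
# Duals of sums and of indecomposable locally free modules
-/

set_option autoImplicit false
set_option linter.style.haveILetI false
set_option linter.unusedSectionVars false

universe u

open CategoryTheory CategoryTheory.Limits AlgebraicGeometry Opposite TopologicalSpace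

noncomputable section

namespace Groth.Agent.H23KS

open Groth.Agent

attribute [local instance] Abelian.hasFiniteBiproducts

variable {X : Scheme.{u}}

theorem dualMap_add {F G : X.Modules} (φ ψ : F ⟶ G) :
    RefFun.dualMap (φ + ψ) = RefFun.dualMap φ + RefFun.dualMap ψ := by
  apply Scheme.Modules.hom_ext
  intro U
  ext g
  refine Subtype.ext (funext fun x => LinearMap.ext fun v => ?_)
  obtain ⟨V, hx, m, rfl⟩ := TopCat.Presheaf.exists_germ_eq F.presheaf v
  show (g.1 x) (RefHull.stalkMapₗ (φ + ψ) x.1 _) =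
    (g.1 x) (RefHull.stalkMapₗ φ x.1 _) + (g.1 x) (RefHull.stalkMapₗ ψ x.1 _)
  rw [← map_add, RefHull.stalkMapₗ_germ, RefHull.stalkMapₗ_germ, RefHull.stalkMapₗ_germ, ← map_add]
  rfl

/-- The dual as an additive functor to the opposite category. -/
def dualOp (X : Scheme.{u}) : X.Modules ⥤ (X.Modules)ᵒᵖ := (RefFun.dualFunctor X).rightOp

instance : (dualOp X).Additive where
  map_add {F G φ ψ} := Quiver.Hom.unop_inj (dualMap_add φ ψ)

theorem dualMap_sum {F G : X.Modules} {ι : Type} (s : Finset ι) (φ : ι → (F ⟶ G)) :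
    RefFun.dualMap (∑ i ∈ s, φ i) = ∑ i ∈ s, RefFun.dualMap (φ i) :=
  map_sum (AddMonoidHom.mk' (fun φ : F ⟶ G => RefFun.dualMap φ) dualMap_add) φ s

theorem dualMap_zero (F G : X.Modules) : RefFun.dualMap (0 : F ⟶ G) = 0 :=
  (AddMonoidHom.mk' (fun φ : F ⟶ G => RefFun.dualMap φ) dualMap_add).map_zero

/-- The dual of a finite sum. -/
def dualBiproduct {ι : Type} [Fintype ι] (f : ι → X.Modules) :
    RefHull.dual (⨁ f) ≅ ⨁ fun i => RefHull.dual (f i) where
  hom := biproduct.lift fun i => RefFun.dualMap (biproduct.ι f i)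
  inv := biproduct.desc fun i => RefFun.dualMap (biproduct.π f i)
  hom_inv_id := by
    rw [biproduct.lift_desc]
    simp only [← RefFun.dualMap_comp]
    rw [← dualMap_sum, biproduct.total, RefFun.dualMap_id]
  inv_hom_id := by
    classical
    refine biproduct.hom_ext' _ _ fun i => biproduct.hom_ext _ _ fun j => ?_
    simp only [biproduct.ι_desc_assoc, Category.comp_id, Category.assoc, biproduct.lift_π,
      biproduct.ι_π, ← RefFun.dualMap_comp]
    by_cases h : i = j
    · subst h
      rw [dif_pos rfl, dif_pos rfl, eqToHom_refl, RefFun.dualMap_id]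
      rfl
    · rw [dif_neg (Ne.symm h), dif_neg h, dualMap_zero]

/-- The dual of a finite coproduct. -/
def dualSigma {ι : Type} [Fintype ι] (f : ι → X.Modules) :
    RefHull.dual (∐ f) ≅ ∐ fun i => RefHull.dual (f i) :=
  RefFun.dualIso (biproduct.isoCoproduct f).symm ≪≫ dualBiproduct f ≪≫ biproduct.isoCoproduct _

/-- The dual of a binary sum. -/
def dualBiprod (A B : X.Modules) : RefHull.dual (A ⊞ B) ≅ RefHull.dual A ⊞ RefHull.dual B where
  hom := biprod.lift (RefFun.dualMap biprod.inl) (RefFun.dualMap biprod.inr)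
  inv := biprod.desc (RefFun.dualMap biprod.fst) (RefFun.dualMap biprod.snd)
  hom_inv_id := by
    rw [biprod.lift_desc, ← RefFun.dualMap_comp, ← RefFun.dualMap_comp, ← dualMap_add, biprod.total,
      RefFun.dualMap_id]
  inv_hom_id := by
    apply biprod.hom_ext' <;> apply biprod.hom_ext <;>
      simp [← RefFun.dualMap_comp, RefFun.dualMap_id, dualMap_zero]

theorem isZero_dual {A : X.Modules} (h : IsZero A) : IsZero (RefHull.dual A) :=
  (IsZero.iff_id_eq_zero _).2 (by
    rw [← RefFun.dualMap_id, (IsZero.iff_id_eq_zero _).1 h, dualMap_zero])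

/-- The dual of an indecomposable locally free module is indecomposable. -/
theorem indec_dual [IsLocallyNoetherian X] {E : X.Modules} (hE : FlatMod.IsFinLocFree E) (hEi : Indec E) :
    Indec (RefHull.dual E) := by
  haveI := H10Inj.SheafExt.isIso_bidualMap hE
  let b : E ≅ RefHull.ddual E := asIso (RefHull.bidualMap E)
  refine ⟨fun h => hEi.1 ((isZero_dual h).of_iso b), fun M₁ M₂ ⟨e⟩ => ?_⟩
  have hd := H10Inj.SheafExt.isFinLocFree_dual hE
  have h₁ : FlatMod.IsFinLocFree M₁ :=
    isFinLocFree_of_retract hd (biprod.inl ≫ e.inv) (e.hom ≫ biprod.fst) (by simp)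
  have h₂ : FlatMod.IsFinLocFree M₂ :=
    isFinLocFree_of_retract hd (biprod.inr ≫ e.inv) (e.hom ≫ biprod.snd) (by simp)
  haveI := H10Inj.SheafExt.isIso_bidualMap h₁
  haveI := H10Inj.SheafExt.isIso_bidualMap h₂
  rcases hEi.2 _ _ ⟨b ≪≫ RefFun.dualIso e ≪≫ dualBiprod M₁ M₂⟩ with hz | hz
  · exact Or.inl ((isZero_dual hz).of_iso (asIso (RefHull.bidualMap M₁)))
  · exact Or.inr ((isZero_dual hz).of_iso (asIso (RefHull.bidualMap M₂)))

/-- Pullback commutes with the dual of a locally free module. -/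
theorem nonempty_pullback_dual {X' : Scheme.{u}} (q : X' ⟶ X) [IsAffineHom q] {F : X.Modules} (hF : FlatMod.IsFinLocFree F) :
    Nonempty ((Scheme.Modules.pullback q).obj (RefHull.dual F) ≅
      RefHull.dual ((Scheme.Modules.pullback q).obj F)) := by
  haveI := (H16Derived.KFlat.Stalk.isCoh_of_isFinLocFree hF).1
  haveI := (H16Derived.KFlat.Stalk.isCoh_of_isFinLocFree (H8Props.RelPC.isFinLocFree_structure X)).1
  obtain ⟨c, -⟩ := H10Coh.SheafHom.exists_pullIso q (G := Coh.structureModule X) hF
  exact ⟨c ≪≫ (RefFun.homFunctor _).mapIso (H16Derived.KFlat.Stalk.structurePullbackIso q)⟩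

/-- An inverse of an invertible module is its dual. -/
theorem nonempty_dual_iso {L M : X.Modules} (hL : PicF.IsInvertible L)
    (e : CohB1.tensorMod L M ≅ Coh.structureModule X) : Nonempty (RefHull.dual L ≅ M) := by
  obtain ⟨d⟩ := H25AbCube.isInverseOf_dual hL
  exact ⟨(H11Ample.tensorLeftUnitIso _).symm ≪≫ H11Ample.tensorCommIso _ _ ≪≫
    PicGrp.tensorModIso (Iso.refl _) e.symm ≪≫ (H11Ample.tensorAssocIso _ _ _).symm ≪≫
    PicGrp.tensorModIso d (Iso.refl _) ≪≫ H11Ample.tensorLeftUnitIso _⟩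

end Groth.Agent.H23KS
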