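import Groth.Agent.H23KS.Descent
import Groth.Agent.H10Coh.FinType2
import Groth.Agent.H10Coh.Proj.Coherent
import Groth.Agent.H16Derived.KFlat.PerfNoeth
import Groth.Agent.H16Derived.KFlat.PerfAmp
import Groth.Agent.H16Derived.KFlat.FlatCover
import Mathlib

/-!
# Isotypical modules: uniqueness of the indecomposable constituent
-/

set_option autoImplicit false
set_option linter.style.haveILetI false
set_option linter.unusedSectionVars false

universe u

open CategoryTheory CategoryTheory.Limits AlgebraicGeometry Opposite TopologicalSpace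

noncomputable section

namespace Groth.Agent.H23KS

open Groth.Agent Groth.Agent.LeadBC

attribute [local instance] Abelian.hasFiniteBiproducts

theorem isCoh_of_retract {X : Scheme.{u}} {F P : X.Modules} (hF : Coh.IsCoh F) (i : P ⟶ F) (r : F ⟶ P)
    (h : i ≫ r = 𝟙 P) : Coh.IsCoh P := by
  refine H10Coh.isCoh_of_iso ⟨cokernel.desc (𝟙 F - r ≫ i) r (by simp [Preadditive.sub_comp, h]),
    i ≫ cokernel.π _, ?_, by simp [h]⟩ (H10Coh.isCoh_cokernel (𝟙 F - r ≫ i) hF.1 hF)
  refine (cancel_epi (cokernel.π (𝟙 F - r ≫ i))).1 ?_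
  have := cokernel.condition (𝟙 F - r ≫ i)
  rw [Preadditive.sub_comp, Category.id_comp, sub_eq_zero] at this
  rw [cokernel.π_desc_assoc, ← Category.assoc, ← this, Category.comp_id]

theorem isFinLocFree_of_retract {X : Scheme.{u}} [IsLocallyNoetherian X] {F P : X.Modules}
    (hF : FlatMod.IsFinLocFree F) (i : P ⟶ F) (r : F ⟶ P) (h : i ≫ r = 𝟙 P) : FlatMod.IsFinLocFree P :=
  H16Derived.KFlat.Stalk.isFinLocFree_of_isFP_flat
    (H10Coh.isFP_of_isCoh P (isCoh_of_retract (H16Derived.KFlat.Stalk.isCoh_of_isFinLocFree hF) i r h))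
    (H16Derived.KFlat.Stalk.isFlat_of_retract i r h (H16Derived.KFlat.Stalk.isFlat_of_isFinLocFree hF))

variable {k : Type u} [Field k] {K : Type u} [Field K] [Algebra k K] {X : Scheme.{u}}
  [X.Over (Spec (CommRingCat.of k))] [IsProper (X ↘ Spec (CommRingCat.of k))]
  {X' : Scheme.{u}} [X'.Over (Spec (CommRingCat.of K))] [IsProper (X' ↘ Spec (CommRingCat.of K))] {q : X' ⟶ X}
  (hsq : IsPullback q (X' ↘ Spec (CommRingCat.of K)) (X ↘ Spec (CommRingCat.of k))
    (Spec.map (CommRingCat.ofHom (algebraMap k K))))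

include hsq in
theorem not_isZero_map {E : X.Modules} (hE : Coh.IsCoh E) (h : ¬ IsZero E) : ¬ IsZero (qF q E) := fun hz => by
  haveI : E.IsQuasicoherent := hE.1
  exact h ((IsZero.iff_id_eq_zero _).2 (map_injective hsq (𝟙 E) (hz.eq_of_src _ _)))

/-- Interchanging the order of two finite sums. -/
def sigmaSwap {C : Type*} [Category C] [HasFiniteCoproducts C] (W : C) (r s : ℕ) :
    (∐ fun _ : Fin s => ∐ fun _ : Fin r => W) ≅ ∐ fun _ : Fin r => ∐ fun _ : Fin s => W where
  hom := Sigma.desc fun a => Sigma.desc fun b =>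
    Sigma.ι (fun _ : Fin s => W) a ≫ Sigma.ι (fun _ : Fin r => ∐ fun _ : Fin s => W) b
  inv := Sigma.desc fun b => Sigma.desc fun a =>
    Sigma.ι (fun _ : Fin r => W) b ≫ Sigma.ι (fun _ : Fin s => ∐ fun _ : Fin r => W) a
  hom_inv_id := by ext a b; simp
  inv_hom_id := by ext b a; simp

include hsq in
/-- Indecomposable modules of the same type over `K` are isomorphic. -/
theorem eq_of_isotypical {E E' : X.Modules} (hE : Coh.IsCoh E) (hE' : Coh.IsCoh E') (hEi : Indec E)
    (hE'i : Indec E') (W : X'.Modules) (r s : ℕ) (eE : qF q E ≅ ∐ fun _ : Fin r => W)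
    (eE' : qF q E' ≅ ∐ fun _ : Fin s => W) : Nonempty (E ≅ E') := by
  haveI : PreservesColimitsOfSize.{0, 0} (Scheme.Modules.pullback q) :=
    (Scheme.Modules.pullbackPushforwardAdjunction q).leftAdjoint_preservesColimits
  have hr : r ≠ 0 := fun h0 => by
    subst h0
    refine not_isZero_map hsq hE hEi.1 (IsZero.of_iso ((IsZero.iff_id_eq_zero _).2 ?_) eE)
    ext a; exact a.elim0
  have hs : s ≠ 0 := fun h0 => by
    subst h0
    refine not_isZero_map hsq hE' hE'i.1 (IsZero.of_iso ((IsZero.iff_id_eq_zero _).2 ?_) eE')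
    ext a; exact a.elim0
  let Es := ∐ fun _ : Fin s => E
  let E'r := ∐ fun _ : Fin r => E'
  have hEs : Coh.IsCoh Es := H10Coh.isCoh_sigma _ fun _ => hE
  have hE'r : Coh.IsCoh E'r := H10Coh.isCoh_sigma _ fun _ => hE'
  obtain ⟨e⟩ := descend hsq hEs hE'r
    ((PreservesCoproduct.iso (Scheme.Modules.pullback q) fun _ : Fin s => E) ≪≫
      (Sigma.mapIso fun _ : Fin s => eE) ≪≫ sigmaSwap W r s ≪≫ (Sigma.mapIso fun _ : Fin r => eE').symm ≪≫
      (PreservesCoproduct.iso (Scheme.Modules.pullback q) fun _ : Fin r => E').symm)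
  letI := endAlgebra k Es
  haveI := finite_end k Es hEs
  obtain ⟨σ, hσ⟩ := uniqueness k Es (fun _ : Fin s => E) (fun _ : Fin r => E') (fun _ => hEi) (fun _ => hE'i)
    (biproduct.isoCoproduct _).symm (e ≪≫ (biproduct.isoCoproduct _).symm)
  exact hσ ⟨0, Nat.pos_of_ne_zero hs⟩

end Groth.Agent.H23KS
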