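import Groth.Agent.H23KS.Isotypical
import Groth.Agent.H10Coh.SheafHom.EndInvertible
import Groth.Agent.H22Alg.GlobalFunctions
import Mathlib

/-!
# Endomorphisms of rank-one-isotypical modules
-/

set_option autoImplicit false
set_option linter.style.haveILetI false
set_option linter.unusedSectionVars false

universe u

open CategoryTheory CategoryTheory.Limits AlgebraicGeometry Opposite TopologicalSpace

noncomputable section

namespace Groth.Agent.H23KS

open Groth.Agent Groth.Agent.LeadBC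

attribute [local instance] Abelian.hasFiniteBiproducts

/-- Endomorphisms of an invertible module on a proper integral scheme over an algebraically closed field. -/
theorem end_invertible_scalar {K : Type u} [Field K] [IsAlgClosed K] {Z : Scheme.{u}}
    [Z.Over (Spec (CommRingCat.of K))] [IsProper (Z ↘ Spec (CommRingCat.of K))] [IsIntegral Z] {L : Z.Modules}
    (hL : PicF.IsInvertible L) (h0 : ¬ IsZero L) (φ : L ⟶ L) : ∃ c : K, φ = Formal.smulMod K L c := by
  let π := Z ↘ Spec (CommRingCat.of K)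
  letI := H22Alg.GlobalFunctions.algΓ π
  haveI := H22Alg.GlobalFunctions.isIntegral_algΓ π
  have hsurj : Function.Surjective (algebraMap K Γ(Z, ⊤)) := fun r =>
    (IsAlgClosed.algebraMap_bijective_of_isIntegral (k := K) (K := Γ(Z, ⊤))).2 r
  obtain ⟨θ⟩ := H10Coh.SheafHom.nonempty_endIso hL
  obtain ⟨r, hr⟩ : ∃ r : Γ(Z, ⊤), θ.hom.app ⊤ r = RefHull.ofHom φ ⊤ :=
    ⟨θ.inv.app ⊤ (RefHull.ofHom φ ⊤), congr($(θ.inv_hom_id).app ⊤ (RefHull.ofHom φ ⊤))⟩
  obtain ⟨s, hs⟩ : ∃ s : Γ(Z, ⊤), θ.hom.app ⊤ s = RefHull.ofHom (𝟙 L) ⊤ :=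
    ⟨θ.inv.app ⊤ (RefHull.ofHom (𝟙 L) ⊤), congr($(θ.inv_hom_id).app ⊤ (RefHull.ofHom (𝟙 L) ⊤))⟩
  obtain ⟨a, rfl⟩ := hsurj r
  obtain ⟨b, rfl⟩ := hsurj s
  have hb : b ≠ 0 := by
    rintro rfl
    refine h0 ((IsZero.iff_id_eq_zero _).2 (H10Coh.SheafHom.ofHom_injective (hs.symm.trans ?_)))
    rw [map_zero]
    exact (map_zero (θ.hom.app ⊤).hom).trans ((left_eq_add.1 (by
      rw [← ofHom_add, add_zero] : RefHull.ofHom (0 : L ⟶ L) ⊤ = RefHull.ofHom 0 ⊤ + RefHull.ofHom (0 : L ⟶ L) ⊤)).symm)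
  refine ⟨a / b, H10Coh.SheafHom.ofHom_injective ?_⟩
  have hsc : ∀ x : K, (LeadFF.scal π ⊤ x : Γ(Z, ⊤)) = algebraMap K Γ(Z, ⊤) x := fun x =>
    (ConcreteCategory.congr_hom (Z.presheaf.map_id _) _).trans rfl
  have h1 : RefHull.ofHom (Formal.smulMod K L (a / b)) ⊤ =
      LeadFF.scal π ⊤ (a / b) • RefHull.ofHom (𝟙 L) ⊤ := by
    rw [← Category.id_comp (Formal.smulMod K L (a / b)), ofHom_comp_smulMod]
    rfl
  rw [h1, ← hs, ← hr, ← Scheme.Modules.Hom.app_smul]
  refine congrArg (θ.hom.app ⊤) ?_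
  show algebraMap K Γ(Z, ⊤) a = LeadFF.scal π ⊤ (a / b) * algebraMap K Γ(Z, ⊤) b
  rw [hsc, ← map_mul, div_mul_cancel₀ a hb]

variable {k : Type u} [Field k] {K : Type u} [Field K] [Algebra k K] [IsAlgClosed K] {X : Scheme.{u}}
  [X.Over (Spec (CommRingCat.of k))] [IsProper (X ↘ Spec (CommRingCat.of k))]
  {X' : Scheme.{u}} [X'.Over (Spec (CommRingCat.of K))] [IsProper (X' ↘ Spec (CommRingCat.of K))] [IsIntegral X']
  {q : X' ⟶ X}
  (hsq : IsPullback q (X' ↘ Spec (CommRingCat.of K)) (X ↘ Spec (CommRingCat.of k))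
    (Spec.map (CommRingCat.ofHom (algebraMap k K))))

/-- `h` is a `K`-combination of inverse images of elements of `I`. -/
def InSpan {E : X.Modules} (q : X' ⟶ X) (I : TwoSidedIdeal (End E)) (h : qF q E ⟶ qF q E) : Prop :=
  ∃ (ι : Type) (_ : Fintype ι) (c : ι → K) (x : ι → End E), (∀ i, x i ∈ I) ∧
    h = ∑ i, (Scheme.Modules.pullback q).map (x i : E ⟶ E) ≫ Formal.smulMod K (qF q E) (c i)

theorem InSpan.sum {E : X.Modules} {I : TwoSidedIdeal (End E)} {J : Type} (s : Finset J)
    (h : J → (qF q E ⟶ qF q E)) (hh : ∀ j ∈ s, InSpan (K := K) q I (h j)) :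
    InSpan (K := K) q I (∑ j ∈ s, h j) := by
  classical
  induction s using Finset.induction_on with
  | empty => exact ⟨Empty, inferInstance, fun e => e.elim, fun e => e.elim, fun e => e.elim, by simp⟩
  | insert a t ha ih =>
    obtain ⟨ι, hι, c, x, hx, he⟩ := hh a (Finset.mem_insert_self a t)
    obtain ⟨κ, hκ, d, y, hy, he'⟩ := ih fun j hj => hh j (Finset.mem_insert_of_mem hj)
    refine ⟨ι ⊕ κ, inferInstance, Sum.elim c d, Sum.elim x y, fun i => by cases i <;> simp [hx, hy], ?_⟩
    rw [Finset.sum_insert ha, he, he', Fintype.sum_sum_type]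
    rfl

include hsq in
/-- A nonzero two-sided ideal of endomorphisms contains `1`. -/
theorem one_mem_of_mem {E : X.Modules} (hE : Coh.IsCoh E) (L : X'.Modules) (hL : PicF.IsInvertible L) (r : ℕ)
    (a : qF q E ≅ ∐ fun _ : Fin r => L) (I : TwoSidedIdeal (End E)) (f : End E) (hfI : f ∈ I) (hf : f ≠ 0) :
    (1 : End E) ∈ I := by
  classical
  haveI : CompactSpace X := QuasiCompact.compactSpace_of_compactSpace (X ↘ Spec (CommRingCat.of k))
  haveI : E.IsQuasicoherent := hE.1
  let b := a ≪≫ (biproduct.isoCoproduct fun _ : Fin r => L).symm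
  let Φ := Scheme.Modules.pullback q
  have hΦf : Φ.map (f : E ⟶ E) ≠ 0 := fun h => hf (map_injective hsq _ h)
  obtain ⟨i, j, hij⟩ : ∃ i j, biproduct.ι (fun _ : Fin r => L) i ≫ b.inv ≫ Φ.map (f : E ⟶ E) ≫ b.hom ≫
      biproduct.π (fun _ : Fin r => L) j ≠ 0 := by
    by_contra hc
    push_neg at hc
    refine hΦf ?_
    have : b.inv ≫ Φ.map (f : E ⟶ E) ≫ b.hom = 0 :=
      biproduct.hom_ext' _ _ fun i => biproduct.hom_ext _ _ fun j => by simpa using hc i j
    simpa using congrArg (fun z => b.hom ≫ z ≫ b.inv) this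
  have hL0 : ¬ IsZero L := fun h => hij (h.eq_of_src _ _)
  obtain ⟨c, hc⟩ := end_invertible_scalar (K := K) hL hL0 (biproduct.ι (fun _ : Fin r => L) i ≫ b.inv ≫
    Φ.map (f : E ⟶ E) ≫ b.hom ≫ biproduct.π (fun _ : Fin r => L) j)
  have hc0 : c ≠ 0 := by
    rintro rfl
    exact hij (hc.trans (map_zero (endScalar K L)))
  have hterm : ∀ t, InSpan (K := K) q I (b.hom ≫ biproduct.π (fun _ : Fin r => L) t ≫
      biproduct.ι (fun _ : Fin r => L) t ≫ b.inv) := by
    intro t
    obtain ⟨n, cu, u, hu⟩ := exists_span hsq hE.2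
      (b.hom ≫ biproduct.π (fun _ : Fin r => L) t ≫ biproduct.ι (fun _ : Fin r => L) i ≫ b.inv)
    obtain ⟨m, cv, v, hv⟩ := exists_span hsq hE.2
      (b.hom ≫ biproduct.π (fun _ : Fin r => L) j ≫ biproduct.ι (fun _ : Fin r => L) t ≫ b.inv)
    refine ⟨Fin n × Fin m, inferInstance, fun p => cu p.1 * cv p.2 * c⁻¹,
      fun p => (u p.1 ≫ (f : E ⟶ E) ≫ v p.2 : E ⟶ E), fun p => ?_, ?_⟩
    · exact I.mul_mem_right ((show End E from v p.2) * f) (show End E from u p.1)
        (I.mul_mem_left (show End E from v p.2) f hfI)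
    · have hid : Formal.smulMod K (qF q E) c ≫ Formal.smulMod K (qF q E) c⁻¹ = 𝟙 _ := by
        show (endScalar K (qF q E) c⁻¹ * endScalar K (qF q E) c : End (qF q E)) = 1
        rw [← map_mul, inv_mul_cancel₀ hc0, map_one]
      calc _ = (b.hom ≫ biproduct.π (fun _ : Fin r => L) t ≫ Formal.smulMod K L c ≫
            biproduct.ι (fun _ : Fin r => L) t ≫ b.inv) ≫ Formal.smulMod K (qF q E) c⁻¹ := by
            simp only [Category.assoc]
            rw [reassoc_of% (smulMod_comm K (biproduct.ι (fun _ : Fin r => L) t) c),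
              reassoc_of% (smulMod_comm K b.inv c), hid, Category.comp_id]
        _ = (b.hom ≫ biproduct.π (fun _ : Fin r => L) t ≫ biproduct.ι (fun _ : Fin r => L) i ≫ b.inv) ≫
            Φ.map (f : E ⟶ E) ≫ (b.hom ≫ biproduct.π (fun _ : Fin r => L) j ≫ biproduct.ι (fun _ : Fin r => L) t ≫
              b.inv) ≫ Formal.smulMod K (qF q E) c⁻¹ := by
            rw [← hc]; simp only [Category.assoc]
        _ = _ := by
            rw [hu, hv, Fintype.sum_prod_type]
            simp only [Preadditive.sum_comp, Preadditive.comp_sum]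
            rw [Finset.sum_comm]
            refine Finset.sum_congr rfl fun p _ => Finset.sum_congr rfl fun p' _ => ?_
            have h3 : Formal.smulMod K (qF q E) (cu p * cv p' * c⁻¹) = Formal.smulMod K (qF q E) (cu p) ≫
                Formal.smulMod K (qF q E) (cv p') ≫ Formal.smulMod K (qF q E) c⁻¹ := by
              show endScalar K (qF q E) (cu p * cv p' * c⁻¹) =
                endScalar K (qF q E) c⁻¹ * endScalar K (qF q E) (cv p') * endScalar K (qF q E) (cu p)
              rw [← map_mul, ← map_mul]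
              exact congrArg _ (by ring)
            rw [h3]
            simp only [Φ, Functor.map_comp, Category.assoc]
            rw [reassoc_of% (smulMod_comm K ((Scheme.Modules.pullback q).map (f : E ⟶ E)) (cu p)),
              reassoc_of% (smulMod_comm K ((Scheme.Modules.pullback q).map (v p')) (cu p))]
  obtain ⟨ι, hι, cc, x, hx, hsum⟩ := InSpan.sum Finset.univ _ fun t _ => hterm t
  have h1 : (∑ t, b.hom ≫ biproduct.π (fun _ : Fin r => L) t ≫ biproduct.ι (fun _ : Fin r => L) t ≫ b.inv) =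
      Φ.map (𝟙 E) := by
    have h2 : ∀ t, b.hom ≫ biproduct.π (fun _ : Fin r => L) t ≫ biproduct.ι (fun _ : Fin r => L) t ≫ b.inv =
        b.hom ≫ (biproduct.π (fun _ : Fin r => L) t ≫ biproduct.ι (fun _ : Fin r => L) t) ≫ b.inv := by
      intro t; simp
    rw [Finset.sum_congr rfl fun t _ => h2 t, ← Preadditive.comp_sum, ← Preadditive.sum_comp, biproduct.total,
      Category.id_comp, Iso.hom_inv_id, CategoryTheory.Functor.map_id]
  obtain ⟨l, hl⟩ := exists_retraction (k := k) (K := K)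
  have h3 := eq_sum_of_map_eq hsq l hl Finset.univ cc (fun i => (x i : E ⟶ E)) (𝟙 E) (hsum.symm.trans h1)
  rw [End.one_def, h3]
  exact sum_mem fun i _ => I.mul_mem_left (endScalar k E (l (cc i))) (x i) (hx i)

theorem isUnit_of_mul_left {R : Type*} [Ring R] {x u : R} (h : u * x = 1) (hx : IsNilpotent x) :
    Subsingleton R := by
  obtain ⟨n, hn⟩ := hx
  have : ∀ m : ℕ, u ^ m * x ^ m = 1 := by
    intro m
    induction m with
    | zero => simp
    | succ m ih => rw [pow_succ, pow_succ', ← mul_assoc, mul_assoc (u ^ m), h, mul_one, ih]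
  have h1 := this n
  rw [hn, mul_zero] at h1
  exact subsingleton_of_zero_eq_one h1

theorem isUnit_of_mul_right {R : Type*} [Ring R] {x u : R} (h : x * u = 1) (hx : IsNilpotent x) :
    Subsingleton R := by
  obtain ⟨n, hn⟩ := hx
  have : ∀ m : ℕ, x ^ m * u ^ m = 1 := by
    intro m
    induction m with
    | zero => simp
    | succ m ih => rw [pow_succ, pow_succ', ← mul_assoc, mul_assoc (x ^ m), h, mul_one, ih]
  have h1 := this n
  rw [hn, zero_mul] at h1
  exact subsingleton_of_zero_eq_one h1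

/-- The non-units of a local endomorphism ring form a two-sided ideal. -/
def nonunitsIdeal {C : Type*} [Category C] [Abelian C] {A : C} (hA : Indec A) (hP : PiReg A) :
    TwoSidedIdeal (End A) :=
  TwoSidedIdeal.mk' {x | ¬ IsUnit x} (not_isUnit_zero hA)
    (fun hx hy h => (isUnit_or_isUnit_of_isUnit_add hA hP h).elim hx hy)
    (fun {x} hx h => hx (IsUnit.neg_iff x |>.1 h))
    (fun {r x} hx h => by
      obtain ⟨v, hv⟩ := h.exists_left_inv
      rcases isUnit_or_isNilpotent hA hP x with h1 | h1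
      · exact hx h1
      · haveI := isUnit_of_mul_left (u := v * r) (by rw [mul_assoc, hv]) h1
        exact not_isUnit_zero hA (isUnit_of_subsingleton _))
    (fun {x r} hx h => by
      obtain ⟨v, hv⟩ := h.exists_right_inv
      rcases isUnit_or_isNilpotent hA hP x with h1 | h1
      · exact hx h1
      · haveI := isUnit_of_mul_right (u := r * v) (by rw [← mul_assoc, hv]) h1
        exact not_isUnit_zero hA (isUnit_of_subsingleton _))

end Groth.Agent.H23KS
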