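import Groth.Agent.H10Coh.Proper2
import Groth.Agent.H10Coh.SheafHom.Pullback
import Groth.Agent.H29Ref.HomSections
import Groth.Agent.LeadFF.Gen
import Mathlib

/-!
# Endomorphisms of a coherent module on a proper scheme form a finite-dimensional algebra
-/

set_option autoImplicit false
set_option linter.style.haveILetI false

universe u

open CategoryTheory CategoryTheory.Limits AlgebraicGeometry Opposite TopologicalSpace

noncomputable section

namespace Groth.Agent.H23KS

open Groth.Agent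

attribute [local instance 10000] H10Coh.hasSheafifyAb H10Coh.hasWeakSheafifyAb H10Coh.hasExtAb H10Coh.enoughInjAb

variable (A : Type u) [CommRing A] {X : Scheme.{u}} [X.Over (Spec (CommRingCat.of A))]

theorem smulMod_app {M : X.Modules} (a : A) (U : X.Opens) (m : Γ(M, U)) :
    (Formal.smulMod A M a).app U m = LeadFF.scal (X ↘ Spec (CommRingCat.of A)) U a • m := rfl

theorem smulMod_comm {M N : X.Modules} (φ : M ⟶ N) (a : A) :
    Formal.smulMod A M a ≫ φ = φ ≫ Formal.smulMod A N a :=
  Scheme.Modules.hom_ext _ _ fun U => ConcreteCategory.hom_ext _ _ fun m =>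
    Scheme.Modules.Hom.app_smul φ _ m

/-- The scalars as endomorphisms. -/
def endScalar (M : X.Modules) : A →+* End M where
  toFun a := Formal.smulMod A M a
  map_one' := Scheme.Modules.hom_ext _ _ fun U => ConcreteCategory.hom_ext _ _ fun m => by
    refine (smulMod_app A 1 U m).trans ?_
    rw [map_one, one_smul]
    rfl
  map_mul' a b := Scheme.Modules.hom_ext _ _ fun U => ConcreteCategory.hom_ext _ _ fun m => by
    refine (smulMod_app A (a * b) U m).trans ?_
    rw [map_mul, mul_smul]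
    rfl
  map_zero' := Scheme.Modules.hom_ext _ _ fun U => ConcreteCategory.hom_ext _ _ fun m => by
    refine (smulMod_app A 0 U m).trans ?_
    rw [map_zero, zero_smul]
    rfl
  map_add' a b := LeadFF.smulMod_add M a b

/-- Endomorphisms of a module over `Spec A` form an `A`-algebra. -/
@[reducible] def endAlgebra (M : X.Modules) : Algebra A (End M) :=
  (endScalar A M).toAlgebra' fun a φ => (smulMod_comm A (φ : M ⟶ M) a).symm

theorem endAlgebra_smul (M : X.Modules) (a : A) (φ : End M) :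
    (letI := endAlgebra A M; a • φ) = ((φ : M ⟶ M) ≫ Formal.smulMod A M a : M ⟶ M) := rfl

theorem ofHom_comp_smulMod {F G : X.Modules} (φ : F ⟶ G) (a : A) :
    RefHull.ofHom (φ ≫ Formal.smulMod A G a) ⊤ =
      (Formal.smulMod A (RefHull.homSh F G) a).app ⊤ (RefHull.ofHom φ ⊤) := by
  refine Subtype.ext (funext fun y => LinearMap.ext fun v => ?_)
  obtain ⟨U, hU, m, rfl⟩ := TopCat.Presheaf.exists_germ_eq F.presheaf v
  show RefHull.stalkMapₗ (φ ≫ Formal.smulMod A G a) y.1 _ =
    X.presheaf.germ ⊤ y.1 y.2 (LeadFF.scal (X ↘ Spec (CommRingCat.of A)) ⊤ a) • RefHull.stalkMapₗ φ y.1 _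
  refine (RefHull.stalkMapₗ_germ _ y.1 hU m).trans ?_
  refine Eq.trans ?_ (congrArg (_ • ·) (RefHull.stalkMapₗ_germ φ y.1 hU m).symm)
  show G.presheaf.germ U y.1 hU (LeadFF.scal (X ↘ Spec (CommRingCat.of A)) U a • φ.app U m) = _
  rw [H06Mod.germ_smul]
  refine congrArg (· • _) ?_
  rw [← LeadFF.map_scal (X ↘ Spec (CommRingCat.of A)) (le_top : U ≤ ⊤) a, TopCat.Presheaf.germ_res_apply]

theorem ofHom_add {F G : X.Modules} (φ ψ : F ⟶ G) :
    RefHull.ofHom (φ + ψ) ⊤ = RefHull.ofHom φ ⊤ + RefHull.ofHom ψ ⊤ := by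
  refine Subtype.ext (funext fun y => LinearMap.ext fun v => ?_)
  obtain ⟨U, hU, m, rfl⟩ := TopCat.Presheaf.exists_germ_eq F.presheaf v
  show RefHull.stalkMapₗ (φ + ψ) y.1 _ = RefHull.stalkMapₗ φ y.1 _ + RefHull.stalkMapₗ ψ y.1 _
  refine (RefHull.stalkMapₗ_germ _ y.1 hU m).trans ?_
  refine Eq.trans ?_ (congrArg₂ (· + ·) (RefHull.stalkMapₗ_germ φ y.1 hU m) (RefHull.stalkMapₗ_germ ψ y.1 hU m)).symm
  exact map_add (G.presheaf.germ U y.1 hU).hom (φ.app U m) (ψ.app U m)

/-- Endomorphisms of a coherent module on a proper scheme over a Noetherian ring are finite over it. -/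
theorem finite_end [IsNoetherianRing A] [IsProper (X ↘ Spec (CommRingCat.of A))] (F : X.Modules) (hF : Coh.IsCoh F) :
    letI := endAlgebra A F
    Module.Finite A (End F) := by
  letI := endAlgebra A F
  haveI : IsLocallyNoetherian X := LocallyOfFiniteType.isLocallyNoetherian (X ↘ Spec (CommRingCat.of A))
  haveI := H10Coh.finite_HH_proper A X (RefHull.homSh F F) (H29Ref.isCoh_homSh F F hF hF) 0
  let ε := Sheaf.H.equiv₀ (Coh.toAb (RefHull.homSh F F)) (isTerminalTop : IsTerminal (⊤ : X.Opens))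
  let Φ : End F →ₗ[A] Coh.HH X (RefHull.homSh F F) 0 :=
    { toFun := fun φ => ε.symm (RefHull.ofHom (φ : F ⟶ F) ⊤)
      map_add' := fun φ ψ => (congrArg ε.symm (ofHom_add (φ : F ⟶ F) ψ)).trans (map_add ε.symm _ _)
      map_smul' := fun a φ => by
        refine (congrArg (fun z => ε.symm (RefHull.ofHom z ⊤)) (endAlgebra_smul A F a φ)).trans ?_
        show ε.symm (RefHull.ofHom ((φ : F ⟶ F) ≫ Formal.smulMod A F a) ⊤) = _
        rw [ofHom_comp_smulMod, RingHom.id_apply, ← LeadFF.Hm_smulMod]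
        refine (AddEquiv.symm_apply_eq ε).2 ?_
        refine Eq.trans ?_ (Sheaf.H.equiv₀_naturality (isTerminalTop : IsTerminal (⊤ : X.Opens)) _ _)
        exact congrArg _ (AddEquiv.apply_symm_apply ε _).symm }
  exact Module.Finite.of_injective Φ fun φ ψ h => H10Coh.SheafHom.ofHom_injective (ε.symm.injective h)

end Groth.Agent.H23KS
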