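import Groth.Agent.LeadBC.BaseChange
import Groth.Agent.H29Fitt.Sheaf
import Groth.Agent.H29Blow.QCohExt
import Groth.Agent.H29Ref.HomSections
import Groth.Agent.H17.PullSect
import Groth.Agent.H17.PrinOmega
import Groth.Agent.H23KS.EndProper
import Mathlib

/-!
# Homomorphisms of coherent modules after an extension of the base field

For `X` quasi-compact over a field `k` and a field `K ⊇ k`, every homomorphism of the inverse images of `F` (of
finite type) and `G` on `X_K` is a `K`-combination of inverse images, and a `k`-linear retraction of `k → K` recovers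
a homomorphism from any such combination.
-/

set_option autoImplicit false
set_option linter.style.haveILetI false
set_option linter.unusedSectionVars false

universe u

open CategoryTheory CategoryTheory.Limits AlgebraicGeometry Opposite TopologicalSpace
open scoped TensorProduct

noncomputable section

namespace Groth.Agent.H23KS

open Groth.Agent Groth.Agent.LeadBC Groth.Agent.LeadFF

/-- Evaluation of morphisms at a section. -/
def evalAt {Z : Scheme.{u}} {M N : Z.Modules} (U : Z.Opens) (x : Γ(M, U)) : (M ⟶ N) →+ Γ(N, U) where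
  toFun φ := φ.app U x
  map_zero' := rfl
  map_add' _ _ := rfl

theorem hom_ext_affine {Z : Scheme.{u}} {M N : Z.Modules} {φ ψ : M ⟶ N}
    (h : ∀ (U : Z.Opens), IsAffineOpen U → ∀ m : Γ(M, U), φ.app U m = ψ.app U m) : φ = ψ :=
  Scheme.Modules.hom_ext _ _ fun W => ConcreteCategory.hom_ext _ _ fun m => by
    refine H29Ref.sec_ext N fun y hy => ?_
    obtain ⟨U, hU, hyU, hle⟩ := exists_isAffineOpen_mem_and_subset (U := W) (x := y) hy
    rw [← N.presheaf.germ_res_apply (homOfLE hle) y hyU, ← N.presheaf.germ_res_apply (homOfLE hle) y hyU,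
      ← H11Tilde.app_map_apply, ← H11Tilde.app_map_apply, h U hU]

theorem hom_eq_zero_of_cover {Z : Scheme.{u}} {M N : Z.Modules} [M.IsQuasicoherent] (φ : M ⟶ N)
    {ι : Type*} (U : ι → Z.Opens) (hU : ∀ i, IsAffineOpen (U i)) (hcov : ∀ z, ∃ i, z ∈ U i)
    (h : ∀ i (m : Γ(M, U i)), φ.app (U i) m = 0) : φ = 0 :=
  Scheme.Modules.hom_ext _ _ fun W => ConcreteCategory.hom_ext _ _ fun m => by
    show φ.app W m = 0
    refine H29Ref.sec_ext N fun y hy => ?_
    rw [map_zero, ← H06Mod.stalkLin_germ φ y W hy m]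
    obtain ⟨i, hi⟩ := hcov y
    obtain ⟨t, v, ht⟩ := H29Blow.exists_germ_eq_smul M ‹_› (hU i) ⟨y, hi⟩ (M.presheaf.germ W y hy m)
    have h1 := congrArg (H06Mod.stalkLin φ y) ht
    rw [H06Mod.stalkLin_germ, h i t, map_zero, map_smul] at h1
    exact (v.isUnit.smul_left_cancel).1 (h1.symm.trans (smul_zero _).symm)

variable {k : Type u} [Field k] {K : Type u} [Field K] [Algebra k K] {X : Scheme.{u}}
  [X.Over (Spec (CommRingCat.of k))] {X' : Scheme.{u}} [X'.Over (Spec (CommRingCat.of K))] {q : X' ⟶ X}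
  (hsq : IsPullback q (X' ↘ Spec (CommRingCat.of K)) (X ↘ Spec (CommRingCat.of k))
    (Spec.map (CommRingCat.ofHom (algebraMap k K))))
  {F G : X.Modules}

include hsq in
theorem β_tmul_self {U : X.Opens} (m : Γ(G, U)) (c : K) :
    (show Γ(qF q G, q ⁻¹ᵁ U) from β K hsq G (le_refl (q ⁻¹ᵁ U)) ((show sec k G U from m) ⊗ₜ c)) =
      sc (X := X') K (q ⁻¹ᵁ U) c • OmegaSh.pullSect q G U m := by
  rw [β_tmul]
  exact congrArg (_ • ·) (ConcreteCategory.congr_hom ((qF q G).presheaf.map_id _) _)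

/-- Multiplication by a function on sections, linear over the base field. -/
def mulL (U : X.Opens) (r : Γ(X, U)) : sec k G U →ₗ[k] sec k G U where
  toFun x := (r • (show Γ(G, U) from x) : Γ(G, U))
  map_add' x y := smul_add _ _ _
  map_smul' a x := by
    show r • (sc (X := X) k U a • (show Γ(G, U) from x)) = sc (X := X) k U a • (r • (show Γ(G, U) from x))
    rw [smul_comm]

include hsq in
theorem β_mulL (U : X.Opens) (r : Γ(X, U)) (z : sec k G U ⊗[k] K) :
    (show Γ(qF q G, q ⁻¹ᵁ U) from β K hsq G (le_refl (q ⁻¹ᵁ U)) ((mulL U r).rTensor K z)) =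
      q.app U r • (show Γ(qF q G, q ⁻¹ᵁ U) from β K hsq G (le_refl (q ⁻¹ᵁ U)) z) := by
  induction z using TensorProduct.induction_on with
  | zero =>
    rw [map_zero, map_zero]
    exact (smul_zero (M := Γ(X', q ⁻¹ᵁ U)) (A := Γ(qF q G, q ⁻¹ᵁ U)) (q.app U r)).symm
  | add a b ha hb =>
    rw [map_add, map_add, map_add]
    exact (congrArg₂ (· + ·) ha hb).trans (smul_add _ _ _).symm
  | tmul m c =>
    rw [LinearMap.rTensor_tmul]
    refine (β_tmul_self hsq (r • (show Γ(G, U) from m)) c).trans ?_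
    rw [β_tmul_self hsq (show Γ(G, U) from m) c, OmegaSh.pullSect_smul, smul_comm]

theorem coord_rTensor {κ : Type*} [DecidableEq κ] (b : Module.Basis κ k K) {M N : Type u} [AddCommGroup M]
    [Module k M] [AddCommGroup N] [Module k N] (g : M →ₗ[k] N) (a : κ) (z : M ⊗[k] K) :
    TensorProduct.equivFinsuppOfBasisRight b (g.rTensor K z) a =
      g (TensorProduct.equivFinsuppOfBasisRight b z a) := by
  induction z using TensorProduct.induction_on with
  | zero => simp
  | add x y hx hy => simp [hx, hy]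
  | tmul m c => simp [TensorProduct.equivFinsuppOfBasisRight_apply_tmul_apply]

section Coord

variable [G.IsQuasicoherent] {κ : Type*} [DecidableEq κ] (b : Module.Basis κ k K)
  (ψ : qF q F ⟶ qF q G)

/-- The coordinates of `ψ` on pulled back sections. -/
def coords {U : X.Opens} (hU : IsAffineOpen U) (m : Γ(F, U)) : κ →₀ sec k G U :=
  TensorProduct.equivFinsuppOfBasisRight b
    ((LinearEquiv.ofBijective _ (bijective_β K hsq G hU rfl (le_refl (q ⁻¹ᵁ U)))).symm
      (ψ.app (q ⁻¹ᵁ U) (OmegaSh.pullSect q F U m)))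

include hsq in
theorem β_symm_spec {U : X.Opens} (hU : IsAffineOpen U) (σ : Γ(qF q G, q ⁻¹ᵁ U)) :
    (show Γ(qF q G, q ⁻¹ᵁ U) from β K hsq G (le_refl (q ⁻¹ᵁ U))
      ((LinearEquiv.ofBijective _ (bijective_β K hsq G hU rfl (le_refl (q ⁻¹ᵁ U)))).symm σ)) = σ :=
  (LinearEquiv.ofBijective _ (bijective_β K hsq G hU rfl (le_refl (q ⁻¹ᵁ U)))).apply_symm_apply σ

/-- The `a`-th coordinate as a linear map. -/
def coordLin {U : X.Opens} (hU : IsAffineOpen U) (a : κ) : Γ(F, U) →ₗ[Γ(X, U)] Γ(G, U) where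
  toFun m := (coords hsq b ψ hU m a : Γ(G, U))
  map_add' m m' := by
    show coords hsq b ψ hU (m + m') a = coords hsq b ψ hU m a + coords hsq b ψ hU m' a
    rw [← Finsupp.add_apply]
    refine congrArg (fun f : κ →₀ sec k G U => f a) ?_
    unfold coords
    rw [map_add (OmegaSh.pullSect q F U).hom m m', map_add (ψ.app (q ⁻¹ᵁ U)).hom]
    exact (congrArg _ (map_add _ _ _)).trans (map_add _ _ _)
  map_smul' r m := by
    show coords hsq b ψ hU (r • m) a = mulL U r (coords hsq b ψ hU m a)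
    unfold coords
    rw [← coord_rTensor]
    refine congrArg (fun z => TensorProduct.equivFinsuppOfBasisRight b z a) ?_
    refine (bijective_β K hsq G hU rfl (le_refl (q ⁻¹ᵁ U))).1 ?_
    show (show Γ(qF q G, q ⁻¹ᵁ U) from _) = (show Γ(qF q G, q ⁻¹ᵁ U) from _)
    rw [β_symm_spec hsq hU, β_mulL hsq, β_symm_spec hsq hU, OmegaSh.pullSect_smul]
    exact Scheme.Modules.Hom.app_smul ψ _ _

theorem coordLin_res {U U' : X.Opens} (hU : IsAffineOpen U) (hU' : IsAffineOpen U') (e : U' ≤ U) (a : κ)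
    (m : Γ(F, U)) :
    coordLin hsq b ψ hU' a (F.presheaf.map (homOfLE e).op m) =
      G.presheaf.map (homOfLE e).op (coordLin hsq b ψ hU a m) := by
  show coords hsq b ψ hU' _ a = resL k G e (coords hsq b ψ hU m a)
  unfold coords
  rw [← coord_rTensor]
  refine congrArg (fun z => TensorProduct.equivFinsuppOfBasisRight b z a) ?_
  refine (bijective_β K hsq G hU' rfl (le_refl (q ⁻¹ᵁ U'))).1 ?_
  show (show Γ(qF q G, q ⁻¹ᵁ U') from _) = (show Γ(qF q G, q ⁻¹ᵁ U') from _)
  rw [β_symm_spec hsq hU']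
  rw [← β_res K hsq G (le_refl (q ⁻¹ᵁ U)) (le_refl (q ⁻¹ᵁ U')) e (fun y hy => e hy)]
  rw [OmegaSh.pullSect_map q F e m]
  refine (H11Tilde.app_map_apply ψ (fun y hy => e hy) _).trans ?_
  exact congrArg _ (β_symm_spec hsq hU _).symm

end Coord

include hsq in
/-- Every homomorphism of inverse images is a combination of inverse images of homomorphisms. -/
theorem exists_span [F.IsQuasicoherent] [G.IsQuasicoherent] (hF : CohB1.IsFT F) [CompactSpace X]
    (ψ : qF q F ⟶ qF q G) :
    ∃ (n : ℕ) (c : Fin n → K) (φ : Fin n → (F ⟶ G)),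
      ψ = ∑ i, (Scheme.Modules.pullback q).map (φ i) ≫ Formal.smulMod K (qF q G) (c i) := by
  classical
  let b := Module.Basis.ofVectorSpace k K
  obtain ⟨n, U, hU, -, hcov⟩ := H10Coh.exists_finite_affine_cover (W := (⊤ : X.Opens))
    (by simpa using isCompact_univ)
  have hφ : ∀ a, ∃ α : F ⟶ G, ∀ (V : X.Opens) (hV : IsAffineOpen V) (s : Γ(F, V)),
      α.app V s = coordLin hsq b ψ hV a s := fun a =>
    H17.PrinOmega.exists_hom_of_basis F G IsAffineOpen
      (fun W x hx => by
        obtain ⟨V, hV, hxV, hle⟩ := exists_isAffineOpen_mem_and_subset (U := W) (x := x) hx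
        exact ⟨V, hV, hxV, hle⟩)
      (fun V hV => coordLin hsq b ψ hV a) (fun V V' h h' e s => coordLin_res hsq b ψ h h' e a s)
  choose φ hφ using hφ
  have hgen : ∀ i, ∃ s : Finset Γ(F, U i), Submodule.span Γ(X, U i) (s : Set Γ(F, U i)) = ⊤ := fun i =>
    (H10Coh.finite_sections F hF (hU i)).fg_top
  choose gens hgens using hgen
  let S := Finset.univ.biUnion fun i => (gens i).biUnion fun m => (coords hsq b ψ (hU i) m).support
  have hzero : ∀ a, a ∉ S → φ a = 0 := fun a ha => by
    refine hom_eq_zero_of_cover _ U hU (fun z => Opens.mem_iSup.1 (hcov (Set.mem_univ z))) fun i m => ?_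
    rw [hφ a (U i) (hU i) m]
    have : coordLin hsq b ψ (hU i) a = 0 := by
      refine LinearMap.ext_on (hgens i) fun g hg => ?_
      by_contra hne
      exact ha (Finset.mem_biUnion.2 ⟨i, Finset.mem_univ i,
        Finset.mem_biUnion.2 ⟨g, hg, Finsupp.mem_support_iff.2 hne⟩⟩)
    rw [this]; rfl
  suffices h : ψ = ∑ a ∈ S, (Scheme.Modules.pullback q).map (φ a) ≫ Formal.smulMod K (qF q G) (b a) by
    refine ⟨Fintype.card S, fun i => b ((Fintype.equivFin S).symm i), fun i => φ ((Fintype.equivFin S).symm i), ?_⟩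
    rw [h, ← Finset.sum_coe_sort S]
    exact (Equiv.sum_comp (Fintype.equivFin S).symm
      fun a : S => (Scheme.Modules.pullback q).map (φ a) ≫ Formal.smulMod K (qF q G) (b a)).symm
  apply ((Scheme.Modules.pullbackPushforwardAdjunction q).homEquiv F (qF q G)).injective
  refine hom_ext_affine fun V hV m => ?_
  rw [Adjunction.homEquiv_unit, Adjunction.homEquiv_unit]
  show evalAt (q ⁻¹ᵁ V) (OmegaSh.pullSect q F V m) ψ = evalAt (q ⁻¹ᵁ V) (OmegaSh.pullSect q F V m) _
  rw [map_sum]
  have hterm : ∀ a, evalAt (q ⁻¹ᵁ V) (OmegaSh.pullSect q F V m)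
      ((Scheme.Modules.pullback q).map (φ a) ≫ Formal.smulMod K (qF q G) (b a)) =
      (show Γ(qF q G, q ⁻¹ᵁ V) from β K hsq G (le_refl (q ⁻¹ᵁ V)) (coords hsq b ψ hV m a ⊗ₜ b a)) := by
    intro a
    refine Eq.trans ?_ (β_tmul_self hsq (show Γ(G, V) from coords hsq b ψ hV m a) (b a)).symm
    show sc (X := X') K (q ⁻¹ᵁ V) (b a) • ((Scheme.Modules.pullback q).map (φ a)).app (q ⁻¹ᵁ V) (OmegaSh.pullSect q F V m) = _
    rw [← H17.PullSect.pullSect_natural, hφ a V hV m]
    rfl
  have hz : (LinearEquiv.ofBijective _ (bijective_β K hsq G hV rfl (le_refl (q ⁻¹ᵁ V)))).symm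
      (ψ.app (q ⁻¹ᵁ V) (OmegaSh.pullSect q F V m)) = ∑ a ∈ S, coords hsq b ψ hV m a ⊗ₜ[k] b a := by
    refine (TensorProduct.equivFinsuppOfBasisRight b).injective (Finsupp.ext fun c => ?_)
    rw [map_sum, Finsupp.finsetSum_apply]
    show coords hsq b ψ hV m c = _
    by_cases hc : c ∈ S
    · rw [Finset.sum_eq_single c (fun a _ hne => by
        simp [TensorProduct.equivFinsuppOfBasisRight_apply_tmul_apply, Ne.symm hne]) (fun h => absurd hc h)]
      simp [TensorProduct.equivFinsuppOfBasisRight_apply_tmul_apply]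
    · rw [Finset.sum_eq_zero (fun a ha => by
        simp [TensorProduct.equivFinsuppOfBasisRight_apply_tmul_apply, show ¬ a = c from fun h => hc (h ▸ ha)])]
      exact (hφ c V hV m).symm.trans (congrArg (fun α : F ⟶ G => α.app V m) (hzero c hc))
  have h2 := β_symm_spec hsq hV (ψ.app (q ⁻¹ᵁ V) (OmegaSh.pullSect q F V m))
  rw [hz, map_sum] at h2
  rw [Finset.sum_congr rfl fun a _ => hterm a]
  exact h2.symm

include hsq in
/-- A linear retraction of `k → K` recovers a homomorphism from a combination of inverse images. -/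
theorem eq_sum_of_map_eq [G.IsQuasicoherent] (l : K →ₗ[k] k) (hl : l 1 = 1) {ι : Type*} (s : Finset ι)
    (c : ι → K) (x : ι → (F ⟶ G)) (y : F ⟶ G)
    (h : ∑ i ∈ s, (Scheme.Modules.pullback q).map (x i) ≫ Formal.smulMod K (qF q G) (c i) =
      (Scheme.Modules.pullback q).map y) :
    y = ∑ i ∈ s, x i ≫ Formal.smulMod k G (l (c i)) := by
  refine hom_ext_affine fun V hV m => ?_
  show evalAt V m y = evalAt V m _
  rw [map_sum]
  have h1 := congrArg (evalAt (q ⁻¹ᵁ V) (OmegaSh.pullSect q F V m)) h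
  rw [map_sum] at h1
  have hterm : ∀ i, evalAt (q ⁻¹ᵁ V) (OmegaSh.pullSect q F V m)
      ((Scheme.Modules.pullback q).map (x i) ≫ Formal.smulMod K (qF q G) (c i)) =
      (show Γ(qF q G, q ⁻¹ᵁ V) from β K hsq G (le_refl (q ⁻¹ᵁ V))
        ((show sec k G V from (x i).app V m) ⊗ₜ c i)) := by
    intro i
    refine Eq.trans ?_ (β_tmul_self hsq ((x i).app V m) (c i)).symm
    show sc (X := X') K (q ⁻¹ᵁ V) (c i) • ((Scheme.Modules.pullback q).map (x i)).app (q ⁻¹ᵁ V) (OmegaSh.pullSect q F V m) = _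
    rw [← H17.PullSect.pullSect_natural]
  have hy : evalAt (q ⁻¹ᵁ V) (OmegaSh.pullSect q F V m) ((Scheme.Modules.pullback q).map y) =
      (show Γ(qF q G, q ⁻¹ᵁ V) from β K hsq G (le_refl (q ⁻¹ᵁ V))
        ((show sec k G V from y.app V m) ⊗ₜ (1 : K))) := by
    refine Eq.trans ?_ (β_tmul_self hsq (y.app V m) 1).symm
    rw [map_one, one_smul]
    exact (H17.PullSect.pullSect_natural q y V m).symm
  rw [Finset.sum_congr rfl fun i _ => hterm i, hy] at h1
  have h2 : (∑ i ∈ s, (show sec k G V from (x i).app V m) ⊗ₜ[k] c i) = (show sec k G V from y.app V m) ⊗ₜ[k] (1 : K) := by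
    refine (bijective_β K hsq G hV rfl (le_refl (q ⁻¹ᵁ V))).1 ?_
    rw [map_sum]
    exact h1
  have h3 := congrArg ((TensorProduct.rid k (sec k G V)).toLinearMap ∘ₗ l.lTensor (sec k G V)) h2
  simp only [LinearMap.comp_apply, map_sum, LinearMap.lTensor_tmul, LinearEquiv.coe_coe, TensorProduct.rid_tmul,
    hl, one_smul] at h3
  exact h3.symm

/-- A linear retraction of `k → K`. -/
theorem exists_retraction : ∃ l : K →ₗ[k] k, l 1 = 1 := by
  obtain ⟨l, hl⟩ := (Algebra.linearMap k K).exists_leftInverse_of_injective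
    (LinearMap.ker_eq_bot.2 (algebraMap k K).injective)
  exact ⟨l, by simpa using LinearMap.congr_fun hl 1⟩

include hsq in
/-- The inverse image is faithful. -/
theorem map_injective [G.IsQuasicoherent] (y : F ⟶ G) (h : (Scheme.Modules.pullback q).map y = 0) : y = 0 := by
  obtain ⟨l, hl⟩ := exists_retraction (k := k) (K := K)
  have := eq_sum_of_map_eq hsq l hl (∅ : Finset Empty) (fun e => e.elim) (fun e => e.elim) y
    (by rw [Finset.sum_empty]; exact h.symm)
  simpa using this

end Groth.Agent.H23KS
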