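import Mathlib

/-!
# Krull–Schmidt decompositions in an abelian category

An object whose endomorphism ring is a finite-dimensional algebra over a field is, in an essentially unique way,
a finite direct sum of indecomposable objects.
-/

set_option autoImplicit false

open CategoryTheory CategoryTheory.Limits

universe v u

namespace Groth.Agent.H23KS

noncomputable section

variable {C : Type u} [Category.{v} C] [Abelian C]

attribute [local instance] Abelian.hasFiniteBiproducts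

/-- Nonzero, and not a direct sum of two nonzero objects. -/
def Indec (A : C) : Prop :=
  ¬ IsZero A ∧ ∀ B D : C, Nonempty (A ≅ B ⊞ D) → IsZero B ∨ IsZero D

/-- The endomorphisms of `A` are strongly π-regular. -/
def PiReg (A : C) : Prop :=
  ∀ f : End A, ∃ n : ℕ, 0 < n ∧ ∃ a : End A, f ^ n = f ^ (n + 1) * a ∧ f ^ n = a * f ^ (n + 1)

theorem piReg_of_finite (k : Type*) [Field k] (A : C) [Algebra k (End A)] [Module.Finite k (End A)] :
    PiReg A := by
  intro f
  have hint : IsIntegral k f := Algebra.IsIntegral.isIntegral f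
  obtain ⟨q, hq, hq0⟩ := Polynomial.exists_eq_pow_rootMultiplicity_mul_and_not_dvd (minpoly k f)
    (minpoly.ne_zero hint) 0
  set n := (minpoly k f).rootMultiplicity 0
  rw [map_zero, sub_zero] at hq hq0
  have hc : q.coeff 0 ≠ 0 := fun h => hq0 (Polynomial.X_dvd_iff.2 h)
  set s := Polynomial.aeval f (Polynomial.C (-(q.coeff 0)⁻¹) * q.divX)
  have hcomm : Commute f s := by
    have : f = Polynomial.aeval f (Polynomial.X : Polynomial k) := (Polynomial.aeval_X f).symm
    nth_rewrite 1 [this]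
    exact (Commute.all _ _).map _
  have key : f ^ n = f ^ (n + 1) * s := by
    have h := minpoly.aeval k f
    rw [hq, map_mul, map_pow, Polynomial.aeval_X] at h
    nth_rewrite 1 [← Polynomial.X_mul_divX_add q] at h
    rw [map_add, map_mul, Polynomial.aeval_X, Polynomial.aeval_C, mul_add, ← mul_assoc, ← pow_succ,
      ← Algebra.commutes, ← Algebra.smul_def] at h
    show f ^ n = f ^ (n + 1) * Polynomial.aeval f (Polynomial.C (-(q.coeff 0)⁻¹) * q.divX)
    rw [map_mul, Polynomial.aeval_C, ← Algebra.smul_def, mul_smul_comm,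
      eq_neg_of_add_eq_zero_left h, smul_neg, neg_smul, neg_neg, inv_smul_smul₀ hc]
  refine ⟨n + 1, Nat.succ_pos n, s, ?_, ?_⟩
  · rw [pow_succ' f (n + 1), mul_assoc, ← key, ← pow_succ']
  · rw [← (hcomm.pow_left (n + 1 + 1)).eq, pow_succ' f (n + 1), mul_assoc, ← key, ← pow_succ']

theorem PiReg.of_retract {F A : C} (hF : PiReg F) (i : A ⟶ F) (r : F ⟶ A) (h : i ≫ r = 𝟙 A) : PiReg A := by
  intro f
  let F' : End F := r ≫ f ≫ i
  obtain ⟨n, hn, g, h1, h2⟩ := hF F'
  have hp : ∀ m : ℕ, i ≫ (F' ^ m : End F) = (f ^ m : End A) ≫ i := by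
    intro m
    induction m with
    | zero => simp [pow_zero, End.one_def]
    | succ m ih =>
      rw [pow_succ', pow_succ', End.mul_def, End.mul_def, ← Category.assoc, ih, Category.assoc]
      simp [F', reassoc_of% h]
  have hp' : ∀ m : ℕ, (F' ^ m : End F) ≫ r = r ≫ (f ^ m : End A) := by
    intro m
    induction m with
    | zero => simp [pow_zero, End.one_def]
    | succ m ih =>
      rw [pow_succ, pow_succ, End.mul_def, End.mul_def, Category.assoc, ih]
      simp [F', reassoc_of% h]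
  let a : End A := i ≫ g ≫ r
  refine ⟨n, hn, a, ?_, ?_⟩
  · calc f ^ n = i ≫ (F' ^ n : End F) ≫ r := by rw [reassoc_of% (hp n), h, Category.comp_id]
      _ = i ≫ g ≫ (F' ^ (n + 1) : End F) ≫ r := by rw [h1, End.mul_def, Category.assoc]
      _ = f ^ (n + 1) * a := by rw [hp', End.mul_def]; simp [a]
  · calc f ^ n = i ≫ (F' ^ n : End F) ≫ r := by rw [reassoc_of% (hp n), h, Category.comp_id]
      _ = (i ≫ (F' ^ (n + 1) : End F)) ≫ g ≫ r := by rw [h2, End.mul_def]; simp
      _ = a * f ^ (n + 1) := by rw [hp, End.mul_def]; simp [a]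

/-- The corner projection attached to an idempotent. -/
theorem exists_split {A : C} (e : A ⟶ A) (he : e ≫ e = e) :
    ∃ (B D : C) (φ : A ≅ B ⊞ D), e = φ.hom ≫ biprod.fst ≫ biprod.inl ≫ φ.inv := by
  obtain ⟨B, i, r, hir, hri⟩ := IsIdempotentComplete.idempotents_split A e he
  have he' : (𝟙 A - e) ≫ (𝟙 A - e) = 𝟙 A - e := Idempotents.idem_of_id_sub_idem e he
  obtain ⟨D, j, q, hjq, hqj⟩ := IsIdempotentComplete.idempotents_split A (𝟙 A - e) he'
  have hiq : i ≫ q = 0 := by
    have : i ≫ q = i ≫ (r ≫ i) ≫ (q ≫ j) ≫ q := by simp [reassoc_of% hir, hjq]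
    rw [this, hri, hqj, ← Category.assoc e, Preadditive.comp_sub, Category.comp_id, he, sub_self, zero_comp,
      comp_zero]
  have hjr : j ≫ r = 0 := by
    have : j ≫ r = j ≫ (q ≫ j) ≫ (r ≫ i) ≫ r := by simp [reassoc_of% hjq, hir]
    rw [this, hri, hqj, ← Category.assoc _ e, Preadditive.sub_comp, Category.id_comp, he, sub_self, zero_comp,
      comp_zero]
  refine ⟨B, D, ⟨biprod.lift r q, biprod.desc i j, ?_, ?_⟩, ?_⟩
  · rw [biprod.lift_desc, hri, hqj, add_sub_cancel]
  · ext <;> simp [hir, hjq, hiq, hjr]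
  · simp [hri]

theorem eq_zero_or_one_of_idem {A : C} (hA : Indec A) (e : End A) (he : e * e = e) : e = 0 ∨ e = 1 := by
  obtain ⟨B, D, φ, rfl⟩ := exists_split (A := A) e he
  rcases hA.2 B D ⟨φ⟩ with h | h
  · left
    rw [h.eq_of_src biprod.inl 0]
    simp
  · right
    have : biprod.fst ≫ (biprod.inl : B ⟶ B ⊞ D) = 𝟙 _ := by
      conv_rhs => rw [← biprod.total, h.eq_of_src biprod.inr 0, comp_zero, add_zero]
    rw [End.one_def, reassoc_of% this, Iso.hom_inv_id]

theorem isUnit_or_isNilpotent {A : C} (hA : Indec A) (hP : PiReg A) (f : End A) : IsUnit f ∨ IsNilpotent f := by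
  obtain ⟨n, hn, a, h1, h2⟩ := hP f
  have hR : ∀ m : ℕ, f ^ n = f ^ (n + m) * a ^ m := by
    intro m
    induction m with
    | zero => simp
    | succ m ih =>
      rw [pow_succ' a, ← mul_assoc]
      refine ih.trans (congrArg (· * a ^ m) ?_)
      calc f ^ (n + m) = f ^ m * f ^ n := by rw [← pow_add, add_comm]
        _ = f ^ m * (f ^ (n + 1) * a) := by rw [← h1]
        _ = f ^ (n + (m + 1)) * a := by rw [← mul_assoc, ← pow_add]; congr 2; omega
  have hL : ∀ m : ℕ, f ^ n = a ^ m * f ^ (n + m) := by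
    intro m
    induction m with
    | zero => simp
    | succ m ih =>
      rw [pow_succ a, mul_assoc]
      refine ih.trans (congrArg (a ^ m * ·) ?_)
      calc f ^ (n + m) = f ^ n * f ^ m := by rw [← pow_add]
        _ = (a * f ^ (n + 1)) * f ^ m := by rw [← h2]
        _ = a * f ^ (n + (m + 1)) := by rw [mul_assoc, ← pow_add]; congr 2; omega
  set e := f ^ n * a ^ n with he_def
  have hr : f ^ n = f ^ n * e := by rw [he_def, ← mul_assoc, ← pow_add]; exact hR n
  have hl : f ^ n = a ^ n * f ^ n * f ^ n := by rw [mul_assoc, ← pow_add]; exact hL n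
  have hc : a ^ n * f ^ n = e := by
    conv_lhs => rw [hr, he_def, ← mul_assoc, ← mul_assoc, ← hl]
  have hee : e * e = e := by
    calc e * e = f ^ n * (a ^ n * f ^ n) * a ^ n := by rw [he_def]; simp [mul_assoc]
      _ = f ^ n * a ^ n := by rw [hc, ← hr]
  rcases eq_zero_or_one_of_idem hA e hee with h | h
  · exact Or.inr ⟨n, by rw [hr, h, mul_zero]⟩
  · exact Or.inl ((isUnit_pow_iff (by omega)).1 ⟨⟨f ^ n, a ^ n, h, hc.trans h⟩, rfl⟩)

theorem isUnit_or_isUnit_of_isUnit_add {A : C} (hA : Indec A) (hP : PiReg A) {x y : End A}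
    (h : IsUnit (x + y)) : IsUnit x ∨ IsUnit y := by
  obtain ⟨u, hu⟩ := h
  rcases isUnit_or_isNilpotent hA hP (x * (↑u⁻¹ : End A)) with h1 | h1
  · left
    have := h1.mul u.isUnit
    rwa [mul_assoc, Units.inv_mul, mul_one] at this
  · right
    have h2 : y * (↑u⁻¹ : End A) = 1 - x * (↑u⁻¹ : End A) := by
      rw [eq_sub_iff_add_eq, ← add_mul, add_comm, ← hu, Units.mul_inv]
    have := (h2 ▸ h1.isUnit_one_sub).mul u.isUnit
    rwa [mul_assoc, Units.inv_mul, mul_one] at this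

theorem not_isUnit_zero {A : C} (hA : Indec A) : ¬ IsUnit (0 : End A) := by
  intro h
  rw [isUnit_zero_iff] at h
  exact hA.1 ((IsZero.iff_id_eq_zero _).2 h.symm)

theorem exists_isUnit_of_sum {A : C} (hA : Indec A) (hP : PiReg A) {J : Type*} (s : Finset J) (x : J → End A)
    (h : IsUnit (∑ j ∈ s, x j)) : ∃ j ∈ s, IsUnit (x j) := by
  classical
  induction s using Finset.induction_on with
  | empty => exact absurd (by simpa using h) (not_isUnit_zero hA)
  | insert a t ha ih =>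
    rw [Finset.sum_insert ha] at h
    rcases isUnit_or_isUnit_of_isUnit_add hA hP h with h' | h'
    · exact ⟨a, Finset.mem_insert_self a t, h'⟩
    · obtain ⟨j, hj, hj'⟩ := ih h'
      exact ⟨j, Finset.mem_insert_of_mem hj, hj'⟩

/-- Splitting one summand off a finite biproduct. -/
def biproductSplit {ι : Type} [Fintype ι] [DecidableEq ι] (f : ι → C) (i : ι) :
    ⨁ f ≅ f i ⊞ ⨁ (Subtype.restrict (fun x => x ≠ i) f) where
  hom := biprod.lift (biproduct.π f i) (biproduct.toSubtype f (fun x => x ≠ i))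
  inv := biprod.desc (biproduct.ι f i) (biproduct.fromSubtype f (fun x => x ≠ i))
  hom_inv_id := by
    classical
    rw [biprod.lift_desc, biproduct.toSubtype_fromSubtype]
    refine biproduct.hom_ext' _ _ fun j => biproduct.hom_ext _ _ fun l => ?_
    simp only [Preadditive.comp_add, Preadditive.add_comp, Category.assoc, biproduct.map_π, Category.comp_id]
    by_cases hji : j = i <;> by_cases hjl : j = l
    · subst hji; subst hjl; simp
    · subst hji; simp [biproduct.ι_π_ne _ hjl]; rw [← Category.assoc, biproduct.ι_π_ne _ hjl, zero_comp]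
    · subst hjl; simp [biproduct.ι_π_ne_assoc _ hji, hji]
    · simp [biproduct.ι_π_ne _ hjl, biproduct.ι_π_ne_assoc _ hji, biproduct.ι_π_ne_assoc _ hjl]
  inv_hom_id := by
    classical
    ext j
    · simp
    · simp
    · simp
      exact biproduct.ι_π_ne f j.2
    · simp
      rename_i l
      by_cases h : j = l
      · subst h
        rw [biproduct.ι_π_self]
        exact biproduct.ι_π_self f _
      · simp [biproduct.ι_π_ne _ h]
        exact biproduct.ι_π_ne f (fun h' => h (Subtype.ext h'))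

theorem retract_π {F : C} {ι : Type} [Fintype ι] [DecidableEq ι] {f : ι → C} (s : ⨁ f ⟶ F) (r : F ⟶ ⨁ f)
    (h : s ≫ r = 𝟙 _) (i : ι) : (biproduct.ι f i ≫ s) ≫ (r ≫ biproduct.π f i) = 𝟙 _ := by
  rw [Category.assoc, reassoc_of% h, biproduct.ι_π_self]

theorem unique_aux {F : C} (hF : PiReg F) : ∀ (N : ℕ) (ι κ : Type) [Fintype ι] [Fintype κ] [DecidableEq ι]
    [DecidableEq κ] (f : ι → C) (g : κ → C), Fintype.card ι = N → (∀ i, Indec (f i)) → (∀ j, Indec (g j)) →
    ∀ (s : ⨁ f ⟶ F) (r : F ⟶ ⨁ f), s ≫ r = 𝟙 _ → (⨁ f ≅ ⨁ g) →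
      ∃ σ : ι ≃ κ, ∀ i, Nonempty (f i ≅ g (σ i)) := by
  intro N
  induction N with
  | zero =>
    intro ι κ _ _ _ _ f g hN _ hg s r _ e
    haveI : IsEmpty ι := Fintype.card_eq_zero_iff.1 hN
    have hz : IsZero (⨁ g) := by
      refine IsZero.of_iso ((IsZero.iff_id_eq_zero _).2 ?_) e.symm
      exact biproduct.hom_ext _ _ fun i => isEmptyElim i
    haveI : IsEmpty κ := ⟨fun j => (hg j).1 ((IsZero.iff_id_eq_zero _).2 (by
      rw [← biproduct.ι_π_self g j, hz.eq_of_tgt (biproduct.ι g j) 0, zero_comp]))⟩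
    exact ⟨Equiv.equivOfIsEmpty ι κ, fun i => isEmptyElim i⟩
  | succ N ih =>
    intro ι κ _ _ _ _ f g hN hf hg s r hsr e
    obtain ⟨i⟩ : Nonempty ι := Fintype.card_pos_iff.1 (by omega)
    have hPi : PiReg (f i) := hF.of_retract _ _ (retract_π s r hsr i)
    let x : κ → End (f i) := fun j =>
      (biproduct.ι f i ≫ e.hom ≫ biproduct.π g j) ≫ biproduct.ι g j ≫ e.inv ≫ biproduct.π f i
    have hsum : ∑ j, x j = 1 := by
      show ∑ j, ((biproduct.ι f i ≫ e.hom ≫ biproduct.π g j) ≫ biproduct.ι g j ≫ e.inv ≫ biproduct.π f i) = 𝟙 (f i)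
      have h1 : ∀ j, (biproduct.ι f i ≫ e.hom ≫ biproduct.π g j) ≫ biproduct.ι g j ≫ e.inv ≫ biproduct.π f i =
          (biproduct.ι f i ≫ e.hom) ≫ (biproduct.π g j ≫ biproduct.ι g j) ≫ e.inv ≫ biproduct.π f i := by
        intro j; simp
      rw [Finset.sum_congr rfl fun j _ => h1 j, ← Preadditive.comp_sum, ← Preadditive.sum_comp, biproduct.total,
        Category.id_comp, Category.assoc, Iso.hom_inv_id_assoc, biproduct.ι_π_self]
    obtain ⟨j, -, hu⟩ := exists_isUnit_of_sum (hf i) hPi Finset.univ x (hsum ▸ isUnit_one)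
    let a := biproduct.ι f i ≫ e.hom ≫ biproduct.π g j
    let b := biproduct.ι g j ≫ e.inv ≫ biproduct.π f i
    haveI : IsIso (a ≫ b) := (isUnit_iff_isIso _).1 hu
    haveI : IsIso a := by
      refine ⟨b ≫ inv (a ≫ b), by rw [← Category.assoc, IsIso.hom_inv_id], ?_⟩
      let e' : End (g j) := (b ≫ inv (a ≫ b)) ≫ a
      have hid : e' * e' = e' := by
        show ((b ≫ inv (a ≫ b)) ≫ a) ≫ (b ≫ inv (a ≫ b)) ≫ a = _
        simp only [e', Category.assoc]
        rw [← Category.assoc a b, IsIso.hom_inv_id_assoc]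
      rcases eq_zero_or_one_of_idem (hg j) e' hid with h0 | h0
      · refine absurd ((IsZero.iff_id_eq_zero (f i)).2 ?_) (hf i).1
        have h1 : a ≫ (b ≫ inv (a ≫ b)) ≫ a ≫ b ≫ inv (a ≫ b) = 𝟙 _ := by
          simp only [← Category.assoc, IsIso.hom_inv_id, Category.id_comp]
        have h3 : (b ≫ inv (a ≫ b)) ≫ a ≫ b ≫ inv (a ≫ b) = e' ≫ b ≫ inv (a ≫ b) := (Category.assoc _ _ _).symm
        rw [h3, h0, zero_comp, comp_zero] at h1
        exact h1.symm
      · exact h0
    let E := (biproductSplit f i).symm ≪≫ e ≪≫ biproductSplit g j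
    haveI : IsIso (biprod.inl ≫ E.hom ≫ biprod.fst) := by
      have : biprod.inl ≫ E.hom ≫ biprod.fst = a := by simp [E, a, biproductSplit]
      rw [this]; infer_instance
    have e2 := Biprod.isoElim E
    obtain ⟨σ, hσ⟩ := ih {x // x ≠ i} {x // x ≠ j} (Subtype.restrict _ f) (Subtype.restrict _ g)
      (by rw [Fintype.card_subtype_compl, Fintype.card_subtype_eq, hN, Nat.add_sub_cancel])
      (fun x => hf x.1) (fun x => hg x.1)
      (biprod.inr ≫ (biproductSplit f i).inv ≫ s) (r ≫ (biproductSplit f i).hom ≫ biprod.snd)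
      (by simp [reassoc_of% hsr]) e2
    refine ⟨(Equiv.optionSubtypeNe i).symm.trans (σ.optionCongr.trans (Equiv.optionSubtypeNe j)), fun x => ?_⟩
    by_cases hx : x = i
    · subst hx
      simpa using ⟨asIso a⟩
    · simpa [Equiv.optionSubtypeNe_symm_of_ne hx] using hσ ⟨x, hx⟩

/-- A decomposition presented by injections and projections. -/
structure Dec (A : C) where
  idx : Type
  fin : Fintype idx
  obj : idx → C
  indec : ∀ i, Indec (obj i)
  inc : ∀ i, obj i ⟶ A
  proj : ∀ i, A ⟶ obj i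
  inc_proj_self : ∀ i, inc i ≫ proj i = 𝟙 _
  inc_proj_ne : ∀ i j, i ≠ j → inc i ≫ proj j = 0
  total : (letI := fin; ∑ i, proj i ≫ inc i) = 𝟙 A

theorem nonempty_dec (k : Type*) [Field k] (F : C) [Algebra k (End F)] [Module.Finite k (End F)] :
    ∀ (A : C) (i : A ⟶ F) (r : F ⟶ A), i ≫ r = 𝟙 A → Nonempty (Dec A) := by
  classical
  let corner : End F → Submodule k (End F) := fun e => LinearMap.range (LinearMap.mulLeftRight k (e, e))
  suffices h : ∀ (d : ℕ) (A : C) (i : A ⟶ F) (r : F ⟶ A), i ≫ r = 𝟙 A →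
      Module.finrank k (corner (r ≫ i)) ≤ d → Nonempty (Dec A) from
    fun A i r h' => h _ A i r h' le_rfl
  intro d
  induction d using Nat.strong_induction_on with
  | _ d ih =>
    intro A i r hir hd
    by_cases hz : IsZero A
    · exact ⟨⟨Empty, inferInstance, Empty.elim, fun x => x.elim, fun x => x.elim, fun x => x.elim,
        fun x => x.elim, fun x => x.elim, hz.eq_of_src _ _⟩⟩
    by_cases hI : Indec A
    · exact ⟨⟨Unit, inferInstance, fun _ => A, fun _ => hI, fun _ => 𝟙 A, fun _ => 𝟙 A,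
        fun _ => Category.id_comp _, fun a b h => absurd rfl h, by simp⟩⟩
    simp only [Indec, hz, not_false_eq_true, true_and, not_forall, not_or] at hI
    obtain ⟨B, D, ⟨φ⟩, hB, hD⟩ := hI
    have step : ∀ (S T : C) (j : S ⟶ A) (q : A ⟶ S) (j' : T ⟶ A) (q' : A ⟶ T), j ≫ q = 𝟙 S → j' ≫ q' = 𝟙 T →
        j' ≫ q = 0 → ¬ IsZero T → Nonempty (Dec S) := by
      intro S T j q j' q' h1 h2 h3 hT
      have hjr : (j ≫ i) ≫ (r ≫ q) = 𝟙 S := by rw [Category.assoc, reassoc_of% hir, h1]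
      refine ih _ ?_ S (j ≫ i) (r ≫ q) hjr le_rfl
      refine lt_of_lt_of_le (Submodule.finrank_lt_finrank_of_lt (lt_of_le_of_ne ?_ ?_)) hd
      · rintro _ ⟨x, rfl⟩
        let e₁ : End F := (r ≫ q) ≫ (j ≫ i)
        refine ⟨e₁ * x * e₁, ?_⟩
        simp only [e₁, LinearMap.mulLeftRight_apply, End.mul_def, Category.assoc, reassoc_of% hir]
      · intro heq
        have hmem : (r ≫ i) ∈ corner (r ≫ i) := ⟨1, by
          simp [LinearMap.mulLeftRight_apply, End.mul_def, End.one_def, reassoc_of% hir]⟩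
        rw [← heq] at hmem
        obtain ⟨x, hx⟩ := hmem
        have h4 : (j' ≫ i) ≫ (r ≫ i) = (j' ≫ i) ≫ ((r ≫ q) ≫ (j ≫ i)) ≫ x ≫ ((r ≫ q) ≫ (j ≫ i)) := by
          rw [← hx]
          simp [LinearMap.mulLeftRight_apply, End.mul_def]
        simp only [Category.assoc, reassoc_of% hir, reassoc_of% h3, zero_comp, comp_zero] at h4
        refine hT ((IsZero.iff_id_eq_zero _).2 ?_)
        rw [← h2, ← Category.comp_id j', ← hir, reassoc_of% h4, zero_comp, zero_comp]
    obtain ⟨dB⟩ := step B D (biprod.inl ≫ φ.inv) (φ.hom ≫ biprod.fst) (biprod.inr ≫ φ.inv) (φ.hom ≫ biprod.snd)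
      (by simp) (by simp) (by simp) hD
    obtain ⟨dD⟩ := step D B (biprod.inr ≫ φ.inv) (φ.hom ≫ biprod.snd) (biprod.inl ≫ φ.inv) (φ.hom ≫ biprod.fst)
      (by simp) (by simp) (by simp) hB
    letI := dB.fin
    letI := dD.fin
    refine ⟨⟨dB.idx ⊕ dD.idx, inferInstance, Sum.elim dB.obj dD.obj, Sum.rec dB.indec dD.indec,
      Sum.rec (fun a => dB.inc a ≫ biprod.inl ≫ φ.inv) (fun a => dD.inc a ≫ biprod.inr ≫ φ.inv),
      Sum.rec (fun a => φ.hom ≫ biprod.fst ≫ dB.proj a) (fun a => φ.hom ≫ biprod.snd ≫ dD.proj a),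
      ?_, ?_, ?_⟩⟩
    · rintro (a | a)
      · show (dB.inc a ≫ biprod.inl ≫ φ.inv) ≫ φ.hom ≫ biprod.fst ≫ dB.proj a = 𝟙 (dB.obj a)
        simp [dB.inc_proj_self]
      · show (dD.inc a ≫ biprod.inr ≫ φ.inv) ≫ φ.hom ≫ biprod.snd ≫ dD.proj a = 𝟙 (dD.obj a)
        simp [dD.inc_proj_self]
    · rintro (a | a) (b | b) hab
      · show (dB.inc a ≫ biprod.inl ≫ φ.inv) ≫ φ.hom ≫ biprod.fst ≫ dB.proj b = 0
        simp [dB.inc_proj_ne a b (fun h => hab (congrArg Sum.inl h))]
      · show (dB.inc a ≫ biprod.inl ≫ φ.inv) ≫ φ.hom ≫ biprod.snd ≫ dD.proj b = 0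
        simp
      · show (dD.inc a ≫ biprod.inr ≫ φ.inv) ≫ φ.hom ≫ biprod.fst ≫ dB.proj b = 0
        simp
      · show (dD.inc a ≫ biprod.inr ≫ φ.inv) ≫ φ.hom ≫ biprod.snd ≫ dD.proj b = 0
        simp [dD.inc_proj_ne a b (fun h => hab (congrArg Sum.inr h))]
    · rw [Fintype.sum_sum_type]
      have hB' : ∀ a, (φ.hom ≫ biprod.fst ≫ dB.proj a) ≫ dB.inc a ≫ biprod.inl ≫ φ.inv =
          (φ.hom ≫ biprod.fst) ≫ (dB.proj a ≫ dB.inc a) ≫ biprod.inl ≫ φ.inv := by intro a; simp
      have hD' : ∀ a, (φ.hom ≫ biprod.snd ≫ dD.proj a) ≫ dD.inc a ≫ biprod.inr ≫ φ.inv =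
          (φ.hom ≫ biprod.snd) ≫ (dD.proj a ≫ dD.inc a) ≫ biprod.inr ≫ φ.inv := by intro a; simp
      show (∑ a, (φ.hom ≫ biprod.fst ≫ dB.proj a) ≫ dB.inc a ≫ biprod.inl ≫ φ.inv) +
        (∑ a, (φ.hom ≫ biprod.snd ≫ dD.proj a) ≫ dD.inc a ≫ biprod.inr ≫ φ.inv) = 𝟙 A
      rw [Finset.sum_congr rfl fun a _ => hB' a, Finset.sum_congr rfl fun a _ => hD' a, ← Preadditive.comp_sum,
        ← Preadditive.comp_sum, ← Preadditive.sum_comp, ← Preadditive.sum_comp, dB.total, dD.total]
      simp only [Category.id_comp, Category.assoc, ← Preadditive.comp_add]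
      rw [← Category.assoc biprod.fst, ← Category.assoc biprod.snd, ← Preadditive.add_comp, biprod.total]
      simp

theorem existence (k : Type*) [Field k] (F : C) [Algebra k (End F)] [Module.Finite k (End F)] :
    ∃ (n : ℕ) (Fs : Fin n → C), (∀ i, Indec (Fs i)) ∧ Nonempty (F ≅ ⨁ Fs) := by
  classical
  obtain ⟨d⟩ := nonempty_dec k F F (𝟙 F) (𝟙 F) (Category.id_comp _)
  letI := d.fin
  let e := (Fintype.equivFin d.idx).symm
  refine ⟨Fintype.card d.idx, fun i => d.obj (e i), fun i => d.indec _,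
    ⟨⟨biproduct.lift fun i => d.proj (e i), biproduct.desc fun i => d.inc (e i), ?_, ?_⟩⟩⟩
  · rw [biproduct.lift_desc, e.sum_comp (fun a => d.proj a ≫ d.inc a), d.total]
  · refine biproduct.hom_ext' _ _ fun a => biproduct.hom_ext _ _ fun b => ?_
    by_cases hab : a = b
    · subst hab; simp [d.inc_proj_self]
    · simp [d.inc_proj_ne _ _ (fun h => hab (e.injective h)), biproduct.ι_π_ne _ hab]

theorem uniqueness (k : Type*) [Field k] (F : C) [Algebra k (End F)] [Module.Finite k (End F)] {n m : ℕ}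
    (Fs : Fin n → C) (Gs : Fin m → C) (hf : ∀ i, Indec (Fs i)) (hg : ∀ j, Indec (Gs j))
    (a : F ≅ ⨁ Fs) (b : F ≅ ⨁ Gs) : ∃ σ : Fin n ≃ Fin m, ∀ i, Nonempty (Fs i ≅ Gs (σ i)) :=
  unique_aux (piReg_of_finite k F) n (Fin n) (Fin m) Fs Gs (Fintype.card_fin n) hf hg a.inv a.hom a.inv_hom_id
    (a.symm ≪≫ b)

end

end Groth.Agent.H23KS
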