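import Groth.Agent.H23KS.Basic

/-!
# Cancellation of direct summands
-/

set_option autoImplicit false

open CategoryTheory CategoryTheory.Limits

universe v u

namespace Groth.Agent.H23KS

noncomputable section

variable {C : Type u} [Category.{v} C] [Abelian C]

attribute [local instance] Abelian.hasFiniteBiproducts

theorem isUnit_of_mono {A : C} (hA : Indec A) (hP : PiReg A) (a : End A) [Mono (a : A ⟶ A)] : IsUnit a := by
  rcases isUnit_or_isNilpotent hA hP a with h | ⟨n, hn⟩
  · exact h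
  · exfalso
    have hm : ∀ m : ℕ, Mono ((a ^ m : End A) : A ⟶ A) := by
      intro m
      induction m with
      | zero => rw [pow_zero]; exact inferInstanceAs (Mono (𝟙 A))
      | succ m ih =>
        rw [pow_succ, End.mul_def]
        exact mono_comp _ _
    have := hm n
    rw [hn] at this
    exact hA.1 ((IsZero.iff_id_eq_zero _).2 ((cancel_mono (0 : A ⟶ A)).1 (by simp)))

/-- An indecomposable summand with strongly π-regular endomorphisms cancels. -/
theorem cancel_indec {Q A B : C} (hQ : Indec Q) (hP : PiReg Q) (E : Q ⊞ A ≅ Q ⊞ B) : Nonempty (A ≅ B) := by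
  let a : End Q := biprod.inl ≫ E.hom ≫ biprod.fst
  by_cases ha : IsUnit a
  · haveI : IsIso (biprod.inl ≫ E.hom ≫ biprod.fst) := (isUnit_iff_isIso _).1 ha
    exact ⟨Biprod.isoElim E⟩
  · let c' : B ⟶ Q := biprod.inr ≫ E.inv ≫ biprod.fst
    let a' : End Q := biprod.inl ≫ E.inv ≫ biprod.fst
    let E' := E ≪≫ Biprod.unipotentLower c'
    let b' : End Q := (biprod.inl ≫ E.hom ≫ biprod.snd) ≫ c'
    let m : End Q := biprod.inl ≫ E'.hom ≫ biprod.fst
    let w : End Q := a' - 1
    have hone : (1 : End Q) = a' * a + b' := by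
      show 𝟙 Q = (biprod.inl ≫ E.hom ≫ biprod.fst) ≫ (biprod.inl ≫ E.inv ≫ biprod.fst) +
        (biprod.inl ≫ E.hom ≫ biprod.snd) ≫ (biprod.inr ≫ E.inv ≫ biprod.fst)
      simp only [Category.assoc, ← Preadditive.comp_add]
      rw [← Category.assoc biprod.fst, ← Category.assoc biprod.snd, ← Preadditive.add_comp, biprod.total,
        Category.id_comp, Iso.hom_inv_id_assoc, biprod.inl_fst]
    have hcomp : m = 1 - w * a := by
      have h1 : m = a + b' := by
        simp [m, E', a, b', Biprod.unipotentLower, Biprod.ofComponents, Preadditive.comp_add, Preadditive.add_comp]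
      rw [h1, show w = a' - 1 from rfl, sub_mul, one_mul, hone]
      abel
    have hnil : IsNilpotent (w * a) := by
      rcases isUnit_or_isNilpotent hQ hP (w * a) with h | h
      · refine absurd ?_ ha
        haveI : IsIso ((a : Q ⟶ Q) ≫ (w : Q ⟶ Q)) := (isUnit_iff_isIso _).1 h
        haveI : Mono (a : Q ⟶ Q) := mono_of_mono (a : Q ⟶ Q) (w : Q ⟶ Q)
        exact isUnit_of_mono hQ hP a
      · exact h
    haveI : IsIso (biprod.inl ≫ E'.hom ≫ biprod.fst) := by
      refine (isUnit_iff_isIso m).1 ?_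
      rw [hcomp]
      exact hnil.isUnit_one_sub
    exact ⟨Biprod.isoElim E'⟩

/-- Objects with decompositions cancel. -/
theorem cancel_aux {F : C} (hF : PiReg F) : ∀ (N : ℕ) (ι : Type) [Fintype ι] [DecidableEq ι] (f : ι → C),
    Fintype.card ι = N → (∀ i, Indec (f i)) → ∀ (s : ⨁ f ⟶ F) (r : F ⟶ ⨁ f), s ≫ r = 𝟙 _ →
      ∀ A B : C, ((⨁ f) ⊞ A ≅ (⨁ f) ⊞ B) → Nonempty (A ≅ B) := by
  intro N
  induction N with
  | zero =>
    intro ι _ _ f hN _ s r _ A B e
    haveI : IsEmpty ι := Fintype.card_eq_zero_iff.1 hN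
    have hz : IsZero (⨁ f) := (IsZero.iff_id_eq_zero _).2 (biproduct.hom_ext _ _ fun i => isEmptyElim i)
    exact ⟨(isoZeroBiprod hz) ≪≫ e ≪≫ (isoZeroBiprod hz).symm⟩
  | succ N ih =>
    intro ι _ _ f hN hf s r hsr A B e
    obtain ⟨i⟩ : Nonempty ι := Fintype.card_pos_iff.1 (by omega)
    let S := biproductSplit f i
    have e' := (biprod.mapIso S.symm (Iso.refl A)) ≪≫ e ≪≫ biprod.mapIso S (Iso.refl B)
    have e'' := (biprod.associator _ _ _).symm ≪≫ e' ≪≫ biprod.associator _ _ _
    obtain ⟨e3⟩ := cancel_indec (hf i) (hF.of_retract _ _ (retract_π s r hsr i)) e''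
    exact ih {x // x ≠ i} (Subtype.restrict _ f)
      (by rw [Fintype.card_subtype_compl, Fintype.card_subtype_eq, hN, Nat.add_sub_cancel])
      (fun x => hf x.1) (biprod.inr ≫ S.inv ≫ s) (r ≫ S.hom ≫ biprod.snd) (by simp [reassoc_of% hsr]) A B e3

/-- A retract of an object with finite-dimensional endomorphism algebra cancels. -/
theorem cancel (k : Type*) [Field k] {F P A B : C} [Algebra k (End F)] [Module.Finite k (End F)]
    (i : P ⟶ F) (r : F ⟶ P) (h : i ≫ r = 𝟙 P) (e : P ⊞ A ≅ P ⊞ B) : Nonempty (A ≅ B) := by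
  classical
  obtain ⟨d⟩ := nonempty_dec k F P i r h
  letI := d.fin
  let φ : ⨁ d.obj ≅ P := ⟨biproduct.desc d.inc, biproduct.lift d.proj, by
    refine biproduct.hom_ext' _ _ fun a => biproduct.hom_ext _ _ fun b => ?_
    by_cases hab : a = b
    · subst hab; simp [d.inc_proj_self]
    · simp [d.inc_proj_ne _ _ hab, biproduct.ι_π_ne _ hab], by rw [biproduct.lift_desc, d.total]⟩
  exact cancel_aux (piReg_of_finite k F) (Fintype.card d.idx) d.idx d.obj rfl d.indec (φ.hom ≫ i) (r ≫ φ.inv)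
    (by simp [reassoc_of% h]) A B (biprod.mapIso φ (Iso.refl A) ≪≫ e ≪≫ (biprod.mapIso φ (Iso.refl B)).symm)

end

end Groth.Agent.H23KS
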