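import Groth.Agent.H23KS.Cancel
import Groth.Agent.H23KS.FieldBC
import Mathlib

/-!
# Isomorphism of coherent modules descends along field extensions
-/

set_option autoImplicit false
set_option linter.style.haveILetI false
set_option linter.unusedSectionVars false

universe u

open CategoryTheory CategoryTheory.Limits AlgebraicGeometry Opposite TopologicalSpace

noncomputable section

namespace Groth.Agent.H23KS

open Groth.Agent Groth.Agent.LeadBC

attribute [local instance] Abelian.hasFiniteBiproducts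

variable {k : Type u} [Field k] {K : Type u} [Field K] [Algebra k K] {X : Scheme.{u}}
  [X.Over (Spec (CommRingCat.of k))] [IsProper (X ↘ Spec (CommRingCat.of k))]
  {X' : Scheme.{u}} [X'.Over (Spec (CommRingCat.of K))] {q : X' ⟶ X}
  (hsq : IsPullback q (X' ↘ Spec (CommRingCat.of K)) (X ↘ Spec (CommRingCat.of k))
    (Spec.map (CommRingCat.ofHom (algebraMap k K))))

instance : (Scheme.Modules.pullback q).Additive :=
  (Scheme.Modules.pullbackPushforwardAdjunction q).left_adjoint_additive

include hsq in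
/-- An indecomposable summand of `F` is a summand of `G` when it is one of `G` after extending the field. -/
theorem exists_retract {F G P : X.Modules} (hF : Coh.IsCoh F) (hG : Coh.IsCoh G) (hP : Indec P)
    (i : P ⟶ F) (r : F ⟶ P) (hir : i ≫ r = 𝟙 P) (π : G ⟶ G) (α : qF q F ⟶ qF q G) (β' : qF q G ⟶ qF q F)
    (h : (Scheme.Modules.pullback q).map i ≫ α ≫ (Scheme.Modules.pullback q).map π ≫ β' ≫
      (Scheme.Modules.pullback q).map r = 𝟙 _) :
    ∃ (u : F ⟶ G) (v : G ⟶ F), IsIso (i ≫ u ≫ π ≫ v ≫ r) := by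
  classical
  haveI : CompactSpace X := QuasiCompact.compactSpace_of_compactSpace (X ↘ Spec (CommRingCat.of k))
  haveI : F.IsQuasicoherent := hF.1
  haveI : G.IsQuasicoherent := hG.1
  letI := endAlgebra k F
  haveI := finite_end k F hF
  have hPi : PiReg P := (piReg_of_finite k F).of_retract i r hir
  obtain ⟨n, c, φ, hα⟩ := exists_span hsq hF.2 α
  obtain ⟨m, d, χ, hβ⟩ := exists_span hsq hG.2 β'
  obtain ⟨l, hl⟩ := exists_retraction (k := k) (K := K)
  let x : Fin n × Fin m → End P := fun p => i ≫ φ p.1 ≫ π ≫ χ p.2 ≫ r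
  let xi : Fin n × Fin m → (P ⟶ F) := fun p => (x p : P ⟶ P) ≫ i
  have key : ∑ p ∈ (Finset.univ : Finset (Fin n × Fin m)), (Scheme.Modules.pullback q).map (xi p) ≫
      Formal.smulMod K (qF q F) (c p.1 * d p.2) = (Scheme.Modules.pullback q).map i := by
    calc _ = ((Scheme.Modules.pullback q).map i ≫ α ≫ (Scheme.Modules.pullback q).map π ≫ β' ≫
          (Scheme.Modules.pullback q).map r) ≫ (Scheme.Modules.pullback q).map i := by
          rw [hα, hβ, Fintype.sum_prod_type]
          simp only [Preadditive.sum_comp, Preadditive.comp_sum]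
          conv_rhs => rw [Finset.sum_comm]
          refine Finset.sum_congr rfl fun a _ => Finset.sum_congr rfl fun b _ => ?_
          rw [show Formal.smulMod K (qF q F) (c a * d b) =
              Formal.smulMod K (qF q F) (d b) ≫ Formal.smulMod K (qF q F) (c a) from
            map_mul (endScalar K (qF q F)) (c a) (d b)]
          simp only [xi, x, Functor.map_comp, Category.assoc]
          simp only [smulMod_comm K ((Scheme.Modules.pullback q).map π), smulMod_comm K ((Scheme.Modules.pullback q).map r),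
            smulMod_comm K ((Scheme.Modules.pullback q).map (χ b)), smulMod_comm K ((Scheme.Modules.pullback q).map i),
            reassoc_of% (fun a => smulMod_comm K ((Scheme.Modules.pullback q).map π) a),
            reassoc_of% (fun a => smulMod_comm K ((Scheme.Modules.pullback q).map r) a),
            reassoc_of% (fun a => smulMod_comm K ((Scheme.Modules.pullback q).map (χ b)) a),
            reassoc_of% (fun a => smulMod_comm K ((Scheme.Modules.pullback q).map i) a)]
          rw [show Formal.smulMod K (qF q F) (d b) ≫ Formal.smulMod K (qF q F) (c a) =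
              Formal.smulMod K (qF q F) (c a) ≫ Formal.smulMod K (qF q F) (d b) from
            smulMod_comm K (Formal.smulMod K (qF q F) (c a)) (d b)]
      _ = _ := by rw [h, Category.id_comp]
  have h2 := eq_sum_of_map_eq hsq l hl Finset.univ (fun p : Fin n × Fin m => c p.1 * d p.2) xi i key
  have h3 : ∑ p : Fin n × Fin m, endScalar k P (l (c p.1 * d p.2)) * x p = 1 := by
    show ∑ p : Fin n × Fin m, (x p : P ⟶ P) ≫ Formal.smulMod k P (l (c p.1 * d p.2)) = 𝟙 P
    refine Eq.trans ?_ hir
    conv_rhs => rw [h2, Preadditive.sum_comp]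
    refine Finset.sum_congr rfl fun p _ => ?_
    simp only [xi, Category.assoc]
    rw [smulMod_comm, reassoc_of% hir]
  obtain ⟨p, -, hp⟩ := exists_isUnit_of_sum hP hPi Finset.univ _ (h3 ▸ isUnit_one)
  refine ⟨φ p.1, χ p.2, (isUnit_iff_isIso (x p)).1 ?_⟩
  rcases isUnit_or_isNilpotent hP hPi (x p) with h4 | h4
  · exact h4
  · exfalso
    have hc : Commute (endScalar k P (l (c p.1 * d p.2))) (x p) :=
      (smulMod_comm k (x p : P ⟶ P) (l (c p.1 * d p.2))).symm
    obtain ⟨N, hN⟩ := h4
    have := hp.pow N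
    rw [hc.mul_pow, hN, mul_zero] at this
    exact not_isUnit_zero hP this

include hsq in
/-- Retracts of coherent modules which become isomorphic over a field extension are isomorphic. -/
theorem descend_aux [IsProper (X' ↘ Spec (CommRingCat.of K))] {F G : X.Modules} (hF : Coh.IsCoh F)
    (hG : Coh.IsCoh G) : ∀ (N : ℕ) (ι : Type) [Fintype ι] [DecidableEq ι] (f : ι → X.Modules),
    Fintype.card ι = N → (∀ i, Indec (f i)) → ∀ (s : ⨁ f ⟶ F) (r : F ⟶ ⨁ f), s ≫ r = 𝟙 _ →
      ∀ (B : X.Modules) (s' : B ⟶ G) (r' : G ⟶ B), s' ≫ r' = 𝟙 B →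
        (qF q (⨁ f) ≅ qF q B) → Nonempty (⨁ f ≅ B) := by
  haveI : F.IsQuasicoherent := hF.1
  haveI : G.IsQuasicoherent := hG.1
  intro N
  induction N with
  | zero =>
    intro ι _ _ f hN _ s r _ B s' r' hs' e
    haveI : IsEmpty ι := Fintype.card_eq_zero_iff.1 hN
    have hz : IsZero (⨁ f) := (IsZero.iff_id_eq_zero _).2 (biproduct.hom_ext _ _ fun i => isEmptyElim i)
    have h0 : (Scheme.Modules.pullback q).map (r' ≫ s') = 0 := by
      rw [Functor.map_comp, ((((Scheme.Modules.pullback q).map_isZero hz).of_iso e.symm)).eq_of_tgt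
        ((Scheme.Modules.pullback q).map r') 0, zero_comp]
    have h1 : r' ≫ s' = 0 := map_injective hsq _ h0
    have hB : IsZero B := (IsZero.iff_id_eq_zero _).2 (by
      calc 𝟙 B = (s' ≫ r') ≫ (s' ≫ r') := by rw [hs', Category.id_comp]
        _ = 0 := by simp only [Category.assoc, reassoc_of% h1, zero_comp, comp_zero])
    exact ⟨hz.iso hB⟩
  | succ N ih =>
    intro ι _ _ f hN hf s r hsr B s' r' hs' e
    obtain ⟨j⟩ : Nonempty ι := Fintype.card_pos_iff.1 (by omega)
    let i' := biproduct.ι f j ≫ s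
    let rj := r ≫ biproduct.π f j
    have hi : i' ≫ rj = 𝟙 (f j) := retract_π s r hsr j
    obtain ⟨u, v, hiso⟩ := exists_retract hsq hF hG (hf j) i' rj hi (r' ≫ s')
      ((Scheme.Modules.pullback q).map r ≫ e.hom ≫ (Scheme.Modules.pullback q).map s')
      ((Scheme.Modules.pullback q).map r' ≫ e.inv ≫ (Scheme.Modules.pullback q).map s) (by
        have hs : (Scheme.Modules.pullback q).map s ≫ (Scheme.Modules.pullback q).map r = 𝟙 _ := by
          rw [← Functor.map_comp, hsr, CategoryTheory.Functor.map_id]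
        have hB : (Scheme.Modules.pullback q).map s' ≫ (Scheme.Modules.pullback q).map r' = 𝟙 _ := by
          rw [← Functor.map_comp, hs', CategoryTheory.Functor.map_id]
        simp only [i', rj, Functor.map_comp, Category.assoc, reassoc_of% hs, reassoc_of% hB, Iso.hom_inv_id_assoc]
        rw [← Functor.map_comp, biproduct.ι_π_self, CategoryTheory.Functor.map_id])
    haveI := hiso
    let u' : f j ⟶ B := i' ≫ u ≫ r'
    let v' : B ⟶ f j := s' ≫ v ≫ rj ≫ inv (i' ≫ u ≫ (r' ≫ s') ≫ v ≫ rj)
    have huv : u' ≫ v' = 𝟙 (f j) := by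
      have := IsIso.hom_inv_id (i' ≫ u ≫ (r' ≫ s') ≫ v ≫ rj)
      simp only [u', v', Category.assoc] at this ⊢
      exact this
    obtain ⟨B₁, B₂, φ, hφ⟩ := exists_split (v' ≫ u') (by rw [Category.assoc, reassoc_of% huv])
    let w : B₁ ≅ f j := ⟨biprod.inl ≫ φ.inv ≫ v', u' ≫ φ.hom ≫ biprod.fst, by
      simp only [Category.assoc]; rw [← Category.assoc v', hφ]; simp, by
      simp only [Category.assoc]
      have := congrArg (fun z => u' ≫ z ≫ v') hφ
      simp only [Category.assoc, huv, reassoc_of% huv] at this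
      rw [← this]⟩
    haveI : PreservesColimitsOfSize.{0, 0} (Scheme.Modules.pullback q) :=
      (Scheme.Modules.pullbackPushforwardAdjunction q).leftAdjoint_preservesColimits
    haveI := fun (A B : X.Modules) =>
      preservesBinaryBiproduct_of_preservesBinaryCoproduct (Scheme.Modules.pullback q) (X := A) (Y := B)
    let S := biproductSplit f j
    let R := ⨁ (Subtype.restrict (fun x => x ≠ j) f)
    let eB : B ≅ f j ⊞ B₂ := φ ≪≫ biprod.mapIso w (Iso.refl B₂)
    let e2 : (Scheme.Modules.pullback q).obj (f j) ⊞ qF q R ≅ (Scheme.Modules.pullback q).obj (f j) ⊞ qF q B₂ :=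
      ((Scheme.Modules.pullback q).mapBiprod _ _).symm ≪≫ (Scheme.Modules.pullback q).mapIso S.symm ≪≫ e ≪≫
        (Scheme.Modules.pullback q).mapIso eB ≪≫ (Scheme.Modules.pullback q).mapBiprod _ _
    letI := endAlgebra K (qF q F)
    haveI := finite_end K (qF q F) ⟨H29Fitt.isQCoh_pullback _ F hF.1, H29Fitt.isFT_pullback _ F hF.1 hF.2⟩
    obtain ⟨e3⟩ := cancel K ((Scheme.Modules.pullback q).map i') ((Scheme.Modules.pullback q).map rj)
      (by rw [← Functor.map_comp, hi, CategoryTheory.Functor.map_id]) e2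
    obtain ⟨e4⟩ := ih {x // x ≠ j} (Subtype.restrict _ f)
      (by rw [Fintype.card_subtype_compl, Fintype.card_subtype_eq, hN, Nat.add_sub_cancel])
      (fun x => hf x.1) (biprod.inr ≫ S.inv ≫ s) (r ≫ S.hom ≫ biprod.snd) (by simp [reassoc_of% hsr]) B₂
      (biprod.inr ≫ eB.inv ≫ s') (r' ≫ eB.hom ≫ biprod.snd) (by simp [reassoc_of% hs']) e3
    exact ⟨S ≪≫ biprod.mapIso (Iso.refl _) e4 ≪≫ eB.symm⟩

include hsq in
/-- Coherent modules which become isomorphic over a field extension are isomorphic. -/
theorem descend [IsProper (X' ↘ Spec (CommRingCat.of K))] {F G : X.Modules} (hF : Coh.IsCoh F)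
    (hG : Coh.IsCoh G) (e : qF q F ≅ qF q G) : Nonempty (F ≅ G) := by
  letI := endAlgebra k F
  haveI := finite_end k F hF
  obtain ⟨n, Fs, hFs, ⟨a⟩⟩ := existence k F
  obtain ⟨b⟩ := descend_aux hsq hF hG n (Fin n) Fs (Fintype.card_fin n) hFs a.inv a.hom a.inv_hom_id G (𝟙 G) (𝟙 G)
    (Category.id_comp _) ((Scheme.Modules.pullback q).mapIso a.symm ≪≫ e)
  exact ⟨a ≪≫ b⟩

end Groth.Agent.H23KS
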