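import Groth.Agent.H18Et.FEtFieldLimit
import Groth.Agent.S4788
import Groth.Agent.H23Para.FlatDescent
import Groth.Agent.H06EGA9.FlatConstructible
import Mathlib

/-!
# Modules over an algebraic extension of the base field come from a finite subextension
-/

set_option autoImplicit false
set_option linter.style.haveILetI false
set_option backward.isDefEq.respectTransparency false
set_option backward.defeqAttrib.useBackward true

universe u

open CategoryTheory CategoryTheory.Limits AlgebraicGeometry Opposite

noncomputable section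

namespace Groth.Agent.H23KS.Model

open Groth.Agent Groth.Agent.H18Et Groth.Agent.H18Et.FEtFieldLimit

variable {k K : Type u} [Field k] [Field K] [Algebra k K] [Algebra.IsAlgebraic k K] {X : Scheme.{u}}
  (f : X ⟶ Spec (CommRingCat.of k)) [CompactSpace X] [QuasiSeparatedSpace X]

set_option maxHeartbeats 800000 in
/-- A module of finite presentation on `X_K` comes from some `X_L`. -/
theorem exists_model (F : (pullback f (Spec.map (CommRingCat.ofHom (algebraMap k K)))).Modules)
    (hq : Coh.IsQCoh F) (hF : CohB1.IsFP F) :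
    ∃ (L : IntermediateField k K) (_ : FiniteDimensional k L)
      (F₀ : (pullback f (Spec.map (CommRingCat.ofHom (algebraMap k L)))).Modules)
      (c : pullback f (Spec.map (CommRingCat.ofHom (algebraMap k K))) ⟶
        pullback f (Spec.map (CommRingCat.ofHom (algebraMap k L)))),
      c ≫ pullback.fst f _ = pullback.fst f _ ∧
      c ≫ pullback.snd f _ = pullback.snd f _ ≫ Spec.map (CommRingCat.ofHom (algebraMap L K)) ∧
      Coh.IsQCoh F₀ ∧ Nonempty ((Scheme.Modules.pullback c).obj F₀ ≅ F) := by
  let hc : IsLimit (specCone k K) := isLimitOfPreserves Scheme.Spec (isColimitFieldCocone k K).op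
  let a : pullback f (baseMap k K) ⟶ (specDiag k K).obj (base k K) := pullback.snd f (baseMap k K)
  haveI : QuasiCompact f := inferInstance
  haveI : QuasiSeparated f := inferInstance
  haveI : QuasiCompact a := MorphismProperty.pullback_snd _ _ inferInstance
  haveI : QuasiSeparated a := MorphismProperty.pullback_snd _ _ inferInstance
  let D' := H7Lim.pbDiagram (specDiag k K) (base k K) a
  let c' := H7Lim.pbCone (specDiag k K) (specCone k K) (base k K) a
  haveI : ∀ (i j : Over (base k K)) (g : i ⟶ j), IsAffineHom (D'.map g) :=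
    H7Lim.isAffineHom_pbDiagram_map (specDiag k K) (base k K) a
  let i₀ : Over (base k K) := Over.mk (𝟙 (base k K))
  haveI : ∀ j, CompactSpace ↥(D'.obj j) := fun j =>
    haveI : QuasiCompact (pullback.snd a ((specDiag k K).map j.hom)) :=
      MorphismProperty.pullback_snd _ _ inferInstance
    haveI : CompactSpace ↥((specDiag k K).obj j.left) := inferInstanceAs (CompactSpace ↥(Spec _))
    QuasiCompact.compactSpace_of_compactSpace (pullback.snd a ((specDiag k K).map j.hom))
  haveI : ∀ j, QuasiSeparatedSpace ↥(D'.obj j) := fun j =>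
    haveI : QuasiSeparated (pullback.snd a ((specDiag k K).map j.hom)) :=
      MorphismProperty.pullback_snd _ _ inferInstance
    haveI : QuasiSeparatedSpace ↥((specDiag k K).obj j.left) := inferInstanceAs (QuasiSeparatedSpace ↥(Spec _))
    quasiSeparatedSpace_of_quasiSeparated (pullback.snd a ((specDiag k K).map j.hom))
  let g := Spec.map (CommRingCat.ofHom (algebraMap k K))
  have hg : (specCone k K).π.app (base k K) ≫ baseMap k K = g := by
    rw [baseMap]
    exact (Spec.map_comp _ _).symm.trans (congrArg (fun φ => Spec.map φ)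
      (CommRingCat.hom_ext ((IsScalarTower.algebraMap_eq k (⊥ : IntermediateField k K) K).symm)))
  let u : c'.pt ≅ pullback f g := pullbackLeftPullbackSndIso f (baseMap k K) _ ≪≫ pullback.congrHom rfl hg
  haveI : IsFiltered (FinInt k K) := isFiltered_of_directed_le_nonempty _
  haveI : Coh.IsQCoh ((Scheme.Modules.pullback u.hom).obj F) := H29Fitt.isQCoh_pullback u.hom F hq
  obtain ⟨j, -, Fj, hFjq, -, ⟨e⟩⟩ := S4788.result D' c' (H7Lim.isLimitPbCone (specDiag k K) (base k K) a hc) i₀
    ((Scheme.Modules.pullback u.hom).obj F) (H06EGA9.isFP_pullback u.hom hF)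
  let L := j.left.unop.1
  haveI hL : FiniteDimensional k L := j.left.unop.2
  let gL := Spec.map (CommRingCat.ofHom (algebraMap k L))
  have hgL : (specDiag k K).map j.hom ≫ baseMap k K = gL := by
    rw [baseMap]
    exact (Spec.map_comp _ _).symm.trans (congrArg (fun φ => Spec.map φ) (CommRingCat.hom_ext (RingHom.ext fun x =>
      (IntermediateField.inclusion (leOfHom j.hom.unop)).commutes x)))
  let v : D'.obj j ≅ pullback f gL := pullbackLeftPullbackSndIso f (baseMap k K) _ ≪≫ pullback.congrHom rfl hgL
  let c : pullback f g ⟶ pullback f gL := u.inv ≫ c'.π.app j ≫ v.hom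
  refine ⟨L, hL, (Scheme.Modules.pullback v.inv).obj Fj, c, ?_, ?_, H29Fitt.isQCoh_pullback v.inv Fj hFjq, ⟨?_⟩⟩
  · show (u.inv ≫ c'.π.app j ≫ v.hom) ≫ pullback.fst f gL = pullback.fst f g
    simp [c', u, v, a, pullback.map]
  · show (u.inv ≫ c'.π.app j ≫ v.hom) ≫ pullback.snd f gL = pullback.snd f g ≫ _
    simp [c', u, v, a, pullback.map]
    rfl
  · exact (Scheme.Modules.pullbackComp c v.inv).app Fj ≪≫
      (Scheme.Modules.pullbackCongr (show c ≫ v.inv = u.inv ≫ c'.π.app j by simp [c])).app Fj ≪≫
      ((Scheme.Modules.pullbackComp u.inv (c'.π.app j)).app Fj).symm ≪≫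
      (Scheme.Modules.pullback u.inv).mapIso e ≪≫ (Scheme.Modules.pullbackComp u.inv u.hom).app F ≪≫
      (Scheme.Modules.pullbackCongr u.inv_hom_id).app F ≪≫ (Scheme.Modules.pullbackId _).app F

/-- An invertible module on `X_K` comes from an invertible module on some `X_L`. -/
theorem exists_invertible_model (F : (pullback f (Spec.map (CommRingCat.ofHom (algebraMap k K)))).Modules)
    (hF : PicF.IsInvertible F) :
    ∃ (L : IntermediateField k K) (_ : FiniteDimensional k L)
      (F₀ : (pullback f (Spec.map (CommRingCat.ofHom (algebraMap k L)))).Modules)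
      (c : pullback f (Spec.map (CommRingCat.ofHom (algebraMap k K))) ⟶
        pullback f (Spec.map (CommRingCat.ofHom (algebraMap k L)))),
      c ≫ pullback.fst f _ = pullback.fst f _ ∧
      c ≫ pullback.snd f _ = pullback.snd f _ ≫ Spec.map (CommRingCat.ofHom (algebraMap L K)) ∧
      PicF.IsInvertible F₀ ∧ Nonempty ((Scheme.Modules.pullback c).obj F₀ ≅ F) := by
  have hlf := H23Para.isFinLocFree_of_isInvertible hF
  obtain ⟨L, hL, F₀, c, h1, h2, hq, ⟨e⟩⟩ := exists_model f F
    (H29Fitt.isQCoh_of_isFP F (H8Props.FinLocFree.isFP_of_isFinLocFree F hlf))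
    (H8Props.FinLocFree.isFP_of_isFinLocFree F hlf)
  haveI : F₀.IsQuasicoherent := hq
  let m : Spec (CommRingCat.of K) ⟶ Spec (CommRingCat.of L) := Spec.map (CommRingCat.ofHom (algebraMap L K))
  have hsq : IsPullback c (pullback.snd f _) (pullback.snd f _) m := by
    refine IsPullback.of_right ?_ h2 (IsPullback.of_hasPullback f (Spec.map (CommRingCat.ofHom (algebraMap k L))))
    rw [h1, show m ≫ Spec.map (CommRingCat.ofHom (algebraMap k L)) = Spec.map (CommRingCat.ofHom (algebraMap k K)) from
      (Spec.map_comp _ _).symm.trans (congrArg Spec.map (CommRingCat.hom_ext (IsScalarTower.algebraMap_eq k L K).symm))]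
    exact IsPullback.of_hasPullback _ _
  haveI : Flat m := by
    haveI : Module.Flat L K := inferInstance
    exact (HasRingHomProperty.Spec_iff (P := @Flat)).2 (RingHom.flat_algebraMap_iff.2 inferInstance)
  haveI : Surjective m := ⟨fun x => ⟨(⟨⊥, Ideal.isPrime_bot⟩ : PrimeSpectrum K),
    @Subsingleton.elim _ (inferInstanceAs (Subsingleton (PrimeSpectrum L))) _ x⟩⟩
  haveI : Flat c := MorphismProperty.of_isPullback hsq.flip inferInstance
  haveI : Surjective c := MorphismProperty.of_isPullback hsq.flip inferInstance
  haveI : QuasiCompact c := MorphismProperty.of_isPullback hsq.flip inferInstance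
  exact ⟨L, hL, F₀, c, h1, h2, H23Para.isInvertible_of_pullback c F₀
    (H11Tilde.isInvertible_of_iso e.symm hF), ⟨e⟩⟩

end Groth.Agent.H23KS.Model
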