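import Groth.Agent.H23KS.Indec
import Mathlib

/-!
# Indecomposable modules are determined by the types of their base changes
-/

set_option autoImplicit false
set_option linter.style.haveILetI false
set_option linter.unusedSectionVars false

universe v u

open CategoryTheory CategoryTheory.Limits AlgebraicGeometry

noncomputable section

namespace Groth.Agent.H23KS

open Groth.Agent Groth.Agent.LeadBC

attribute [local instance] Abelian.hasFiniteBiproducts

section
variable {C : Type u} [Category.{v} C] [Abelian C]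

/-- An indecomposable retract of a finite sum is a retract of a summand. -/
theorem exists_retract_summand {G : C} (hG : Indec G) (hP : PiReg G) {ι : Type} [Fintype ι] (f : ι → C)
    (a : G ⟶ ⨁ f) (b : ⨁ f ⟶ G) (h : a ≫ b = 𝟙 G) :
    ∃ (i : ι) (a' : G ⟶ f i) (b' : f i ⟶ G), a' ≫ b' = 𝟙 G := by
  classical
  have hsum : ∑ i, (show End G from a ≫ biproduct.π f i ≫ biproduct.ι f i ≫ b) = 1 := by
    show ∑ i, a ≫ biproduct.π f i ≫ biproduct.ι f i ≫ b = 𝟙 G
    calc ∑ i, a ≫ biproduct.π f i ≫ biproduct.ι f i ≫ b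
        = a ≫ (∑ i, biproduct.π f i ≫ biproduct.ι f i) ≫ b := by
          rw [Preadditive.sum_comp, Preadditive.comp_sum]; simp
      _ = 𝟙 G := by rw [biproduct.total, Category.id_comp, h]
  obtain ⟨i, -, hi⟩ := exists_isUnit_of_sum hG hP Finset.univ _ (hsum ▸ isUnit_one)
  haveI : IsIso (a ≫ biproduct.π f i ≫ biproduct.ι f i ≫ b) := (isUnit_iff_isIso _).1 hi
  exact ⟨i, a ≫ biproduct.π f i, biproduct.ι f i ≫ b ≫ inv (a ≫ biproduct.π f i ≫ biproduct.ι f i ≫ b),
    by simp only [Category.assoc]; generalize_proofs; exact (by simp only [Category.assoc] : _ = (a ≫ biproduct.π f i ≫ biproduct.ι f i ≫ b) ≫ inv (a ≫ biproduct.π f i ≫ biproduct.ι f i ≫ b)).trans (IsIso.hom_inv_id _)⟩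

/-- A nonzero retract of an indecomposable object is the whole object. -/
theorem nonempty_iso_of_retract {E P : C} (hE : ¬ IsZero E) (hP : Indec P) (a : E ⟶ P) (b : P ⟶ E)
    (h : a ≫ b = 𝟙 E) : Nonempty (E ≅ P) := by
  rcases eq_zero_or_one_of_idem hP (b ≫ a : End P)
    (show (b ≫ a) ≫ b ≫ a = b ≫ a by rw [Category.assoc, reassoc_of% h]) with h0 | h0
  · refine absurd ((IsZero.iff_id_eq_zero _).2 ?_) hE
    calc 𝟙 E = a ≫ (b ≫ a) ≫ b := by simp [reassoc_of% h, h]
      _ = 0 := by rw [show b ≫ a = 0 from h0]; simp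
  · exact ⟨⟨a, b, h, h0⟩⟩

/-- Interchanging the order of two finite sums. -/
def sigmaComm {ι κ : Type} [Fintype ι] [Fintype κ] (F : ι → κ → C) :
    (∐ fun i => ∐ fun j => F i j) ≅ ∐ fun j => ∐ fun i => F i j where
  hom := Sigma.desc fun i => Sigma.desc fun j =>
    Sigma.ι (fun i => F i j) i ≫ Sigma.ι (fun j => ∐ fun i => F i j) j
  inv := Sigma.desc fun j => Sigma.desc fun i =>
    Sigma.ι (F i) j ≫ Sigma.ι (fun i => ∐ fun j => F i j) i
  hom_inv_id := by ext a b; simp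
  inv_hom_id := by ext b a; simp

/-- Sums of equal sums. -/
def sumPow (A : C) (r s : ℕ) : (∐ fun _ : Fin r => ∐ fun _ : Fin s => A) ≅ ∐ fun _ : Fin (r * s) => A :=
  sigmaSigmaIso (fun (_ : Fin r) => Fin s) (fun _ _ => A) ≪≫
    Sigma.whiskerEquiv ((Equiv.sigmaEquivProd (Fin r) (Fin s)).trans finProdFinEquiv) (fun _ => Iso.refl A)

end

variable {k : Type u} [Field k] {K : Type u} [Field K] [Algebra k K] {X : Scheme.{u}}
  [X.Over (Spec (CommRingCat.of k))] [IsProper (X ↘ Spec (CommRingCat.of k))]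
  {X' : Scheme.{u}} [X'.Over (Spec (CommRingCat.of K))] [IsProper (X' ↘ Spec (CommRingCat.of K))] {q : X' ⟶ X}
  (hsq : IsPullback q (X' ↘ Spec (CommRingCat.of K)) (X ↘ Spec (CommRingCat.of k))
    (Spec.map (CommRingCat.ofHom (algebraMap k K))))

include hsq in
/-- The base change of a retract of an isotypical module is isotypical. -/
theorem type_of_retract {E P : X.Modules} (hE : Coh.IsCoh E) (i : P ⟶ E) (p : E ⟶ P) (h : i ≫ p = 𝟙 P)
    (W : X'.Modules) (hW : Indec W) (r : ℕ) (e : qF q E ≅ ∐ fun _ : Fin r => W) :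
    ∃ s : ℕ, Nonempty (qF q P ≅ ∐ fun _ : Fin s => W) := by
  have hF : Coh.IsCoh (qF q P) :=
    ⟨H29Fitt.isQCoh_pullback _ P (isCoh_of_retract hE i p h).1,
      H29Fitt.isFT_pullback _ P (isCoh_of_retract hE i p h).1 (isCoh_of_retract hE i p h).2⟩
  letI := endAlgebra K (qF q P)
  haveI := finite_end K (qF q P) hF
  obtain ⟨n, Gs, hGs, ⟨g⟩⟩ := existence K (qF q P)
  have hiso : ∀ j, Nonempty (Gs j ≅ W) := fun j => by
    have hj : PiReg (Gs j) := (piReg_of_finite K (qF q P)).of_retract (biproduct.ι Gs j ≫ g.inv)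
      (g.hom ≫ biproduct.π Gs j) (by simp)
    let φ := e ≪≫ (biproduct.isoCoproduct _).symm
    obtain ⟨l, a', b', hab⟩ := exists_retract_summand (hGs j) hj (fun _ : Fin r => W)
      (biproduct.ι Gs j ≫ g.inv ≫ (Scheme.Modules.pullback q).map i ≫ φ.hom)
      (φ.inv ≫ (Scheme.Modules.pullback q).map p ≫ g.hom ≫ biproduct.π Gs j) (by
        simp only [Category.assoc, Iso.hom_inv_id_assoc]
        rw [← Functor.map_comp_assoc, h, CategoryTheory.Functor.map_id, Category.id_comp, Iso.inv_hom_id_assoc,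
          biproduct.ι_π_self])
    exact nonempty_iso_of_retract (hGs j).1 hW a' b' hab
  exact ⟨n, ⟨g ≪≫ biproduct.isoCoproduct _ ≪≫ Sigma.mapIso fun j => (hiso j).some⟩⟩

include hsq in
/-- An isotypical module has an indecomposable summand of the same type. -/
theorem exists_indec_type {E : X.Modules} (hE : Coh.IsCoh E) (h0 : ¬ IsZero E) (W : X'.Modules) (hW : Indec W)
    (r : ℕ) (e : qF q E ≅ ∐ fun _ : Fin r => W) :
    ∃ (P : X.Modules) (i : P ⟶ E) (p : E ⟶ P) (s : ℕ), i ≫ p = 𝟙 P ∧ Indec P ∧ 0 < s ∧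
      Nonempty (qF q P ≅ ∐ fun _ : Fin s => W) := by
  letI := endAlgebra k E
  haveI := finite_end k E hE
  obtain ⟨n, Fs, hFs, ⟨g⟩⟩ := existence k E
  have hn : 0 < n := Nat.pos_of_ne_zero fun h => by
    subst h
    refine h0 (IsZero.of_iso ((IsZero.iff_id_eq_zero _).2 ?_) g)
    ext a
    exact a.elim0
  let j : Fin n := ⟨0, hn⟩
  have hir : (biproduct.ι Fs j ≫ g.inv) ≫ g.hom ≫ biproduct.π Fs j = 𝟙 _ := by simp
  obtain ⟨s, ⟨es⟩⟩ := type_of_retract hsq hE _ _ hir W hW r e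
  refine ⟨Fs j, _, _, s, hir, hFs j, Nat.pos_of_ne_zero fun hs => ?_, ⟨es⟩⟩
  subst hs
  refine not_isZero_map hsq (isCoh_of_retract hE _ _ hir) (hFs j).1 (IsZero.of_iso ((IsZero.iff_id_eq_zero _).2 ?_) es)
  ext a
  exact a.elim0

include hsq in
/-- An indecomposable module whose base change splits into types of given indecomposables is one of them. -/
theorem exists_iso_of_types {E : X.Modules} (hE : Coh.IsCoh E) (hEi : Indec E) {n : ℕ} (Ws : Fin n → X'.Modules)
    (e : qF q E ≅ ∐ Ws) (P : Fin n → X.Modules) (hP : ∀ i, Coh.IsCoh (P i)) (hPi : ∀ i, Indec (P i))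
    (d : Fin n → ℕ) (hd : ∀ i, 0 < d i) (eP : ∀ i, qF q (P i) ≅ ∐ fun _ : Fin (d i) => Ws i) :
    ∃ i, Nonempty (E ≅ P i) := by
  classical
  haveI : PreservesColimitsOfSize.{0, 0} (Scheme.Modules.pullback q) :=
    (Scheme.Modules.pullbackPushforwardAdjunction q).leftAdjoint_preservesColimits
  let D := ∏ i, d i
  have hD : 0 < D := Finset.prod_pos fun i _ => hd i
  have hdiv : ∀ i, D / d i * d i = D := fun i =>
    Nat.div_mul_cancel (Finset.dvd_prod_of_mem d (Finset.mem_univ i))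
  let Q : Fin n → X.Modules := fun i => ∐ fun _ : Fin (D / d i) => P i
  have hQ : Coh.IsCoh (∐ Q) := H10Coh.isCoh_sigma _ fun i => H10Coh.isCoh_sigma _ fun _ => hP i
  let ED := ∐ fun _ : Fin D => E
  have hED : Coh.IsCoh ED := H10Coh.isCoh_sigma _ fun _ => hE
  let eQ : ∀ i, qF q (Q i) ≅ ∐ fun _ : Fin D => Ws i := fun i =>
    PreservesCoproduct.iso (Scheme.Modules.pullback q) (fun _ : Fin (D / d i) => P i) ≪≫
      (Sigma.mapIso fun _ : Fin (D / d i) => eP i) ≪≫ sumPow (Ws i) _ _ ≪≫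
      eqToIso (congrArg (fun m => ∐ fun _ : Fin m => Ws i) (hdiv i))
  obtain ⟨ψ⟩ := descend hsq hED hQ
    (PreservesCoproduct.iso (Scheme.Modules.pullback q) (fun _ : Fin D => E) ≪≫
      (Sigma.mapIso fun _ : Fin D => e) ≪≫ sigmaComm (fun (_ : Fin D) i => Ws i) ≪≫
      (Sigma.mapIso eQ).symm ≪≫ (PreservesCoproduct.iso (Scheme.Modules.pullback q) Q).symm)
  letI := endAlgebra k E
  haveI := finite_end k E hE
  have hE' : PiReg E := piReg_of_finite k E
  let j₀ : Fin D := ⟨0, hD⟩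
  let π₀ : ED ⟶ E := (biproduct.isoCoproduct fun _ : Fin D => E).inv ≫ biproduct.π (fun _ : Fin D => E) j₀
  let ι₀ : E ⟶ ED := biproduct.ι (fun _ : Fin D => E) j₀ ≫ (biproduct.isoCoproduct fun _ : Fin D => E).hom
  let φ := ψ ≪≫ (biproduct.isoCoproduct Q).symm
  obtain ⟨i, a, b, hab⟩ := exists_retract_summand hEi hE' Q (ι₀ ≫ φ.hom) (φ.inv ≫ π₀) (by simp [ι₀, π₀])
  let χ := (biproduct.isoCoproduct fun _ : Fin (D / d i) => P i).symm
  obtain ⟨-, a', b', hab'⟩ := exists_retract_summand hEi hE' (fun _ : Fin (D / d i) => P i)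
    (a ≫ χ.hom) (χ.inv ≫ b) (by simp [hab])
  exact ⟨i, nonempty_iso_of_retract hEi.1 (hPi i) a' b' hab'⟩

end Groth.Agent.H23KS
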