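import Groth.Agent.H23KS.SplitRing
import Groth.Agent.H23KS.Model
import Groth.Agent.H23KS.Types
import Groth.Agent.H23Para.CounitDescent
import Groth.Agent.H10Coh.SerreVanishing
import Groth.Agent.H10Coh.AffinePush
import Groth.Agent.H26Def.AdicPic
import Groth.Agent.H16Derived.QCohD.AffineReflect
import Groth.Agent.S14204
import Mathlib

/-!
# Modules becoming sums of a given twist over the splitting field
-/

set_option autoImplicit false
set_option linter.style.haveILetI false
set_option linter.unusedSectionVars false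

universe u

open CategoryTheory CategoryTheory.Limits AlgebraicGeometry Opposite TopologicalSpace
open scoped TensorProduct

noncomputable section

namespace Groth.Agent.H23KS.Exists

open Groth.Agent Groth.Agent.H25Theta CohB1


/-- Flat base change for direct images along a cartesian square. -/
theorem nonempty_baseChange {X S X' S' : Scheme.{u}} {f : X ⟶ S} {g : S' ⟶ S} {g' : X' ⟶ X} {f' : X' ⟶ S'}
    (h : IsPullback g' f' f g) [QuasiCompact f] [QuasiSeparated f] [Flat g] (M : X.Modules) [Coh.IsQCoh M] :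
    Nonempty ((Scheme.Modules.pullback g).obj ((Scheme.Modules.pushforward f).obj M) ≅
      (Scheme.Modules.pushforward f').obj ((Scheme.Modules.pullback g').obj M)) := by
  haveI : HasInjectiveResolutions X.Modules := by
    haveI := H10Coh.enoughInjMod X; infer_instance
  haveI : HasInjectiveResolutions X'.Modules := by
    haveI := H10Coh.enoughInjMod X'; infer_instance
  haveI : (Scheme.Modules.pushforward f).IsRightAdjoint :=
    (Scheme.Modules.pullbackPushforwardAdjunction f).isRightAdjoint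
  haveI : (Scheme.Modules.pushforward f').IsRightAdjoint :=
    (Scheme.Modules.pullbackPushforwardAdjunction f').isRightAdjoint
  obtain ⟨e⟩ := Groth.Agent.S0033.result f g g' f' h M 0
  exact ⟨(Scheme.Modules.pullback g).mapIso ((Scheme.Modules.pushforward f).rightDerivedZeroIsoSelf.app M).symm ≪≫
    e ≪≫ (Scheme.Modules.pushforward f').rightDerivedZeroIsoSelf.app _⟩

/-- An invertible module on a nonempty affine scheme has a nonzero section. -/
theorem not_subsingleton_sections {S : Scheme.{u}} [IsAffine S] [Nonempty S] {L : S.Modules}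
    (hL : PicF.IsInvertible L) : ¬ Subsingleton Γ(L, ⊤) := fun h => by
  have hlf := H23Para.isFinLocFree_of_isInvertible hL
  have hq : Coh.IsQCoh L := H8Props.FinLocFree.isQCoh_of_isFinLocFree L hlf
  obtain ⟨s⟩ := (inferInstance : Nonempty S)
  obtain ⟨U, g, hs, hg⟩ := H11Ample.exists_gen hL s
  haveI := H16Derived.QCohD.AffineUnit.subsingleton_stalk_of_sections hq (isAffineOpen_top S) (x := s) trivial
  obtain ⟨W, hW, i₁, i₂, hW'⟩ := TopCat.Presheaf.germ_eq L.presheaf s hs hs g 0 (Subsingleton.elim _ _)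
  have h1 : (1 : Γ(S, W)) • L.presheaf.map i₁.op g = (0 : Γ(S, W)) • L.presheaf.map i₁.op g := by
    rw [zero_smul, one_smul, hW', map_zero]
  haveI : Nonempty W := ⟨⟨s, hW⟩⟩
  exact one_ne_zero ((hg.bijective i₁.le).1 h1)

variable {k : Type u} [Field k] {X : Scheme.{u}} {f : X ⟶ Spec (CommRingCat.of k)} [IsProper f]
  {K : Type u} [Field K] [Algebra k K] [IsAlgClosure k K] {n : ℕ}

theorem not_subsingleton_of_invertible {R : Type u} [CommRing R] [Nontrivial R]
    {L₀ : (Spec (CommRingCat.of R)).Modules} (hL₀ : PicF.IsInvertible L₀) {K : Type u} [Field K] [Algebra K R]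
    (r : ℕ) (er : (Scheme.Modules.pushforward (Spec.map (CommRingCat.ofHom (algebraMap K R)))).obj L₀ ≅
      FlatMod.freeMod _ r) : 0 < r := by
  refine Nat.pos_of_ne_zero fun h0 => ?_
  subst h0
  haveI : Nonempty (Spec (CommRingCat.of R)) := inferInstanceAs (Nonempty (PrimeSpectrum R))
  refine not_subsingleton_sections hL₀ ?_
  have hz : IsZero ((Scheme.Modules.pushforward (Spec.map (CommRingCat.ofHom (algebraMap K R)))).obj L₀) := by
    refine IsZero.of_iso ?_ er
    exact (IsZero.iff_id_eq_zero _).2 (Sigma.hom_ext _ _ fun i => i.elim0)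
  refine subsingleton_of_forall_eq 0 fun (x : Γ((Scheme.Modules.pushforward
    (Spec.map (CommRingCat.ofHom (algebraMap K R)))).obj L₀, ⊤)) => ?_
  exact congrArg (fun φ => Scheme.Modules.Hom.app φ ⊤ x) ((IsZero.iff_id_eq_zero _).1 hz)

section core

variable [IsAlgClosed K] {L : Type u} [Field L] [Algebra k L] [FiniteDimensional k L] [Algebra L K]
  [IsScalarTower k L K]
  {R : Type u} [CommRing R] [Nontrivial R] [Algebra k R] [Algebra K R] [IsScalarTower k K R] [Algebra L R]
  [IsScalarTower k L R] [Module.Finite K R]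
  (C : IsPullback (Spec.map (CommRingCat.ofHom (algebraMap L R))) (Spec.map (CommRingCat.ofHom (algebraMap K R)))
    (Spec.map (CommRingCat.ofHom (algebraMap k L))) (Spec.map (CommRingCat.ofHom (algebraMap k K))))

include C in
theorem isPullback_qL_qK : IsPullback (SplitRing.toBcK (K := L) (R := R) f) (SplitRing.toBcK (K := K) (R := R) f)
    (BrSev.proj f L) (BrSev.proj f K) := by
  have h1 : IsPullback (SplitRing.toBcK (K := L) (R := R) f ≫ BrSev.bcTo f L) (SplitRing.toBcK (K := K) (R := R) f)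
      (Spec.map (CommRingCat.ofHom (algebraMap k L))) (BrSev.proj f K ≫ f) := by
    rw [show SplitRing.toBcK (K := L) (R := R) f ≫ BrSev.bcTo f L =
        BrSev.bcTo f R ≫ Spec.map (CommRingCat.ofHom (algebraMap L R)) from pullback.lift_snd _ _ _,
      show BrSev.proj f K ≫ f = BrSev.bcTo f K ≫ Spec.map (CommRingCat.ofHom (algebraMap k K)) from
        pullback.condition]
    exact (SplitRing.isPullback_toBcK).flip.paste_horiz C
  refine IsPullback.of_right h1 ?_ (IsPullback.of_hasPullback f _).flip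
  exact (pullback.lift_fst _ _ _).trans (pullback.lift_fst _ _ _).symm

variable (hσ : ∀ ψ : R →ₐ[K] K, ∃ τ : K ≃ₐ[k] K, ∀ x : L, τ (algebraMap L K x) = ψ (algebraMap L R x))
  (e : BrSev.Splitting f K n) (j : ℤ) (F₀ : (BrSev.bc f L).Modules) (hF₀ : PicF.IsInvertible F₀)
  (c : BrSev.bc f K ⟶ BrSev.bc f L) (hc₁ : c ≫ BrSev.proj f L = BrSev.proj f K)
  (hc₂ : c ≫ BrSev.bcTo f L = BrSev.bcTo f K ≫ Spec.map (CommRingCat.ofHom (algebraMap L K)))
  (ec : (Scheme.Modules.pullback c).obj F₀ ≅ e.twist j)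

include C hσ hc₁ hc₂ ec hF₀ in
set_option maxHeartbeats 800000 in
/-- The two modules on the base change to `R` agree up to the base. -/
theorem exists_twist_of_base : ∃ L₀ : (Spec (CommRingCat.of R)).Modules, PicF.IsInvertible L₀ ∧
    Nonempty ((Scheme.Modules.pullback (SplitRing.toBcK (K := L) (R := R) f)).obj F₀ ≅
      CohB1.tensorMod ((Scheme.Modules.pullback (BrSev.bcTo f R)).obj L₀)
        ((Scheme.Modules.pullback (SplitRing.toBcK (K := K) (R := R) f)).obj (e.twist j))) := by
  let qL := SplitRing.toBcK (K := L) (R := R) f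
  let qK := SplitRing.toBcK (K := K) (R := R) f
  let M := CohB1.tensorMod ((Scheme.Modules.pullback qL).obj F₀) ((Scheme.Modules.pullback qK).obj (e.twist (-j)))
  have hM : PicF.IsInvertible M := H11Ample.isInvertible_tensor (H11Ample.isInvertible_pullback qL hF₀)
    (H11Ample.isInvertible_pullback qK (Twist.isInvertible_twist e (-j)))
  have h2 : pullU c (unitCls hF₀) = Twist.TC e (Multiplicative.ofAdd j) := Units.ext (cls_eq.2 ⟨ec⟩)
  have hpt : ∀ ψ : R →ₐ[K] K, pullU (SplitRing.atPoint f ψ) (unitCls hM) = 1 := fun ψ => by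
    obtain ⟨τ, hτ'⟩ := hσ ψ
    have hτ : SplitRing.atPoint f ψ ≫ qL = Twist.galX f τ ≫ c := by
      refine pullback.hom_ext ?_ ?_
      · rw [Category.assoc, Category.assoc, hc₁, Twist.galX_proj]
        exact (congrArg (SplitRing.atPoint f ψ ≫ ·) (pullback.lift_fst _ _ _)).trans (pullback.lift_fst _ _ _)
      · simp only [qL, SplitRing.atPoint, SplitRing.toBcK, Category.assoc, pullback.lift_snd, pullback.lift_snd_assoc,
          hc₂, Twist.galX_bcTo_assoc, ← Spec.map_comp]
        exact congrArg (BrSev.bcTo f K ≫ ·) (congrArg Spec.map (CommRingCat.hom_ext (RingHom.ext fun x =>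
          (hτ' x).symm)))
    have h1 : unitCls hM = pullU qL (unitCls hF₀) * pullU qK (Twist.TC e (Multiplicative.ofAdd (-j))) := Units.ext rfl
    rw [h1, map_mul, pullU_pullU, pullU_pullU, hτ, SplitRing.atPoint_toBcK, pullU_id, ← pullU_pullU, h2,
      Twist.pullU_galX, ← map_mul, ← ofAdd_add, add_neg_cancel, ofAdd_zero, map_one]
  obtain ⟨L₀, hL₀, ⟨eM⟩⟩ := SplitRing.exists_of_trivial_at_points (K := K) e hM hpt
  refine ⟨L₀, hL₀, cls_eq.1 ?_⟩
  rw [cls_tensor, ← cls_eq.2 ⟨eM⟩]
  show _ = pull qL (cls F₀) * pull qK (Twist.TC e (Multiplicative.ofAdd (-j)) : Cls _) *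
    pull qK (Twist.TC e (Multiplicative.ofAdd j) : Cls _)
  rw [mul_assoc, ← map_mul, ← Units.val_mul, ← map_mul, ← ofAdd_add, neg_add_cancel, ofAdd_zero, map_one,
    Units.val_one, map_one, mul_one]
  rfl

include C hσ hc₁ hc₂ ec hF₀ in
set_option maxHeartbeats 800000 in
theorem exists_pow_twist_core : ∃ (G : X.Modules) (r : ℕ), Coh.IsCoh G ∧ 0 < r ∧ BrSev.IsTwPow e j r G := by
  haveI : CompactSpace X := QuasiCompact.compactSpace_of_compactSpace f
  haveI : IsLocallyNoetherian X := LocallyOfFiniteType.isLocallyNoetherian f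
  haveI : IsFinite (BrSev.proj f L) := by
    haveI : IsFinite (Spec.map (CommRingCat.ofHom (algebraMap k L))) :=
      (IsFinite.SpecMap_iff _).2 (RingHom.finite_algebraMap.2 inferInstance)
    exact MorphismProperty.pullback_fst _ _ inferInstance
  have hF₀lf := H23Para.isFinLocFree_of_isInvertible hF₀
  haveI : Coh.IsQCoh F₀ := H8Props.FinLocFree.isQCoh_of_isFinLocFree F₀ hF₀lf
  haveI : IsLocallyNoetherian (BrSev.bc f L) := LocallyOfFiniteType.isLocallyNoetherian (BrSev.proj f L)
  obtain ⟨L₀, hL₀, ⟨eT⟩⟩ := exists_twist_of_base C hσ e j F₀ hF₀ c hc₁ hc₂ ec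
  obtain ⟨b⟩ := nonempty_baseChange (isPullback_qL_qK (f := f) C) F₀
  obtain ⟨p⟩ := H10Coh.Tw.nonempty_push_tensor_iso (SplitRing.toBcK (K := K) (R := R) f)
    ((Scheme.Modules.pullback (BrSev.bcTo f R)).obj L₀) (Twist.isInvertible_twist e j)
  haveI : Coh.IsQCoh L₀ := H8Props.FinLocFree.isQCoh_of_isFinLocFree L₀ (H23Para.isFinLocFree_of_isInvertible hL₀)
  obtain ⟨b'⟩ := nonempty_baseChange (SplitRing.isPullback_toBcK (K := K) (R := R) (f := f)).flip L₀
  haveI : IsLocallyNoetherian (Spec (CommRingCat.of R)) := by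
    haveI : IsNoetherianRing R := IsNoetherianRing.of_finite K R
    infer_instance
  haveI : IsFinite (Spec.map (CommRingCat.ofHom (algebraMap K R))) :=
    (IsFinite.SpecMap_iff _).2 (RingHom.finite_algebraMap.2 inferInstance)
  obtain ⟨r, ⟨er⟩⟩ := H26Def.exists_iso_freeMod_of_field K _
    (H10Coh.isCoh_push_of_isFinite (Spec.map (CommRingCat.ofHom (algebraMap K R))) L₀
      (H16Derived.KFlat.Stalk.isCoh_of_isFinLocFree (H23Para.isFinLocFree_of_isInvertible hL₀)))
  obtain ⟨t⟩ := S14204.tensor_pow_left (Coh.structureModule (BrSev.bc f K)) (e.twist j) r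
  exact ⟨_, r, H10Coh.isCoh_push_of_isFinite (BrSev.proj f L) F₀ (H16Derived.KFlat.Stalk.isCoh_of_isFinLocFree hF₀lf),
    not_subsingleton_of_invertible hL₀ r er,
    ⟨b ≪≫ (Scheme.Modules.pushforward _).mapIso eT ≪≫ p.symm ≪≫
      tI (b'.symm ≪≫ (Scheme.Modules.pullback (BrSev.bcTo f K)).mapIso er ≪≫
        H16Derived.KFlat.Stalk.freeModPullbackIso (BrSev.bcTo f K) r) (Iso.refl _) ≪≫
      t ≪≫ Sigma.mapIso fun _ => H10Coh.Tw.leftUnitIso _⟩⟩

end core

/-- The tensor product of the two fields does the job. -/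
theorem exists_pow_twist_aux [IsAlgClosed K] [Algebra.IsAlgebraic k K] [Normal k K] (L : Type u) [Field L]
    [Algebra k L] [FiniteDimensional k L] [Algebra L K] [IsScalarTower k L K] (e : BrSev.Splitting f K n) (j : ℤ)
    (F₀ : (BrSev.bc f L).Modules) (hF₀ : PicF.IsInvertible F₀)
    (c : BrSev.bc f K ⟶ BrSev.bc f L) (hc₁ : c ≫ BrSev.proj f L = BrSev.proj f K)
    (hc₂ : c ≫ BrSev.bcTo f L = BrSev.bcTo f K ≫ Spec.map (CommRingCat.ofHom (algebraMap L K)))
    (ec : (Scheme.Modules.pullback c).obj F₀ ≅ e.twist j) :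
    ∃ (G : X.Modules) (r : ℕ), Coh.IsCoh G ∧ 0 < r ∧ BrSev.IsTwPow e j r G := by
  letI aR : Algebra K (L ⊗[k] K) := Algebra.TensorProduct.rightAlgebra
  haveI : IsScalarTower k K (L ⊗[k] K) := IsScalarTower.of_algebraMap_eq fun x =>
    ((Algebra.TensorProduct.includeRight (R := k) (A := L) (B := K)).commutes x).symm
  haveI : Module.Finite K (L ⊗[k] K) := Module.Finite.equiv (R := K) (M := K ⊗[k] L)
    (AlgEquiv.ofRingEquiv (f := (Algebra.TensorProduct.comm k K L).toRingEquiv) fun x =>
      rfl).toLinearEquiv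
  have C : IsPullback (Spec.map (CommRingCat.ofHom (algebraMap L (L ⊗[k] K))))
      (Spec.map (CommRingCat.ofHom (algebraMap K (L ⊗[k] K))))
      (Spec.map (CommRingCat.ofHom (algebraMap k L))) (Spec.map (CommRingCat.ofHom (algebraMap k K))) := by
    refine IsPullback.of_iso_pullback ⟨?_⟩ (pullbackSpecIso k L K).symm
      (pullbackSpecIso_inv_fst k L K) (pullbackSpecIso_inv_snd k L K)
    rw [← Spec.map_comp, ← Spec.map_comp]
    exact congrArg Spec.map (CommRingCat.hom_ext (RingHom.ext fun x =>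
      ((IsScalarTower.algebraMap_apply k L (L ⊗[k] K) x).symm.trans (IsScalarTower.algebraMap_apply k K (L ⊗[k] K) x))))
  refine exists_pow_twist_core (L := L) (R := L ⊗[k] K) C (fun ψ => ?_) e j F₀ hF₀ c hc₁ hc₂ ec
  let σ : L →ₐ[k] K := (ψ.restrictScalars k).comp Algebra.TensorProduct.includeLeft
  exact ⟨AlgEquiv.ofBijective (σ.liftNormal K) (Algebra.IsAlgebraic.algHom_bijective _),
    fun x => σ.liftNormal_commutes K x⟩

/-- Every twist is the type of some module on the variety. -/
theorem exists_pow_twist (e : BrSev.Splitting f K n) (j : ℤ) :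
    ∃ (G : X.Modules) (r : ℕ), Coh.IsCoh G ∧ 0 < r ∧ BrSev.IsTwPow e j r G := by
  haveI : IsAlgClosed K := IsAlgClosure.isAlgClosed k
  haveI : Algebra.IsAlgebraic k K := IsAlgClosure.isAlgebraic
  haveI : Normal k K := IsAlgClosure.normal k K
  haveI : CompactSpace X := QuasiCompact.compactSpace_of_compactSpace f
  haveI : QuasiSeparatedSpace X := quasiSeparatedSpace_of_quasiSeparated f
  obtain ⟨L, hL, F₀, c, hc₁, hc₂, hF₀, ⟨ec⟩⟩ :=
    Model.exists_invertible_model f (e.twist j) (Twist.isInvertible_twist e j)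
  haveI := hL
  exact exists_pow_twist_aux L e j F₀ hF₀ c hc₁ hc₂ ec

/-- Every twist is the type of an indecomposable finite locally free module. -/
theorem exists_indec_twPow (e : BrSev.Splitting f K n) (j : ℤ) :
    ∃ (W : X.Modules) (r : ℕ), FlatMod.IsFinLocFree W ∧ Indec W ∧ 0 < r ∧ BrSev.IsTwPow e j r W := by
  haveI : IsAlgClosed K := IsAlgClosure.isAlgClosed k
  obtain ⟨G, r, hG, hr, ⟨a⟩⟩ := exists_pow_twist e j
  letI : X.Over (Spec (CommRingCat.of k)) := ⟨f⟩
  letI : (BrSev.bc f K).Over (Spec (CommRingCat.of K)) := ⟨BrSev.bcTo f K⟩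
  haveI : IsProper (X ↘ Spec (CommRingCat.of k)) := ‹IsProper f›
  haveI : IsProper (BrSev.bc f K ↘ Spec (CommRingCat.of K)) :=
    inferInstanceAs (IsProper (pullback.snd _ _))
  have hsq : IsPullback (BrSev.proj f K) (BrSev.bc f K ↘ Spec (CommRingCat.of K)) (X ↘ Spec (CommRingCat.of k))
      (Spec.map (CommRingCat.ofHom (algebraMap k K))) := IsPullback.of_hasPullback _ _
  haveI := LeadPic.PnRel.isIntegral_projSpace n K
  haveI : Nonempty (BrSev.bc f K) := ⟨e.iso.inv (LeadPic.Pn.η n K)⟩
  haveI : IsIntegral (BrSev.bc f K) := isIntegral_of_isOpenImmersion e.iso.hom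
  have hInd : Indec (e.twist j) := indec_invertible (Twist.isInvertible_twist e j)
  have h0 : ¬ IsZero G := fun hz => by
    have h1 : IsZero (BrSev.pow (e.twist j) r) := ((Scheme.Modules.pullback (BrSev.proj f K)).map_isZero hz).of_iso a.symm
    refine hInd.1 ?_
    refine (IsZero.iff_id_eq_zero _).2 ?_
    rw [← Category.comp_id (𝟙 (e.twist j)), Category.id_comp]
    calc 𝟙 (e.twist j) = Sigma.ι (fun _ : Fin r => e.twist j) ⟨0, hr⟩ ≫ Sigma.desc (fun _ => 𝟙 _) := by simp
      _ = 0 := by rw [h1.eq_of_tgt (Sigma.ι (fun _ : Fin r => e.twist j) ⟨0, hr⟩) 0, zero_comp]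
  obtain ⟨P, i, p, s, hip, hP, hs, ⟨b⟩⟩ := exists_indec_type hsq hG h0 (e.twist j) hInd r a
  haveI : Flat (BrSev.proj f K) := inferInstance
  haveI : Surjective (BrSev.proj f K) := by
    haveI : Surjective (Spec.map (CommRingCat.ofHom (algebraMap k K))) :=
      ⟨fun x => ⟨(⟨⊥, Ideal.isPrime_bot⟩ : PrimeSpectrum K),
        @Subsingleton.elim _ (inferInstanceAs (Subsingleton (PrimeSpectrum k))) _ x⟩⟩
    exact MorphismProperty.pullback_fst _ _ inferInstance
  haveI : QuasiCompact (BrSev.proj f K) := MorphismProperty.pullback_fst _ _ inferInstance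
  have hPc := isCoh_of_retract hG i p hip
  haveI : P.IsQuasicoherent := hPc.1
  refine ⟨P, s, H23Para.isFinLocFree_of_pullback (BrSev.proj f K) P ?_, hP, hs, ⟨b⟩⟩
  suffices h : FlatMod.IsFinLocFree (BrSev.pow (e.twist j) s) from fun x => by
    obtain ⟨U, m, hx, ⟨e'⟩⟩ := h x
    exact ⟨U, m, hx, ⟨(Scheme.Modules.restrictFunctor U.ι).mapIso b ≪≫ e'⟩⟩
  refine H16Derived.KFlat.Stalk.isFinLocFree_sigma _ fun _ => ?_
  exact H23Para.isFinLocFree_of_isInvertible (Twist.isInvertible_twist e j)

end Groth.Agent.H23KS.Exists
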