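import Groth.Agent.LeadBC.Amplitude
import Groth.Agent.LeadBC.BaseChange
import Groth.Agent.LeadBC.Basic
import Groth.Agent.H28Int.FieldExt
import Groth.Agent.H06FlatCx.GenericRank
import Mathlib

/-!
# Vanishing of cohomology does not depend on the base field
-/

set_option autoImplicit false
set_option linter.style.haveILetI false

universe u

open CategoryTheory CategoryTheory.Limits AlgebraicGeometry
open scoped TensorProduct

noncomputable section

namespace Groth.Agent.H23KS

open Groth.Agent Groth.Agent.LeadBC Groth.Agent.H06FlatCx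

variable {k : Type u} [Field k] {K : Type u} [Field K] [Algebra k K] {X : Scheme.{u}}
  [X.Over (Spec (CommRingCat.of k))] [IsProper (X ↘ Spec (CommRingCat.of k))]
  {X' : Scheme.{u}} [X'.Over (Spec (CommRingCat.of K))] {q : X' ⟶ X}
  (hsq : IsPullback q (X' ↘ Spec (CommRingCat.of K)) (X ↘ Spec (CommRingCat.of k))
    (Spec.map (CommRingCat.ofHom (algebraMap k K))))

include hsq in
/-- `H^p(X, M) = 0` iff `H^p(X_K, M_K) = 0`. -/
theorem subsingleton_HH_iff {M : X.Modules} (hM : Coh.IsCoh M) (p : ℕ) :
    Subsingleton (Coh.HH X M p) ↔ Subsingleton (Coh.HH X' (qF q M) p) := by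
  haveI := hM.1
  obtain ⟨ι, hι, U, hU, ⟨m⟩⟩ := exists_model k M hM (H28Int.FieldExt.isFlatOver_of_field _ M)
  have hid : IsPullback (𝟙 X) (X ↘ Spec (CommRingCat.of k)) (X ↘ Spec (CommRingCat.of k))
      (Spec.map (CommRingCat.ofHom (algebraMap k k))) := by
    rw [show Spec.map (CommRingCat.ofHom (algebraMap k k)) = 𝟙 _ from Spec.map_id _]
    exact IsPullback.id_horiz _
  obtain ⟨e₀, -⟩ := Model.exists_bcEquiv k hid hU m p
  obtain ⟨e₁, -⟩ := Model.exists_bcEquiv K hsq hU m p
  let j : ℤ := (m.N : ℤ) - p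
  have h₀ : Subsingleton (Coh.HH X M p) ↔ Subsingleton (H0 m.P (j + 1) j (j - 1)) :=
    ((((HMod k p).mapIso ((Scheme.Modules.pullbackId X).app M)).toLinearEquiv).toEquiv.subsingleton_congr.symm.trans
      e₀.toEquiv.subsingleton_congr.symm).trans
      (tSelfEquiv m.P (down_prev j) (down_next j)).toEquiv.subsingleton_congr.symm
  haveI : Module.Flat k (ModuleCat.of k K) := inferInstanceAs (Module.Flat k K)
  rw [h₀, ← e₁.toEquiv.subsingleton_congr]
  refine Iff.trans ?_ (tEquivOfFlat m.P (down_prev j) (down_next j) (ModuleCat.of k K)).toEquiv.subsingleton_congr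
  refine ⟨fun h => ?_, fun h => ?_⟩
  · infer_instance
  · haveI : Subsingleton (H0 m.P (j + 1) j (j - 1) ⊗[k] K) := h
    refine ((TensorProduct.rid k _).toEquiv.subsingleton_congr).1 ?_
    exact (Module.Flat.lTensor_preserves_injective_linearMap (M := H0 m.P (j + 1) j (j - 1))
      (Algebra.linearMap k K) (algebraMap k K).injective).subsingleton

end Groth.Agent.H23KS
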