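import Groth.Agent.H23KS.Twist
import Mathlib

/-!
# Invertible modules on a split variety over a finite algebra
-/

set_option autoImplicit false
set_option linter.style.haveILetI false
set_option linter.unusedSectionVars false

universe u

open CategoryTheory CategoryTheory.Limits AlgebraicGeometry Opposite TopologicalSpace

noncomputable section

namespace Groth.Agent.H23KS.SplitRing

open Groth.Agent Groth.Agent.H25Theta CohB1

attribute [local instance 10000] H10Coh.hasSheafifyAb H10Coh.hasWeakSheafifyAb H10Coh.hasExtAb H10Coh.enoughInjAb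
attribute [local instance] H10Coh.enoughInjMod

variable {k : Type u} [Field k] {X : Scheme.{u}} {f : X ⟶ Spec (CommRingCat.of k)}
  {K : Type u} [Field K] [Algebra k K] {n : ℕ}
  {R : Type u} [CommRing R] [Algebra k R] [Algebra K R] [IsScalarTower k K R]

/-- The projection of the base change to `R` to the base change to `K`. -/
def toBcK (f : X ⟶ Spec (CommRingCat.of k)) : BrSev.bc f R ⟶ BrSev.bc f K :=
  pullback.lift (BrSev.proj f R) (BrSev.bcTo f R ≫ Spec.map (CommRingCat.ofHom (algebraMap K R))) (by
    rw [pullback.condition, Category.assoc, ← Spec.map_comp]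
    exact congrArg (BrSev.bcTo f R ≫ ·) (congrArg Spec.map (CommRingCat.hom_ext (IsScalarTower.algebraMap_eq k K R))))

theorem isPullback_toBcK : IsPullback (toBcK (K := K) (R := R) f) (BrSev.bcTo f R) (BrSev.bcTo f K)
    (Spec.map (CommRingCat.ofHom (algebraMap K R))) := by
  refine IsPullback.of_right ?_ (pullback.lift_snd _ _ _)
    (IsPullback.of_hasPullback f (Spec.map (CommRingCat.ofHom (algebraMap k K))))
  rw [show toBcK (K := K) (R := R) f ≫ pullback.fst _ _ = BrSev.proj f R from pullback.lift_fst _ _ _,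
    show Spec.map (CommRingCat.ofHom (algebraMap K R)) ≫ Spec.map (CommRingCat.ofHom (algebraMap k K)) =
      Spec.map (CommRingCat.ofHom (algebraMap k R)) from
      (Spec.map_comp _ _).symm.trans (congrArg Spec.map (CommRingCat.hom_ext (IsScalarTower.algebraMap_eq k K R).symm))]
  exact IsPullback.of_hasPullback _ _

/-- The point of the base change given by a point of `R`. -/
def atPoint (f : X ⟶ Spec (CommRingCat.of k)) (ψ : R →ₐ[K] K) : BrSev.bc f K ⟶ BrSev.bc f R :=
  pullback.lift (BrSev.proj f K) (BrSev.bcTo f K ≫ Spec.map (CommRingCat.ofHom ψ.toRingHom)) (by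
    rw [pullback.condition, Category.assoc, ← Spec.map_comp]
    refine congrArg (BrSev.bcTo f K ≫ ·) (congrArg Spec.map (CommRingCat.hom_ext (RingHom.ext fun x => ?_)))
    show algebraMap k K x = ψ (algebraMap k R x)
    rw [IsScalarTower.algebraMap_apply k K R, AlgHom.commutes]
    rfl)

theorem atPoint_toBcK (ψ : R →ₐ[K] K) : atPoint f ψ ≫ toBcK f = 𝟙 _ := by
  refine pullback.hom_ext ?_ ?_
  · rw [Category.assoc, toBcK, pullback.lift_fst, Category.id_comp]
    exact pullback.lift_fst _ _ _
  simp only [atPoint, toBcK, Category.assoc, pullback.lift_snd, pullback.lift_snd_assoc, Category.id_comp,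
    ← Spec.map_comp]
  refine Eq.trans ?_ (Category.comp_id _)
  rw [← Spec.map_id]
  exact congrArg (BrSev.bcTo f K ≫ ·) (congrArg Spec.map (CommRingCat.hom_ext (RingHom.ext fun x => ψ.commutes x)))

/-- Every point of the spectrum of a finite algebra over an algebraically closed field is rational. -/
theorem exists_point [IsAlgClosed K] [Module.Finite K R] (s : Spec (CommRingCat.of R)) :
    ∃ (ψ : R →ₐ[K] K) (w : Spec ((Spec (CommRingCat.of R)).residueField s) ⟶ Spec (CommRingCat.of K)),
      w ≫ Spec.map (CommRingCat.ofHom ψ.toRingHom) = (Spec (CommRingCat.of R)).fromSpecResidueField s := by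
  let P : Ideal R := (show PrimeSpectrum R from s).asIdeal
  haveI : P.IsPrime := (show PrimeSpectrum R from s).isPrime
  haveI : Algebra.IsIntegral K (R ⧸ P) := inferInstance
  have hb : Function.Bijective (algebraMap K (R ⧸ P)) := IsAlgClosed.algebraMap_bijective_of_isIntegral
  let ψ : R →ₐ[K] K := ((AlgEquiv.ofBijective (Algebra.ofId K (R ⧸ P)) hb).symm.toAlgHom).comp (Ideal.Quotient.mkₐ K P)
  let φ := Spec.preimage ((Spec (CommRingCat.of R)).fromSpecResidueField s)
  refine ⟨ψ, Spec.map (CommRingCat.ofHom (algebraMap K R) ≫ φ), ?_⟩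
  rw [← Spec.map_comp, ← Spec.map_preimage ((Spec (CommRingCat.of R)).fromSpecResidueField s)]
  refine congrArg Spec.map (CommRingCat.hom_ext (RingHom.ext fun r => ?_))
  have hr : r - algebraMap K R (ψ r) ∈ P := by
    rw [← Ideal.Quotient.eq_zero_iff_mem, map_sub, sub_eq_zero]
    exact ((AlgEquiv.ofBijective (Algebra.ofId K (R ⧸ P)) hb).apply_symm_apply (Ideal.Quotient.mk P r)).symm
  have hP : ∀ x ∈ P, φ.hom x = 0 := fun x hx => by
    have h : (Spec.map φ) (IsLocalRing.closedPoint _) = s := by
      rw [Spec.map_preimage]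
      exact Scheme.fromSpecResidueField_apply _ _
    have h' : x ∈ (show PrimeSpectrum R from (Spec.map φ) (IsLocalRing.closedPoint _)).asIdeal := h.symm ▸ hx
    have h'' : φ.hom x ∈ IsLocalRing.maximalIdeal _ := h'
    rwa [IsLocalRing.maximalIdeal_eq_bot, Ideal.mem_bot] at h''
  have := hP _ hr
  rw [map_sub, sub_eq_zero] at this
  exact this.symm

variable [IsAlgClosed K] [Module.Finite K R]

set_option maxHeartbeats 1000000 in
include K in
/-- An invertible module trivial at every point comes from the base. -/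
theorem exists_of_trivial_at_points (e : BrSev.Splitting f K n) {M : (BrSev.bc f R).Modules}
    (hM : PicF.IsInvertible M)
    (h : ∀ ψ : R →ₐ[K] K, pullU (atPoint f ψ) (unitCls hM) = 1) :
    ∃ L : (Spec (CommRingCat.of R)).Modules, PicF.IsInvertible L ∧
      Nonempty (M ≅ (Scheme.Modules.pullback (BrSev.bcTo f R)).obj L) := by
  let S := Spec (CommRingCat.of R)
  let T := Spec (CommRingCat.of K)
  let φ : S ⟶ T := Spec.map (CommRingCat.ofHom (algebraMap K R))
  obtain ⟨a, ha, ha₁, -⟩ := H22Alg.PB.exists_affine_iso n K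
  haveI := ha
  let pm : ProjSpaceOver n S ⟶ ProjSpaceOver n T :=
    pullback.lift (pullback.fst _ _) (pullback.snd _ _ ≫ φ)
      (pullback.condition.trans (specULiftZIsTerminal.hom_ext _ _))
  have sq : IsPullback pm (ProjSpaceOver.toBase n S) (ProjSpaceOver.toBase n T) φ := by
    refine IsPullback.of_right ?_ (pullback.lift_snd _ _ _) (IsPullback.of_hasPullback
      (ProjSpace.toSpec n (ULift.{u} ℤ)) (specULiftZIsTerminal.from T))
    rw [show pm ≫ pullback.fst _ _ = pullback.fst _ _ from pullback.lift_fst _ _ _,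
      show φ ≫ specULiftZIsTerminal.from T = specULiftZIsTerminal.from S from specULiftZIsTerminal.hom_ext _ _]
    exact IsPullback.of_hasPullback _ _
  have sq1 : IsPullback (inv a ≫ e.iso.inv) (ProjSpaceOver.toBase n T) (BrSev.bcTo f K) (𝟙 T) := by
    refine IsPullback.of_horiz_isIso ⟨?_⟩
    rw [Category.comp_id, Category.assoc, ← e.comm, e.iso.inv_hom_id_assoc, IsIso.inv_comp_eq]
    exact ha₁.symm
  have sq' : IsPullback (pm ≫ inv a ≫ e.iso.inv) (ProjSpaceOver.toBase n S) (BrSev.bcTo f K) φ :=
    Category.comp_id φ ▸ sq.paste_horiz sq1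
  let Θ : ProjSpaceOver n S ≅ BrSev.bc f R := sq'.isoIsPullback _ _ (isPullback_toBcK (K := K) (R := R) (f := f))
  have hΘ : Θ.hom ≫ BrSev.bcTo f R = ProjSpaceOver.toBase n S := sq'.isoIsPullback_hom_snd _ _ _
  let g := ProjSpaceOver.toBase n S
  haveI : IsProper g := H27Weil.isProper_toBase n S
  haveI : Flat g := LeadPic.PnRel.flat_toBase n S
  haveI : LocallyOfFinitePresentation g := LeadPic.PnRel.locallyOfFinitePresentation_toBase n S
  let N := (Scheme.Modules.pullback Θ.hom).obj M
  have hN : PicF.IsInvertible N := H11Ample.isInvertible_pullback _ hM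
  have htriv : ∀ s : S, Nonempty (CohIII.fiberMod g N s ≅ Coh.structureModule (g.fiber s)) := fun s => by
    obtain ⟨-, -, -, ε, -⟩ := LeadPic.PnRel.fibre_props n S s
    obtain ⟨ψ, w, hw⟩ := exists_point (K := K) s
    let m := ε.hom ≫ g.fiberι s ≫ Θ.hom
    have hm : m ≫ BrSev.bcTo f R = (ε.hom ≫ g.fiberToSpecResidueField s ≫ w) ≫ Spec.map (CommRingCat.ofHom ψ.toRingHom) := by
      simp only [m, Category.assoc, hΘ, hw]
      exact congrArg (ε.hom ≫ ·) (IsPullback.of_hasPullback g (S.fromSpecResidueField s)).w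
    let b : ProjSpace n (S.residueField s) ⟶ BrSev.bc f K :=
      pullback.lift (m ≫ BrSev.proj f R) (ε.hom ≫ g.fiberToSpecResidueField s ≫ w) (by
        rw [Category.assoc, pullback.condition, ← Category.assoc m, hm]
        simp only [Category.assoc, ← Spec.map_comp]
        refine congrArg (fun z => ε.hom ≫ g.fiberToSpecResidueField s ≫ w ≫ Spec.map z)
          (CommRingCat.hom_ext (RingHom.ext fun x => ?_))
        show ψ (algebraMap k R x) = algebraMap k K x
        rw [IsScalarTower.algebraMap_apply k K R, AlgHom.commutes]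
        rfl)
    have hb : b ≫ atPoint f ψ = m := by
      refine pullback.hom_ext ?_ ?_
      · rw [Category.assoc, atPoint, pullback.lift_fst]
        exact pullback.lift_fst _ _ _
      simp only [b, atPoint, Category.assoc, pullback.lift_snd, pullback.lift_snd_assoc]
      simpa only [Category.assoc] using hm.symm
    refine cls_eq.1 ?_
    have h1 : pullU m (unitCls hM) = 1 := by rw [← hb, ← pullU_pullU, h ψ, map_one]
    have h2 := congrArg (pullU ε.inv) h1
    rw [pullU_pullU, map_one, show ε.inv ≫ m = g.fiberι s ≫ Θ.hom by simp [m], ← pullU_pullU] at h2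
    exact congrArg Units.val h2
  have hK := fun s : S => (LeadPic.PnRel.fibre_props n S s).1
  obtain ⟨hinv, hiso⟩ := LeadBC.Seesaw.invertible_and_counit_of_epiOn g N hN hK
    (fun s => LeadBC.Seesaw.exists_epiOn_of_triv_H1 g (fun s => (LeadPic.PnRel.fibre_props n S s).2.2.1) N hN (htriv s))
    htriv
  haveI := hiso
  refine ⟨_, hinv, cls_eq.1 ?_⟩
  have h3 : pull g (cls ((Scheme.Modules.pushforward g).obj N)) = pull Θ.hom (cls M) :=
    cls_eq.2 ⟨asIso ((Scheme.Modules.pullbackPushforwardAdjunction g).counit.app N)⟩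
  have h4 := congrArg (pull Θ.inv) h3
  rw [pull_pull, pull_pull, Θ.inv_hom_id, pull_id, show Θ.inv ≫ g = BrSev.bcTo f R by
    rw [Iso.inv_comp_eq]; exact hΘ.symm] at h4
  exact h4.symm

end Groth.Agent.H23KS.SplitRing
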