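import Groth.Agent.H23KS.SplitPush
import Groth.Agent.H23KS.SplitRing
import Groth.Agent.H23KS.Exists
import Mathlib

/-!
# Galois invariant indecomposable bundles have isotypical models
-/

set_option autoImplicit false
set_option linter.style.haveILetI false
set_option linter.unusedSectionVars false

universe u

open CategoryTheory CategoryTheory.Limits AlgebraicGeometry
open scoped TensorProduct

noncomputable section

namespace Groth.Agent.H23KS.GalInvariant

open Groth.Agent Groth.Agent.LeadBC Groth.Agent.H23KS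

attribute [local instance] Abelian.hasFiniteBiproducts

variable {k : Type u} [Field k] {K : Type u} [Field K] [Algebra k K]

section Algebra

variable (L : Type u) [Field L] [Algebra k L] [FiniteDimensional k L] [Algebra.IsSeparable k L]

attribute [local instance] Algebra.TensorProduct.rightAlgebra

/-- The point of `L ⊗ K` over an embedding of `L`. -/
def pt (σ : L →ₐ[k] K) : (L ⊗[k] K) →ₐ[K] K :=
  { (Algebra.TensorProduct.lift σ (AlgHom.id k K) fun x y => Commute.all _ _).toRingHom with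
    commutes' := fun c => by
      show Algebra.TensorProduct.lift σ (AlgHom.id k K) _ ((1 : L) ⊗ₜ c) = _
      simp }

theorem pt_tmul (σ : L →ₐ[k] K) (x : L) (c : K) : pt L σ (x ⊗ₜ c) = σ x * c := by
  show Algebra.TensorProduct.lift σ (AlgHom.id k K) (fun x y => Commute.all _ _) (x ⊗ₜ c) = _
  simp

/-- The points of `L ⊗ K` make it a product of copies of `K`. -/
theorem bijective_pt [IsSepClosed K] :
    ∃ (d : ℕ) (σ : Fin d → (L →ₐ[k] K)), 0 < d ∧
      Function.Bijective fun (r : L ⊗[k] K) (i : Fin d) => pt L (σ i) r := by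
  classical
  let σ := (Fintype.equivFin (L →ₐ[k] K)).symm
  refine ⟨_, σ, ?_⟩
  have hcard : Fintype.card (L →ₐ[k] K) = Module.finrank k L :=
    AlgHom.card_of_splits k L K fun x => IsSepClosed.splits_codomain _ (Algebra.IsSeparable.isSeparable k x)
  let Θ : (L ⊗[k] K) →ₗ[K] (Fin (Fintype.card (L →ₐ[k] K)) → K) := LinearMap.pi fun i => (pt L (σ i)).toLinearMap
  have hsurj : Function.Surjective Θ := by
    rw [← LinearMap.range_eq_top]
    by_contra hne
    obtain ⟨φ, hφ, hle⟩ := Submodule.exists_le_ker_of_lt_top _ (lt_top_iff_ne_top.2 hne)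
    have hli := (linearIndependent_toLinearMap k L K).comp σ σ.injective
    have h0 : ∑ i, φ (Pi.single i 1) • (σ i).toLinearMap = 0 := by
      refine LinearMap.ext fun x => ?_
      have h1 : φ (Θ (x ⊗ₜ (1 : K))) = 0 := hle (LinearMap.mem_range_self Θ _)
      rw [LinearMap.pi_apply_eq_sum_univ φ] at h1
      simp only [LinearMap.coe_sum, Finset.sum_apply, LinearMap.smul_apply, LinearMap.zero_apply,
        AlgHom.toLinearMap_apply, smul_eq_mul]
      refine Eq.trans (Finset.sum_congr rfl fun i _ => ?_) h1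
      show φ (Pi.single i 1) * σ i x = Θ (x ⊗ₜ (1 : K)) i • φ fun j => if i = j then 1 else 0
      rw [show Θ (x ⊗ₜ (1 : K)) i = pt L (σ i) (x ⊗ₜ (1 : K)) from rfl, pt_tmul, mul_one, smul_eq_mul, mul_comm]
      exact congrArg (fun z => σ i x * φ z) (funext fun j => by rw [Pi.single_apply]; simp [eq_comm])
    refine hφ (LinearMap.pi_ext fun i c => ?_)
    have h2 := Fintype.linearIndependent_iff.1 hli _ h0 i
    rw [show (Pi.single i c : Fin (Fintype.card (L →ₐ[k] K)) → K) = c • Pi.single i 1 by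
      rw [← Pi.single_smul', smul_eq_mul, mul_one], map_smul, h2, smul_zero, LinearMap.zero_apply]
  haveI : Module.Finite K (L ⊗[k] K) := Module.Finite.equiv (R := K) (M := K ⊗[k] L)
    (AlgEquiv.ofRingEquiv (f := (Algebra.TensorProduct.comm k K L).toRingEquiv) fun x => rfl).toLinearEquiv
  have hdim : Module.finrank K (L ⊗[k] K) = Module.finrank K (Fin (Fintype.card (L →ₐ[k] K)) → K) := by
    rw [← (AlgEquiv.ofRingEquiv (f := (Algebra.TensorProduct.comm k K L).toRingEquiv) fun x => rfl :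
      K ⊗[k] L ≃ₐ[K] L ⊗[k] K).toLinearEquiv.finrank_eq, Module.finrank_baseChange, Module.finrank_fin_fun, hcard]
  exact ⟨by rw [hcard]; exact Module.finrank_pos,
    ⟨(LinearMap.injective_iff_surjective_of_finrank_eq_finrank hdim).2 hsurj, hsurj⟩⟩

end Algebra

variable {X : Scheme.{u}} {f : X ⟶ Spec (CommRingCat.of k)} [IsProper f]

/-- The model over a finite extension does the job. -/
theorem exists_pow_model_aux [IsSepClosed K] [Algebra.IsSeparable k K] [Normal k K] (L : Type u) [Field L]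
    [Algebra k L] [FiniteDimensional k L] [Algebra L K] [IsScalarTower k L K] (W : (BrSev.bc f K).Modules)
    (hW : FlatMod.IsFinLocFree W)
    (hinv : ∀ (τ : K ≃ₐ[k] K) (g : BrSev.bc f K ⟶ BrSev.bc f K), g ≫ BrSev.proj f K = BrSev.proj f K →
      g ≫ BrSev.bcTo f K = BrSev.bcTo f K ≫ Spec.map (CommRingCat.ofHom (τ : K →+* K)) →
      Nonempty ((Scheme.Modules.pullback g).obj W ≅ W))
    (F₀ : (BrSev.bc f L).Modules) (hq : Coh.IsQCoh F₀)
    (c : BrSev.bc f K ⟶ BrSev.bc f L) (hc₁ : c ≫ BrSev.proj f L = BrSev.proj f K)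
    (hc₂ : c ≫ BrSev.bcTo f L = BrSev.bcTo f K ≫ Spec.map (CommRingCat.ofHom (algebraMap L K)))
    (ec : (Scheme.Modules.pullback c).obj F₀ ≅ W) :
    ∃ (G : X.Modules) (r : ℕ), Coh.IsCoh G ∧ 0 < r ∧
      Nonempty ((Scheme.Modules.pullback (BrSev.proj f K)).obj G ≅ ∐ fun _ : Fin r => W) := by
  haveI : Algebra.IsAlgebraic k K := Algebra.IsSeparable.isAlgebraic k K
  haveI : CompactSpace X := QuasiCompact.compactSpace_of_compactSpace f
  haveI : IsLocallyNoetherian X := LocallyOfFiniteType.isLocallyNoetherian f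
  haveI : Algebra.IsSeparable k L := Algebra.isSeparable_tower_bot_of_isSeparable k L K
  haveI : F₀.IsQuasicoherent := hq
  letI aR : Algebra K (L ⊗[k] K) := Algebra.TensorProduct.rightAlgebra
  haveI : IsScalarTower k K (L ⊗[k] K) := IsScalarTower.of_algebraMap_eq fun x =>
    ((Algebra.TensorProduct.includeRight (R := k) (A := L) (B := K)).commutes x).symm
  -- the model is a bundle
  let m : Spec (CommRingCat.of K) ⟶ Spec (CommRingCat.of L) := Spec.map (CommRingCat.ofHom (algebraMap L K))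
  have hcsq : IsPullback c (BrSev.bcTo f K) (BrSev.bcTo f L) m := by
    refine IsPullback.of_right ?_ hc₂ (IsPullback.of_hasPullback f (Spec.map (CommRingCat.ofHom (algebraMap k L))))
    rw [show c ≫ pullback.fst f _ = BrSev.proj f K from hc₁,
      show m ≫ Spec.map (CommRingCat.ofHom (algebraMap k L)) = Spec.map (CommRingCat.ofHom (algebraMap k K)) from
      (Spec.map_comp _ _).symm.trans (congrArg Spec.map (CommRingCat.hom_ext (IsScalarTower.algebraMap_eq k L K).symm))]
    exact IsPullback.of_hasPullback _ _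
  haveI : Flat m := (HasRingHomProperty.Spec_iff (P := @Flat)).2 (RingHom.flat_algebraMap_iff.2 inferInstance)
  haveI : Surjective m := ⟨fun x => ⟨(⟨⊥, Ideal.isPrime_bot⟩ : PrimeSpectrum K),
    @Subsingleton.elim _ (inferInstanceAs (Subsingleton (PrimeSpectrum L))) _ x⟩⟩
  haveI : Flat c := MorphismProperty.of_isPullback hcsq.flip inferInstance
  haveI : Surjective c := MorphismProperty.of_isPullback hcsq.flip inferInstance
  haveI : QuasiCompact c := MorphismProperty.of_isPullback hcsq.flip inferInstance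
  have hF₀ : FlatMod.IsFinLocFree F₀ := H23Para.isFinLocFree_of_pullback c F₀ fun x => by
    obtain ⟨U, m, hx, ⟨e'⟩⟩ := hW x
    exact ⟨U, m, hx, ⟨(Scheme.Modules.restrictFunctor U.ι).mapIso ec ≪≫ e'⟩⟩
  haveI : IsFinite (BrSev.proj f L) := by
    haveI : IsFinite (Spec.map (CommRingCat.ofHom (algebraMap k L))) :=
      (IsFinite.SpecMap_iff _).2 (RingHom.finite_algebraMap.2 inferInstance)
    exact MorphismProperty.pullback_fst _ _ inferInstance
  haveI : IsLocallyNoetherian (BrSev.bc f L) := LocallyOfFiniteType.isLocallyNoetherian (BrSev.proj f L)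
  -- the two projections from the base change to `L ⊗ K`
  let πK := SplitRing.toBcK (K := K) (R := L ⊗[k] K) f
  let πL := SplitRing.toBcK (K := L) (R := L ⊗[k] K) f
  have C : IsPullback (Spec.map (CommRingCat.ofHom (algebraMap L (L ⊗[k] K))))
      (Spec.map (CommRingCat.ofHom (algebraMap K (L ⊗[k] K))))
      (Spec.map (CommRingCat.ofHom (algebraMap k L))) (Spec.map (CommRingCat.ofHom (algebraMap k K))) := by
    refine IsPullback.of_iso_pullback ⟨?_⟩ (pullbackSpecIso k L K).symm
      (pullbackSpecIso_inv_fst k L K) (pullbackSpecIso_inv_snd k L K)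
    rw [← Spec.map_comp, ← Spec.map_comp]
    exact congrArg Spec.map (CommRingCat.hom_ext (RingHom.ext fun x =>
      ((IsScalarTower.algebraMap_apply k L (L ⊗[k] K) x).symm.trans
        (IsScalarTower.algebraMap_apply k K (L ⊗[k] K) x))))
  have hsq : IsPullback πL πK (BrSev.proj f L) (BrSev.proj f K) := by
    have h1 : IsPullback (πL ≫ BrSev.bcTo f L) πK (Spec.map (CommRingCat.ofHom (algebraMap k L)))
        (BrSev.proj f K ≫ f) := by
      rw [show πL ≫ BrSev.bcTo f L = BrSev.bcTo f (L ⊗[k] K) ≫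
          Spec.map (CommRingCat.ofHom (algebraMap L (L ⊗[k] K))) from pullback.lift_snd _ _ _,
        show BrSev.proj f K ≫ f = BrSev.bcTo f K ≫ Spec.map (CommRingCat.ofHom (algebraMap k K)) from
          pullback.condition]
      exact (SplitRing.isPullback_toBcK).flip.paste_horiz C
    refine IsPullback.of_right h1 ?_ (IsPullback.of_hasPullback f _).flip
    exact (pullback.lift_fst _ _ _).trans (pullback.lift_fst _ _ _).symm
  haveI : Coh.IsQCoh F₀ := hq
  obtain ⟨b⟩ := Exists.nonempty_baseChange hsq F₀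
  -- the points
  obtain ⟨d, σ, hd, hb⟩ := bijective_pt (k := k) (K := K) L
  letI : (BrSev.bc f (L ⊗[k] K)).Over (Spec (CommRingCat.of (L ⊗[k] K))) := ⟨BrSev.bcTo f _⟩
  letI : (BrSev.bc f K).Over (Spec (CommRingCat.of K)) := ⟨BrSev.bcTo f K⟩
  let s := fun i => SplitRing.atPoint (R := L ⊗[k] K) f (pt L (σ i))
  haveI : IsAffineHom πK := MorphismProperty.of_isPullback
    (SplitRing.isPullback_toBcK (K := K) (R := L ⊗[k] K) (f := f)).flip inferInstance
  have hs : ∀ i, IsPullback (s i) (BrSev.bcTo f K) (BrSev.bcTo f (L ⊗[k] K))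
      (Spec.map (CommRingCat.ofHom (pt L (σ i)).toRingHom)) := fun i => by
    refine IsPullback.of_right ?_ (pullback.lift_snd _ _ _) (SplitRing.isPullback_toBcK (K := K) (f := f))
    rw [SplitRing.atPoint_toBcK, ← Spec.map_comp, ← CommRingCat.ofHom_comp,
      show (pt L (σ i)).toRingHom.comp (algebraMap K (L ⊗[k] K)) = RingHom.id K from
        RingHom.ext fun x => (pt L (σ i)).commutes x, CommRingCat.ofHom_id, Spec.map_id]
    exact IsPullback.of_horiz_isIso ⟨by simp⟩
  let M := (Scheme.Modules.pullback πL).obj F₀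
  haveI : M.IsQuasicoherent := H29Fitt.isQCoh_pullback πL F₀ hq
  obtain ⟨p⟩ := SplitPush.nonempty_iso (fun i => pt L (σ i)) hb hs (π := πK)
    (fun i => SplitRing.atPoint_toBcK _) M
  have hterm : ∀ i, Nonempty ((Scheme.Modules.pullback (s i)).obj M ≅ W) := fun i => by
    let τ : K ≃ₐ[k] K := AlgEquiv.ofBijective ((σ i).liftNormal K) (Algebra.IsAlgebraic.algHom_bijective _)
    let g : BrSev.bc f K ⟶ BrSev.bc f K := Twist.galX f τ
    have hg : s i ≫ πL = g ≫ c := by
      refine pullback.hom_ext ?_ ?_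
      · rw [Category.assoc, Category.assoc, hc₁, Twist.galX_proj]
        exact (congrArg (s i ≫ ·) (pullback.lift_fst _ _ _)).trans (pullback.lift_fst _ _ _)
      · simp only [s, πL, SplitRing.atPoint, SplitRing.toBcK, Category.assoc, pullback.lift_snd,
          pullback.lift_snd_assoc, hc₂, g, Twist.galX_bcTo_assoc, ← Spec.map_comp]
        refine congrArg (BrSev.bcTo f K ≫ ·) (congrArg Spec.map (CommRingCat.hom_ext (RingHom.ext fun x => ?_)))
        show pt L (σ i) (x ⊗ₜ (1 : K)) = τ (algebraMap L K x)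
        rw [pt_tmul, mul_one]
        exact ((σ i).liftNormal_commutes K x).symm
    obtain ⟨w⟩ := hinv τ g (Twist.galX_proj τ) (Twist.galX_bcTo τ)
    exact ⟨(Scheme.Modules.pullbackComp (s i) πL).app F₀ ≪≫ (Scheme.Modules.pullbackCongr hg).app F₀ ≪≫
      ((Scheme.Modules.pullbackComp g c).app F₀).symm ≪≫ (Scheme.Modules.pullback g).mapIso ec ≪≫ w⟩
  exact ⟨_, d, H10Coh.isCoh_push_of_isFinite (BrSev.proj f L) F₀ (H16Derived.KFlat.Stalk.isCoh_of_isFinLocFree hF₀), hd,
    ⟨b ≪≫ p ≪≫ (biproduct.mapIso fun i => (hterm i).some) ≪≫ biproduct.isoCoproduct _⟩⟩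


/-- A module on `X_K` invariant under the automorphisms of `K` has a model: a coherent module on `X` becomes a sum
of copies of it. -/
theorem exists_pow_model [IsSepClosed K] [Algebra.IsSeparable k K] [Normal k K] (W : (BrSev.bc f K).Modules)
    (hW : FlatMod.IsFinLocFree W)
    (hinv : ∀ (τ : K ≃ₐ[k] K) (g : BrSev.bc f K ⟶ BrSev.bc f K), g ≫ BrSev.proj f K = BrSev.proj f K →
      g ≫ BrSev.bcTo f K = BrSev.bcTo f K ≫ Spec.map (CommRingCat.ofHom (τ : K →+* K)) →
      Nonempty ((Scheme.Modules.pullback g).obj W ≅ W)) :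
    ∃ (G : X.Modules) (r : ℕ), Coh.IsCoh G ∧ 0 < r ∧
      Nonempty ((Scheme.Modules.pullback (BrSev.proj f K)).obj G ≅ ∐ fun _ : Fin r => W) := by
  haveI : Algebra.IsAlgebraic k K := Algebra.IsSeparable.isAlgebraic k K
  haveI : CompactSpace X := QuasiCompact.compactSpace_of_compactSpace f
  haveI : QuasiSeparatedSpace X := quasiSeparatedSpace_of_quasiSeparated f
  haveI : IsLocallyNoetherian X := LocallyOfFiniteType.isLocallyNoetherian f
  obtain ⟨L, hL, F₀, c, hc₁, hc₂, hq, ⟨ec⟩⟩ := Model.exists_model f W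
    (H29Fitt.isQCoh_of_isFP W (H8Props.FinLocFree.isFP_of_isFinLocFree W hW))
    (H8Props.FinLocFree.isFP_of_isFinLocFree W hW)
  haveI := hL
  exact exists_pow_model_aux L W hW hinv F₀ hq c hc₁ hc₂ ec

/-- A Galois invariant indecomposable bundle is the type of an indecomposable bundle. -/
theorem exists_indec_model [IsSepClosed K] [Algebra.IsSeparable k K] [Normal k K] (W : (BrSev.bc f K).Modules)
    (hW : FlatMod.IsFinLocFree W) (hWi : Indec W)
    (hinv : ∀ (τ : K ≃ₐ[k] K) (g : BrSev.bc f K ⟶ BrSev.bc f K), g ≫ BrSev.proj f K = BrSev.proj f K →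
      g ≫ BrSev.bcTo f K = BrSev.bcTo f K ≫ Spec.map (CommRingCat.ofHom (τ : K →+* K)) →
      Nonempty ((Scheme.Modules.pullback g).obj W ≅ W)) :
    ∃ (P : X.Modules) (r : ℕ), FlatMod.IsFinLocFree P ∧ Indec P ∧ 0 < r ∧
      Nonempty ((Scheme.Modules.pullback (BrSev.proj f K)).obj P ≅ ∐ fun _ : Fin r => W) := by
  obtain ⟨G, r, hG, hr, ⟨a⟩⟩ := exists_pow_model W hW hinv
  letI : X.Over (Spec (CommRingCat.of k)) := ⟨f⟩
  letI : (BrSev.bc f K).Over (Spec (CommRingCat.of K)) := ⟨BrSev.bcTo f K⟩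
  haveI : IsProper (X ↘ Spec (CommRingCat.of k)) := ‹IsProper f›
  haveI : IsProper (BrSev.bc f K ↘ Spec (CommRingCat.of K)) :=
    inferInstanceAs (IsProper (pullback.snd _ _))
  have hsq : IsPullback (BrSev.proj f K) (BrSev.bc f K ↘ Spec (CommRingCat.of K)) (X ↘ Spec (CommRingCat.of k))
      (Spec.map (CommRingCat.ofHom (algebraMap k K))) := IsPullback.of_hasPullback _ _
  have h0 : ¬ IsZero G := fun hz => by
    have h1 : IsZero (∐ fun _ : Fin r => W) :=
      ((Scheme.Modules.pullback (BrSev.proj f K)).map_isZero hz).of_iso a.symm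
    refine hWi.1 ((IsZero.iff_id_eq_zero _).2 ?_)
    calc 𝟙 W = Sigma.ι (fun _ : Fin r => W) ⟨0, hr⟩ ≫ Sigma.desc (fun _ => 𝟙 _) := by simp
      _ = 0 := by rw [h1.eq_of_tgt (Sigma.ι (fun _ : Fin r => W) ⟨0, hr⟩) 0, zero_comp]
  obtain ⟨P, i, p, s, hip, hP, hs, ⟨b⟩⟩ := exists_indec_type hsq hG h0 W hWi r a
  haveI : Surjective (BrSev.proj f K) := by
    haveI : Surjective (Spec.map (CommRingCat.ofHom (algebraMap k K))) :=
      ⟨fun x => ⟨(⟨⊥, Ideal.isPrime_bot⟩ : PrimeSpectrum K),
        @Subsingleton.elim _ (inferInstanceAs (Subsingleton (PrimeSpectrum k))) _ x⟩⟩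
    exact MorphismProperty.pullback_fst _ _ inferInstance
  haveI : QuasiCompact (BrSev.proj f K) := MorphismProperty.pullback_fst _ _ inferInstance
  haveI : P.IsQuasicoherent := (isCoh_of_retract hG i p hip).1
  refine ⟨P, s, H23Para.isFinLocFree_of_pullback (BrSev.proj f K) P fun x => ?_, hP, hs, ⟨b⟩⟩
  obtain ⟨U, m, hx, ⟨e'⟩⟩ := H16Derived.KFlat.Stalk.isFinLocFree_sigma (fun _ : Fin s => W) (fun _ => hW) x
  exact ⟨U, m, hx, ⟨(Scheme.Modules.restrictFunctor U.ι).mapIso b ≪≫ e'⟩⟩

end Groth.Agent.H23KS.GalInvariant
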