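import Groth.Agent.H23KS.TwistEquiv
import Groth.Agent.H23KS.Exists
import Groth.Agent.H23KS.RankOne
import Groth.Agent.H22Alg.KReg
import Groth.Agent.H22Alg.PB.Vanish
import Groth.Agent.H22Alg.PullVb
import Groth.Agent.H16Derived.KFlat.RestrictD
import Groth.Agent.H16Derived.KFlat.PerfCoh
import Groth.Agent.H16Derived.KFlat.StrictPerfCone
import Mathlib

/-!
# The Grothendieck group of bundles on a form of projective space

Quillen's canonical resolution descends: a bundle `E` with `E_K(j)` regular is the image of a sum of copies of the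
indecomposable bundle of type `O(-j)`.
-/

set_option autoImplicit false
set_option linter.style.haveILetI false
set_option linter.unusedSectionVars false

universe v u

open CategoryTheory CategoryTheory.Limits AlgebraicGeometry ZeroObject
attribute [local instance] HasDerivedCategory.standard
attribute [local instance 10000] Groth.Agent.H10Coh.hasSheafifyAb Groth.Agent.H10Coh.hasWeakSheafifyAb Groth.Agent.H10Coh.hasExtAb Groth.Agent.H10Coh.enoughInjAb
attribute [local instance] Abelian.hasFiniteBiproducts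

noncomputable section

namespace Groth.Agent.H23KS.K0Gen

open Groth.Agent Groth.Agent.LeadBC Groth.Agent.H22Alg Groth.Agent.H23KS Groth.Agent.H23KS.TwistEquiv

section Hom

variable {k : Type u} [Field k] {X : Scheme.{u}} [X.Over (Spec (CommRingCat.of k))]
  [IsProper (X ↘ Spec (CommRingCat.of k))]

include k in
theorem isLocallyNoetherian_of_proper : IsLocallyNoetherian X :=
  LocallyOfFiniteType.isLocallyNoetherian (X ↘ Spec (CommRingCat.of k))

include k in
/-- Morphisms from `W` to `E` are generated by finitely many of them over the endomorphisms of `W`. -/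
theorem exists_gens {W E : X.Modules} (hW : FlatMod.IsFinLocFree W) (hE : FlatMod.IsFinLocFree E) :
    ∃ (s : ℕ) (g : Fin s → (W ⟶ E)), ∀ φ : W ⟶ E, ∃ d : Fin s → (W ⟶ W), φ = ∑ i, d i ≫ g i := by
  haveI := isLocallyNoetherian_of_proper (k := k) (X := X)
  letI := endAlgebra k (W ⊞ E)
  haveI := finite_end k (W ⊞ E) (H16Derived.KFlat.Stalk.isCoh_of_isFinLocFree
    (H16Derived.KFlat.Stalk.isFinLocFree_biprod hW hE))
  obtain ⟨s, b, hb⟩ := Module.Finite.exists_fin (R := k) (M := End (W ⊞ E))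
  refine ⟨s, fun i => biprod.inl ≫ (b i : W ⊞ E ⟶ W ⊞ E) ≫ biprod.snd, fun φ => ?_⟩
  let ψ : End (W ⊞ E) := (biprod.fst ≫ φ ≫ biprod.inr : W ⊞ E ⟶ W ⊞ E)
  obtain ⟨c, hc⟩ := (Submodule.mem_span_range_iff_exists_fun k).1 (show ψ ∈ Submodule.span k (Set.range b) by
    rw [hb]; trivial)
  refine ⟨fun i => Formal.smulMod k W (c i), ?_⟩
  have h1 : φ = biprod.inl ≫ (ψ : W ⊞ E ⟶ W ⊞ E) ≫ biprod.snd := by simp [ψ]
  rw [h1, ← hc]
  show biprod.inl ≫ (∑ i, ((b i : W ⊞ E ⟶ W ⊞ E) ≫ Formal.smulMod k (W ⊞ E) (c i))) ≫ biprod.snd = _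
  rw [Preadditive.sum_comp, Preadditive.comp_sum]
  refine Finset.sum_congr rfl fun i _ => ?_
  rw [← smulMod_comm k (b i : W ⊞ E ⟶ W ⊞ E) (c i), Category.assoc,
    ← reassoc_of% (smulMod_comm k (biprod.inl : W ⟶ W ⊞ E) (c i))]

include k in
/-- Over a division ring of endomorphisms a minimal generating family is a basis. -/
theorem exists_basis {W E : X.Modules} (hW : FlatMod.IsFinLocFree W) (hE : FlatMod.IsFinLocFree E)
    (hdiv : ∀ d : W ⟶ W, d ≠ 0 → IsIso d) :
    ∃ (s : ℕ) (g : Fin s → (W ⟶ E)),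
      Function.Bijective fun b : W ⟶ ⨁ (fun _ : Fin s => W) => b ≫ biproduct.desc g := by
  classical
  let P : ℕ → Prop := fun s => ∃ g : Fin s → (W ⟶ E), ∀ φ : W ⟶ E, ∃ d : Fin s → (W ⟶ W), φ = ∑ i, d i ≫ g i
  have hP : ∃ s, P s := exists_gens (k := k) hW hE
  obtain ⟨g, hg⟩ := Nat.find_spec hP
  have hsum : ∀ b : W ⟶ ⨁ (fun _ : Fin (Nat.find hP) => W),
      b ≫ biproduct.desc g = ∑ i, (b ≫ biproduct.π _ i) ≫ g i := fun b => by
    rw [biproduct.desc_eq, Preadditive.comp_sum]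
    simp only [Category.assoc]
  have hind : ∀ d : Fin (Nat.find hP) → (W ⟶ W), ∑ i, d i ≫ g i = 0 → d = 0 := by
    intro d hd
    by_contra hne
    obtain ⟨i₀, hi₀⟩ := Function.ne_iff.1 hne
    haveI := hdiv (d i₀) hi₀
    obtain ⟨t, ht⟩ : ∃ t, Nat.find hP = t + 1 := ⟨Nat.find hP - 1, by have := i₀.pos; omega⟩
    refine Nat.find_min hP (show t < Nat.find hP by omega) ?_
    let j₀ : Fin (t + 1) := Fin.cast ht i₀
    let g' : Fin (t + 1) → (W ⟶ E) := fun j => g (Fin.cast ht.symm j)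
    have hre : ∀ z : Fin (Nat.find hP) → (W ⟶ W),
        ∑ i, z i ≫ g i = ∑ j : Fin (t + 1), z (Fin.cast ht.symm j) ≫ g' j := fun z =>
      (Equiv.sum_comp (finCongr ht.symm) fun i => z i ≫ g i).symm
    have h0 : g' j₀ = ∑ l : Fin t, (-(inv (d i₀) ≫ d (Fin.cast ht.symm (j₀.succAbove l)))) ≫ g' (j₀.succAbove l) := by
      rw [hre, Fin.sum_univ_succAbove _ j₀] at hd
      have hi : Fin.cast ht.symm j₀ = i₀ := Fin.ext rfl
      have h2 := eq_neg_of_add_eq_zero_left hd
      rw [hi] at h2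
      rw [← IsIso.inv_hom_id_assoc (d i₀) (g' j₀), h2]
      simp [Preadditive.comp_sum]
    refine ⟨fun l => g' (j₀.succAbove l), fun φ => ?_⟩
    obtain ⟨z, hz⟩ := hg φ
    refine ⟨fun l => z i₀ ≫ (-(inv (d i₀) ≫ d (Fin.cast ht.symm (j₀.succAbove l)))) +
      z (Fin.cast ht.symm (j₀.succAbove l)), ?_⟩
    rw [hz, hre, Fin.sum_univ_succAbove _ j₀]
    have hi : Fin.cast ht.symm j₀ = i₀ := Fin.ext rfl
    rw [hi, h0, Preadditive.comp_sum, ← Finset.sum_add_distrib]
    refine Finset.sum_congr rfl fun l _ => ?_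
    rw [Preadditive.add_comp, Category.assoc]
  refine ⟨_, g, fun x y hxy => ?_, fun φ => ?_⟩
  · refine sub_eq_zero.1 (biproduct.hom_ext _ _ fun i => ?_)
    rw [zero_comp]
    refine congrFun (hind (fun i => (x - y) ≫ biproduct.π _ i) ?_) i
    rw [← hsum, Preadditive.sub_comp, sub_eq_zero]
    exact hxy
  · obtain ⟨d, hd⟩ := hg φ
    refine ⟨biproduct.lift d, ?_⟩
    rw [hd]
    exact biproduct.lift_desc

variable {K : Type u} [Field K] [Algebra k K] {X' : Scheme.{u}} [X'.Over (Spec (CommRingCat.of K))] {q : X' ⟶ X}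
  [Flat q]
  (hsq : IsPullback q (X' ↘ Spec (CommRingCat.of K)) (X ↘ Spec (CommRingCat.of k))
    (Spec.map (CommRingCat.ofHom (algebraMap k K))))

include hsq in
/-- Bijectivity on morphisms from `W` is preserved by the extension of the field. -/
theorem bij_pullback {W V E : X.Modules} (hW : Coh.IsCoh W) (hV : Coh.IsCoh V) (hE : Coh.IsCoh E) (f : V ⟶ E)
    (hf : Function.Bijective fun b : W ⟶ V => b ≫ f) :
    Function.Bijective fun b : qF q W ⟶ qF q V => b ≫ (Scheme.Modules.pullback q).map f := by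
  haveI : CompactSpace X := QuasiCompact.compactSpace_of_compactSpace (X ↘ Spec (CommRingCat.of k))
  haveI : W.IsQuasicoherent := hW.1
  haveI : V.IsQuasicoherent := hV.1
  haveI : E.IsQuasicoherent := hE.1
  haveI := H16Derived.KFlat.Stalk.preservesFiniteLimits_pullback_of_flat q
  refine ⟨fun x y hxy => ?_, fun φ => ?_⟩
  · haveI : (kernel f).IsQuasicoherent := H10Coh.isQuasicoherent_kernel f
    have h0 : (x - y) ≫ (Scheme.Modules.pullback q).map f = 0 := by
      rw [Preadditive.sub_comp, sub_eq_zero]; exact hxy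
    let θ : qF q W ⟶ qF q (kernel f) :=
      kernel.lift _ (x - y) h0 ≫ (PreservesKernel.iso (Scheme.Modules.pullback q) f).inv
    have hθ : θ ≫ (Scheme.Modules.pullback q).map (kernel.ι f) = x - y := by
      simp [θ]
    obtain ⟨m, c, z, hz⟩ := exists_span hsq hW.2 θ
    have hz0 : ∀ i, z i = 0 := fun i => by
      have : z i ≫ kernel.ι f = 0 := hf.1 (by simp)
      exact (cancel_mono (kernel.ι f)).1 (this.trans zero_comp.symm)
    rw [← sub_eq_zero, ← hθ, hz]
    simp [hz0]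
  · obtain ⟨m, c, z, hz⟩ := exists_span hsq hW.2 φ
    choose b hb using fun i => hf.2 (z i)
    refine ⟨∑ i, (Scheme.Modules.pullback q).map (b i) ≫ Formal.smulMod K (qF q V) (c i), ?_⟩
    show (∑ i, (Scheme.Modules.pullback q).map (b i) ≫ Formal.smulMod K (qF q V) (c i)) ≫ _ = φ
    rw [hz, Preadditive.sum_comp]
    refine Finset.sum_congr rfl fun i _ => ?_
    rw [Category.assoc, smulMod_comm, ← Category.assoc, ← Functor.map_comp, show b i ≫ f = z i from hb i]

include hsq in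
/-- The extension of the field reflects epimorphisms. -/
theorem epi_of_epi_map {V E : X.Modules} [V.IsQuasicoherent] [E.IsQuasicoherent] (f : V ⟶ E)
    [Epi ((Scheme.Modules.pullback q).map f)] : Epi f := by
  haveI : (cokernel f).IsQuasicoherent := H10Coh.isQuasicoherent_cokernel f
  refine Abelian.epi_of_cokernel_π_eq_zero f (map_injective hsq _ ?_)
  rw [← cancel_epi ((Scheme.Modules.pullback q).map f), ← Functor.map_comp, cokernel.condition, comp_zero,
    Functor.map_zero]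

end Hom

section Classes

variable {Y : Scheme.{u}}

local notation "vb" => (fun M : Y.Modules => FlatMod.IsFinLocFree M)

theorem vb_of_iso {M M' : Y.Modules} (e : M ≅ M') (h : FlatMod.IsFinLocFree M) : FlatMod.IsFinLocFree M' :=
  fun x => by
    obtain ⟨U, m, hx, ⟨e'⟩⟩ := h x
    exact ⟨U, m, hx, ⟨((Scheme.Modules.restrictFunctor U.ι).mapIso e).symm ≪≫ e'⟩⟩

theorem vb_of_isZero {M : Y.Modules} (h : IsZero M) : FlatMod.IsFinLocFree M :=
  vb_of_iso (IsZero.iso ((IsZero.iff_id_eq_zero _).2 (by ext a; exact a.elim0)) h)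
    (H16Derived.KFlat.Stalk.isFinLocFree_sigma (fun _ : Fin 0 => Coh.structureModule Y) fun j => j.elim0)

theorem mem_sum (H : AddSubgroup (KZero.K0sub vb)) {W : Y.Modules} (hW : FlatMod.IsFinLocFree W)
    (hm : KZero.clSub vb W ∈ H) :
    ∀ (m : ℕ) (ι : Type) [Fintype ι], Fintype.card ι = m →
      FlatMod.IsFinLocFree (⨁ fun _ : ι => W) ∧ KZero.clSub vb (⨁ fun _ : ι => W) ∈ H := by
  classical
  intro m
  induction m with
  | zero =>
    intro ι _ hι
    haveI : IsEmpty ι := Fintype.card_eq_zero_iff.1 hι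
    have hz : IsZero (⨁ fun _ : ι => W) := (IsZero.iff_id_eq_zero _).2 (biproduct.hom_ext _ _ fun i => isEmptyElim i)
    refine ⟨vb_of_isZero hz, ?_⟩
    rw [KTelescope.map_isZero (KReg.clSub_add vb) hz (vb_of_isZero hz)]
    exact H.zero_mem
  | succ m ih =>
    intro ι _ hι
    obtain ⟨i⟩ : Nonempty ι := Fintype.card_pos_iff.1 (by omega)
    obtain ⟨h1, h2⟩ := ih {x : ι // x ≠ i} (by simp [Fintype.card_subtype_compl, hι])
    let e : (⨁ fun _ : ι => W) ≅ W ⊞ ⨁ (fun _ : {x : ι // x ≠ i} => W) := biproductSplit (fun _ : ι => W) i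
    have hb := H16Derived.KFlat.Stalk.isFinLocFree_biprod hW h1
    refine ⟨vb_of_iso e.symm hb, ?_⟩
    rw [KTelescope.map_iso (KReg.clSub_add vb) (vb_of_isZero (isZero_zero _)) e (vb_of_iso e.symm hb) hb,
      KTelescope.map_biprod (KReg.clSub_add vb) hW h1 hb]
    exact H.add_mem hm h2

end Classes

section Main

variable {k : Type u} [Field k] {X : Scheme.{u}} [X.Over (Spec (CommRingCat.of k))]
  [IsProper (X ↘ Spec (CommRingCat.of k))] {K : Type u} [Field K] [Algebra k K] [IsAlgClosed K] {N : ℕ}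


theorem iterate_next (G : (KRR.PY N (Spec (CommRingCat.of K))).Modules) : ∀ m,
    SyzPn.Fk (SyzPn.next N (Spec (CommRingCat.of K)) G) m = SyzPn.Fk G (m + 1)
  | 0 => rfl
  | m + 1 => congrArg (SyzPn.next N (Spec (CommRingCat.of K))) (iterate_next G m)

variable [(KRR.PY N (Spec (CommRingCat.of K))).Over (Spec (CommRingCat.of K))] [IsProper ((KRR.PY N (Spec (CommRingCat.of K))) ↘ (Spec (CommRingCat.of K)))] [IsIntegral (KRR.PY N (Spec (CommRingCat.of K)))]
  {q : KRR.PY N (Spec (CommRingCat.of K)) ⟶ X} [Flat q]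
  (hsq : IsPullback q ((KRR.PY N (Spec (CommRingCat.of K))) ↘ (Spec (CommRingCat.of K))) (X ↘ Spec (CommRingCat.of k))
    (Spec.map (CommRingCat.ofHom (algebraMap k K))))

local notation "vb" => (fun M : X.Modules => FlatMod.IsFinLocFree M)

include hsq in
set_option maxHeartbeats 1600000 in
/-- One step of the resolution on the form. -/
theorem step {W E : X.Modules} (hW : FlatMod.IsFinLocFree W) (hWi : Indec W) {r j : ℕ} (hr : 0 < r)
    (eW : qF q W ≅ ∐ fun _ : Fin r => Twist.twistOver N (Spec (CommRingCat.of K)) (-(j : ℤ))) (hE : FlatMod.IsFinLocFree E)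
    {G : (KRR.PY N (Spec (CommRingCat.of K))).Modules} (eG : (Tw N (Spec (CommRingCat.of K)) (j : ℤ)).obj (qF q E) ≅ G) (hreg : KRR.IsRegSheaf N (Spec (CommRingCat.of K)) G) :
    ∃ (s : ℕ) (f : (⨁ fun _ : Fin s => W) ⟶ E), Epi f ∧
      Nonempty ((Tw N (Spec (CommRingCat.of K)) ((j + 1 : ℕ) : ℤ)).obj (qF q (kernel f)) ≅ SyzPn.next N (Spec (CommRingCat.of K)) G) := by
  classical
  haveI : IsLocallyNoetherian X := isLocallyNoetherian_of_proper (k := k)
  have hWc := H16Derived.KFlat.Stalk.isCoh_of_isFinLocFree hW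
  have hEc := H16Derived.KFlat.Stalk.isCoh_of_isFinLocFree hE
  haveI : E.IsQuasicoherent := hEc.1
  letI := endAlgebra k W
  haveI := finite_end k W hWc
  have hP := piReg_of_finite k W
  have hdiv : ∀ d : W ⟶ W, d ≠ 0 → IsIso d := fun d hd => (isUnit_iff_isIso d).1 (by_contra fun hnu =>
    (TwoSidedIdeal.mem_mk' _ _ _ _ _ _ _).1 (one_mem_of_mem (k := k) (K := K) hsq hWc _
      (RegSheaf.isInvertible_twistOver (-(j : ℤ))) r eW (nonunitsIdeal hWi hP) d
      ((TwoSidedIdeal.mem_mk' _ _ _ _ _ _ _).2 hnu) hd) isUnit_one)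
  obtain ⟨s, g, hg⟩ := exists_basis (k := k) hW hE hdiv
  let V := ⨁ fun _ : Fin s => W
  let f : V ⟶ E := biproduct.desc g
  have hV : FlatMod.IsFinLocFree V :=
    vb_of_iso (biproduct.isoCoproduct _).symm (H16Derived.KFlat.Stalk.isFinLocFree_sigma _ fun _ => hW)
  have hVc := H16Derived.KFlat.Stalk.isCoh_of_isFinLocFree hV
  haveI : V.IsQuasicoherent := hVc.1
  let Φ := Scheme.Modules.pullback q
  let T := Tw N (Spec (CommRingCat.of K)) (j : ℤ)
  let L := Twist.twistOver N (Spec (CommRingCat.of K)) (-(j : ℤ))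
  haveI : PreservesColimitsOfSize.{0, 0} Φ :=
    (Scheme.Modules.pullbackPushforwardAdjunction q).leftAdjoint_preservesColimits
  haveI := H16Derived.KFlat.Stalk.preservesFiniteLimits_pullback_of_flat q
  have hqW := bij_pullback hsq hWc hVc hEc f hg
  -- bijectivity on maps from the retract
  have hL : Function.Bijective fun b : L ⟶ qF q V => b ≫ Φ.map f := by
    let a : L ⟶ qF q W := Sigma.ι (fun _ : Fin r => L) ⟨0, hr⟩ ≫ eW.inv
    let b : qF q W ⟶ L := eW.hom ≫ Sigma.desc fun _ : Fin r => 𝟙 L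
    have hab : a ≫ b = 𝟙 L := by
      refine (Category.assoc _ _ _).trans ?_
      rw [eW.inv_hom_id_assoc]
      exact Sigma.ι_desc (fun _ : Fin r => 𝟙 L) ⟨0, hr⟩
    refine ⟨fun x y hxy => ?_, fun φ => ?_⟩
    · have h1 : b ≫ x = b ≫ y := hqW.1 (by
        show (b ≫ x) ≫ Φ.map f = (b ≫ y) ≫ Φ.map f
        rw [Category.assoc, Category.assoc]
        exact congrArg (b ≫ ·) hxy)
      simpa [reassoc_of% hab] using congrArg (a ≫ ·) h1
    · obtain ⟨θ, hθ⟩ := hqW.2 (b ≫ φ)
      refine ⟨a ≫ θ, ?_⟩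
      show (a ≫ θ) ≫ Φ.map f = φ
      rw [Category.assoc, show θ ≫ Φ.map f = b ≫ φ from hθ, reassoc_of% hab]
  obtain ⟨c⟩ := nonempty_twist_cancel N (Spec (CommRingCat.of K)) (j : ℤ)
  haveI : PreservesColimitsOfSize.{0, 0} T :=
    T.asEquivalence.toAdjunction.leftAdjoint_preservesColimits
  let eV : qF q V ≅ ∐ fun _ : Fin (s * r) => L :=
    Φ.mapIso (biproduct.isoCoproduct _) ≪≫ PreservesCoproduct.iso Φ (fun _ : Fin s => W) ≪≫
      (Sigma.mapIso fun _ : Fin s => eW) ≪≫ sumPow L s r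
  let eTV : FlatMod.freeMod (KRR.PY N (Spec (CommRingCat.of K))) (s * r) ≅ T.obj (qF q V) :=
    (Sigma.mapIso fun _ : Fin (s * r) => c.symm) ≪≫ (PreservesCoproduct.iso T fun _ : Fin (s * r) => L).symm ≪≫
      T.mapIso eV.symm
  let ψ := eTV.hom ≫ T.map (Φ.map f) ≫ eG.hom
  have hGv : FlatMod.IsFinLocFree G :=
    vb_of_iso eG (RegBundle.finLocFree_twF (j : ℤ) (H16Derived.KFlat.Stalk.isFinLocFree_pullback q hE))
  obtain ⟨hepi, ⟨κ⟩⟩ := regStep hGv hreg ψ (bij_congr c.symm eTV eG (bij_map T hL))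
  haveI : Epi (T.map (Φ.map f)) := by
    have h2 : T.map (Φ.map f) = eTV.inv ≫ ψ ≫ eG.inv := by simp [ψ]
    rw [h2]; infer_instance
  haveI : Epi (Φ.map f) := T.epi_of_epi_map inferInstance
  haveI : Epi f := epi_of_epi_map hsq f
  refine ⟨s, f, ‹_›, ?_⟩
  haveI : PreservesLimitsOfSize.{0, 0} T := T.asEquivalence.symm.toAdjunction.rightAdjoint_preservesLimits
  let κ' : T.obj (qF q (kernel f)) ≅ kernel (SyzPn.ε N (Spec (CommRingCat.of K)) G) :=
    T.mapIso (PreservesKernel.iso Φ f) ≪≫ PreservesKernel.iso T (Φ.map f) ≪≫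
      (kernelIsIsoComp eTV.hom (T.map (Φ.map f))).symm ≪≫
      (kernelCompMono (eTV.hom ≫ T.map (Φ.map f)) eG.hom).symm ≪≫
      kernelIsoOfEq (show (eTV.hom ≫ T.map (Φ.map f)) ≫ eG.hom = ψ from Category.assoc _ _ _) ≪≫ κ
  exact ⟨((compIso N (Spec (CommRingCat.of K)) 1 (j : ℤ) ((j + 1 : ℕ) : ℤ) (by push_cast; ring)).app (qF q (kernel f))).symm ≪≫
    (Tw N (Spec (CommRingCat.of K)) 1).mapIso κ'⟩

include hsq in
/-- The classes of indecomposable bundles of the types `O(-j)` generate. -/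
theorem closure_eq_top (H : AddSubgroup (KZero.K0sub vb))
    (hH : ∀ j : ℕ, ∃ (W : X.Modules) (r : ℕ), FlatMod.IsFinLocFree W ∧ Indec W ∧ 0 < r ∧
      Nonempty (qF q W ≅ ∐ fun _ : Fin r => Twist.twistOver N (Spec (CommRingCat.of K)) (-(j : ℤ))) ∧ KZero.clSub vb W ∈ H) :
    H = ⊤ := by
  haveI : IsLocallyNoetherian X := isLocallyNoetherian_of_proper (k := k)
  have main : ∀ (m : ℕ) (E : X.Modules) (G : (KRR.PY N (Spec (CommRingCat.of K))).Modules) (j : ℕ), FlatMod.IsFinLocFree E →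
      Nonempty ((Tw N (Spec (CommRingCat.of K)) (j : ℤ)).obj (qF q E) ≅ G) → KRR.IsRegSheaf N (Spec (CommRingCat.of K)) G → IsZero (SyzPn.Fk G m) →
      KZero.clSub vb E ∈ H := by
    intro m
    induction m with
    | zero =>
      rintro E G j hE ⟨eG⟩ - hz
      have hz1 : IsZero (qF q E) := by
        refine (IsZero.iff_id_eq_zero _).2 ((Tw N (Spec (CommRingCat.of K)) (j : ℤ)).map_injective ?_)
        rw [Functor.map_zero]
        exact ((hz.of_iso eG : IsZero ((Tw N (Spec (CommRingCat.of K)) (j : ℤ)).obj (qF q E)))).eq_of_src _ _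
      have hz2 : IsZero E := by_contra fun h =>
        not_isZero_map hsq (H16Derived.KFlat.Stalk.isCoh_of_isFinLocFree hE) h hz1
      rw [KTelescope.map_isZero (KReg.clSub_add vb) hz2 hE]
      exact H.zero_mem
    | succ m ih =>
      rintro E G j hE ⟨eG⟩ hreg hz
      obtain ⟨W, r, hW, hWi, hr, ⟨eW⟩, hWm⟩ := hH j
      obtain ⟨s, f, hf, hκ⟩ := step hsq hW hWi hr eW hE eG hreg
      obtain ⟨hV, hVm⟩ := mem_sum H hW hWm s (Fin s) (Fintype.card_fin s)
      have hS : (ShortComplex.mk (kernel.ι f) f (kernel.condition f)).ShortExact :=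
        { exact := ShortComplex.exact_kernel f }
      have hK : FlatMod.IsFinLocFree (kernel f) := H16Derived.KFlat.Stalk.isFinLocFree_left hS hV hE
      have hGv : Coh.IsQCoh G := H8Props.FinLocFree.isQCoh_of_isFinLocFree _
        (vb_of_iso eG (RegBundle.finLocFree_twF (j : ℤ) (H16Derived.KFlat.Stalk.isFinLocFree_pullback q hE)))
      have h1 := ih (kernel f) (SyzPn.next N (Spec (CommRingCat.of K)) G) (j + 1) hK hκ (CMKer.isRegSheaf_kernel hGv hreg)
        (by rw [iterate_next]; exact hz)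
      have h2 := KReg.clSub_add vb _ hS hK hV hE
      rw [show KZero.clSub vb E = KZero.clSub vb (⨁ fun _ : Fin s => W) - KZero.clSub vb (kernel f) from
        eq_sub_of_add_eq' h2.symm]
      exact H.sub_mem hVm h1
  have hvb : ∀ E : X.Modules, FlatMod.IsFinLocFree E → KZero.clSub vb E ∈ H := by
    intro E hE
    have hF := H16Derived.KFlat.Stalk.isFinLocFree_pullback q hE
    obtain ⟨m₀, h₀⟩ := RegBundle.exists_reg_twist (H16Derived.KFlat.Stalk.isCoh_of_isFinLocFree hF)
    exact main (N + 1) E _ m₀ hE ⟨Iso.refl _⟩ (h₀ m₀ le_rfl)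
      (SyzPn.isZero_Fk (H8Props.FinLocFree.isQCoh_of_isFinLocFree _
        (RegBundle.finLocFree_twF (m₀ : ℤ) hF)) (h₀ m₀ le_rfl) 0)
  refine (AddSubgroup.eq_top_iff' H).2 fun x => ?_
  induction x using QuotientAddGroup.induction_on with
  | H z =>
    induction z using FreeAbelianGroup.induction_on with
    | zero => exact H.zero_mem
    | of E =>
      have := hvb E.1 E.2
      rw [KZero.clSub, dif_pos E.2] at this
      exact this
    | neg E h => rw [QuotientAddGroup.mk_neg]; exact H.neg_mem h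
    | add a b ha hb => rw [QuotientAddGroup.mk_add]; exact H.add_mem ha hb

end Main

section Splitting

variable {k : Type u} [Field k] {X : Scheme.{u}} (f : X ⟶ Spec (CommRingCat.of k))
  {K : Type u} [Field K] [Algebra k K] {N : ℕ} (e : BrSev.Splitting f K N)

/-- The standard model of a split form. -/
theorem exists_model :
    ∃ φ : KRR.PY N (Spec (CommRingCat.of K)) ≅ BrSev.bc f K,
      φ.hom ≫ BrSev.bcTo f K = KRR.pr N (Spec (CommRingCat.of K)) ∧
      ∀ d : ℤ, Nonempty ((Scheme.Modules.pullback φ.hom).obj (e.twist d) ≅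
        Twist.twistOver N (Spec (CommRingCat.of K)) d) := by
  obtain ⟨a, ha, hpr, ⟨σ⟩⟩ := PB.exists_affine_iso N K
  refine ⟨(asIso a).symm ≪≫ e.iso.symm, ?_, ?_⟩
  · show (inv a ≫ e.iso.inv) ≫ _ = _
    rw [Category.assoc, ← e.comm, Iso.inv_hom_id_assoc, ← hpr, IsIso.inv_hom_id_assoc]
  · refine fun d => PB.nonempty_family_iso (((H10Coh.Stab.isTwistFamily_projSpace N K).pullback e.iso.hom).pullback _)
      (PB.isTwistFamily_twistOver N _) ⟨?_⟩ d
    have hc : ((asIso a).symm ≪≫ e.iso.symm).hom ≫ e.iso.hom = inv a := by simp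
    exact ((Scheme.Modules.pullbackComp _ e.iso.hom).app _) ≪≫
      ((Scheme.Modules.pullbackCongr hc).app _) ≪≫
      (Scheme.Modules.pullback (inv a)).mapIso σ.symm ≪≫ ((Scheme.Modules.pullbackComp (inv a) a).app _) ≪≫
      ((Scheme.Modules.pullbackCongr (IsIso.inv_hom_id a)).app _) ≪≫ (Scheme.Modules.pullbackId _).app _

/-- The classes of indecomposable bundles of the negative types generate the Grothendieck group of bundles. -/
theorem generated [IsProper f] [IsAlgClosure k K] :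
    AddSubgroup.closure {c : KZero.K0sub (fun M : X.Modules => FlatMod.IsFinLocFree M) |
        ∃ (W : X.Modules) (j : ℕ) (r : ℕ), FlatMod.IsFinLocFree W ∧ Indec W ∧
          0 < r ∧ BrSev.IsTwPow e (-(j : ℤ)) r W ∧
          c = KZero.clSub (fun M : X.Modules => FlatMod.IsFinLocFree M) W} = ⊤ := by
  haveI : IsAlgClosed K := IsAlgClosure.isAlgClosed k
  obtain ⟨φ, hφ, hT⟩ := exists_model f e
  letI : X.Over (Spec (CommRingCat.of k)) := ⟨f⟩
  letI : (KRR.PY N (Spec (CommRingCat.of K))).Over (Spec (CommRingCat.of K)) :=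
    ⟨KRR.pr N (Spec (CommRingCat.of K))⟩
  haveI : IsProper (X ↘ Spec (CommRingCat.of k)) := ‹IsProper f›
  haveI : IsProper ((KRR.PY N (Spec (CommRingCat.of K))) ↘ Spec (CommRingCat.of K)) := CMKer.isProper_pr N _
  haveI := LeadPic.PnRel.isIntegral_projSpace N K
  haveI : Nonempty (BrSev.bc f K) := ⟨e.iso.inv (LeadPic.Pn.η N K)⟩
  haveI : IsIntegral (BrSev.bc f K) := isIntegral_of_isOpenImmersion e.iso.hom
  haveI : Nonempty (KRR.PY N (Spec (CommRingCat.of K))) := ⟨φ.inv (Classical.arbitrary (BrSev.bc f K))⟩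
  haveI : IsIntegral (KRR.PY N (Spec (CommRingCat.of K))) := isIntegral_of_isOpenImmersion φ.hom
  haveI : Flat (φ.hom ≫ BrSev.proj f K) := inferInstance
  have hsq : IsPullback (φ.hom ≫ BrSev.proj f K)
      ((KRR.PY N (Spec (CommRingCat.of K))) ↘ Spec (CommRingCat.of K)) (X ↘ Spec (CommRingCat.of k))
      (Spec.map (CommRingCat.ofHom (algebraMap k K))) :=
    (IsPullback.of_hasPullback f (Spec.map (CommRingCat.ofHom (algebraMap k K)))).of_iso φ.symm (Iso.refl _)
      (Iso.refl _) (Iso.refl _)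
      (by simp)
      (by
        show BrSev.bcTo f K ≫ 𝟙 _ = φ.inv ≫ KRR.pr N (Spec (CommRingCat.of K))
        rw [← hφ, Iso.inv_hom_id_assoc, Category.comp_id])
      (by simp; rfl) (by simp)
  refine closure_eq_top hsq _ fun j => ?_
  obtain ⟨W, r, hW, hWi, hr, ⟨w⟩⟩ := Exists.exists_indec_twPow e (-(j : ℤ))
  obtain ⟨t⟩ := hT (-(j : ℤ))
  haveI : PreservesColimitsOfSize.{0, 0} (Scheme.Modules.pullback φ.hom) :=
    (Scheme.Modules.pullbackPushforwardAdjunction φ.hom).leftAdjoint_preservesColimits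
  exact ⟨W, r, hW, hWi, hr,
    ⟨((Scheme.Modules.pullbackComp φ.hom (BrSev.proj f K)).app W).symm ≪≫
      (Scheme.Modules.pullback φ.hom).mapIso w ≪≫ PreservesCoproduct.iso _ _ ≪≫ Sigma.mapIso fun _ => t⟩,
    AddSubgroup.subset_closure ⟨W, j, r, hW, hWi, hr, ⟨w⟩, rfl⟩⟩

end Splitting

end Groth.Agent.H23KS.K0Gen
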