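import Groth.Agent.H23KS.PushFull
import Groth.Agent.H29Ref.DualStalk
import Groth.Agent.H29Ref.Generic
import Groth.Agent.H29Omega.ConormalStalk
import Groth.Agent.H17.ConsModModels
import Groth.Agent.H06Mod.StalkPullback
import Groth.Agent.H29Ref.Free
import Groth.Prelude.Def_TorSh

/-!
# Modules which are direct images of locally free modules from a normalisation

For an affine morphism `f : Z ⟶ X` of integral schemes with `Z` locally Noetherian with principal
local rings, a torsion-free coherent module whose stalks are stable under the fractions in `f_* O_Z`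
is the direct image of its torsion-free pullback.
-/

set_option autoImplicit false
set_option maxHeartbeats 800000

universe u

open CategoryTheory CategoryTheory.Limits AlgebraicGeometry TopologicalSpace Opposite
open scoped TensorProduct

namespace Groth.Agent.H23KS.PushNormal

theorem surjective_eval {R : Type u} [CommRing R] [IsDomain R] [IsPrincipalIdealRing R]
    (M : Type u) [AddCommGroup M] [Module R M] [Module.Finite R M] :
    Function.Surjective (Module.Dual.eval R M) := by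
  intro Φ
  let T := Submodule.torsion R M
  haveI : Module.Free R (M ⧸ T) := Module.free_of_finite_type_torsion_free'
  obtain ⟨n, hn⟩ := (Module.bijective_dual_eval R (M ⧸ T)).2 (Φ.comp T.mkQ.dualMap)
  obtain ⟨m, rfl⟩ := T.mkQ_surjective n
  refine ⟨m, LinearMap.ext fun θ => ?_⟩
  have hT : T ≤ LinearMap.ker θ := fun t ht => by
    obtain ⟨c, hc⟩ := (Submodule.mem_torsion_iff t).1 ht
    have h1 : (c : R) • θ t = 0 := by rw [← map_smul]; exact (congrArg θ hc).trans (map_zero θ)
    exact (mul_eq_zero.1 h1).resolve_left (nonZeroDivisors.ne_zero c.2)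
  have h2 := LinearMap.congr_fun hn (T.liftQ θ hT)
  have h3 : T.mkQ.dualMap (T.liftQ θ hT) = θ := LinearMap.ext fun _ => rfl
  simpa [h3] using h2

variable {Z X : Scheme.{u}} [IsIntegral Z] [IsLocallyNoetherian Z] (f : Z ⟶ X) (F : X.Modules)

/-- The reflexive pullback. -/
noncomputable def pullMod : Z.Modules := RefHull.ddual ((Scheme.Modules.pullback f).obj F)

/-- The transpose of the biduality map. -/
noncomputable def pushMap : F ⟶ (Scheme.Modules.pushforward f).obj (pullMod f F) :=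
  (Scheme.Modules.pullbackPushforwardAdjunction f).homEquiv _ _
    (RefHull.bidualMap ((Scheme.Modules.pullback f).obj F))

omit [IsIntegral Z] [IsLocallyNoetherian Z] in
theorem pushMap_app (U : X.Opens) (m : Γ(F, U)) :
    (pushMap f F).app U m = (RefHull.bidualMap ((Scheme.Modules.pullback f).obj F)).app (f ⁻¹ᵁ U)
      (OmegaSh.pullSect f F U m) := by
  rw [pushMap, Adjunction.homEquiv_unit]
  rfl

variable {F} (hF : Coh.IsCoh F) (hpid : ∀ z : Z, IsPrincipalIdealRing (Z.presheaf.stalk z))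

include hF in
theorem isCoh_pullMod : Coh.IsCoh (pullMod f F) :=
  H29Ref.isCoh_ddual _ (H17.ConsProp.isCoh_pullback f hF)

include hF hpid in
theorem free_stalk_pullMod (z : Z) :
    Module.Free (Z.presheaf.stalk z) ((pullMod f F).presheaf.stalk z) := by
  let G := (Scheme.Modules.pullback f).obj F
  have hG : Coh.IsCoh G := H17.ConsProp.isCoh_pullback f hF
  haveI := hpid z
  haveI := H29Ref.finite_stalk _ (isCoh_pullMod f hF).2 z
  let D := Module.Dual (Z.presheaf.stalk z)
    (Module.Dual (Z.presheaf.stalk z) (G.presheaf.stalk z))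
  let e := H29Ref.ddualEquiv G (H10Coh.isFP_of_isCoh G hG) (H29Ref.isFP_dual G hG) z
  haveI : Module.IsTorsionFree (Z.presheaf.stalk z) D := inferInstance
  haveI : Module.Finite (Z.presheaf.stalk z) ((RefHull.ddual G).presheaf.stalk z) :=
    H29Ref.finite_stalk _ (isCoh_pullMod f hF).2 z
  haveI : Module.Finite (Z.presheaf.stalk z) D := Module.Finite.equiv e
  haveI : Module.Free (Z.presheaf.stalk z) D := Module.free_of_finite_type_torsion_free'
  exact Module.Free.of_equiv e.symm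

include hF hpid in
theorem isFinLocFree_pullMod : FlatMod.IsFinLocFree (pullMod f F) :=
  H29Ref.isFinLocFree_of_free_stalk _ (isCoh_pullMod f hF) (free_stalk_pullMod f hF hpid)

include hF hpid in
theorem surjective_bidual (z : Z) :
    Function.Surjective (RefHull.stalkMapₗ (RefHull.bidualMap ((Scheme.Modules.pullback f).obj F)) z) := by
  intro y
  let G := (Scheme.Modules.pullback f).obj F
  have hG : Coh.IsCoh G := H17.ConsProp.isCoh_pullback f hF
  haveI := hpid z
  haveI := H29Ref.finite_stalk G hG.2 z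
  let e := H29Ref.ddualEquiv G (H10Coh.isFP_of_isCoh G hG) (H29Ref.isFP_dual G hG) z
  obtain ⟨v, hv⟩ := surjective_eval (G.presheaf.stalk z) (e y)
  exact ⟨v, e.injective ((H29Ref.ddualEquiv_bidual G _ _ z v).trans hv)⟩

theorem isTFSec_of_free {E : Z.Modules}
    (hE : ∀ z, Module.Free (Z.presheaf.stalk z) (E.presheaf.stalk z)) : PushFull.IsTFSec E := by
  intro V c t hc h
  refine H29Ref.sec_ext E fun z hz => ?_
  haveI := hE z
  have h1 := congrArg (E.presheaf.germ V z hz) h
  rw [Mero.germ_smul, map_zero] at h1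
  rw [map_zero]
  haveI : Nonempty V := ⟨⟨z, hz⟩⟩
  exact (smul_eq_zero.1 h1).resolve_left fun h0 =>
    hc (germ_injective_of_isIntegral Z z hz (h0.trans (map_zero _).symm))

variable [IsIntegral X] [IsAffineHom f] (hgen : f (genericPoint Z) = genericPoint X)

include hgen in
omit [IsAffineHom f] [IsLocallyNoetherian Z] in
theorem nonempty_preimage {U : X.Opens} {x : X} (hx : x ∈ U) :
    genericPoint Z ∈ f ⁻¹ᵁ U := by
  show f (genericPoint Z) ∈ U
  rw [hgen]
  exact ((genericPoint_spec X).mem_open_set_iff U.isOpen).2 ⟨x, trivial, hx⟩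

include hF hpid hgen in
/-- Multiplication by a section not killed by `f` is injective on the stalks of the direct image. -/
theorem eq_zero_of_smul {U : X.Opens} {x : X} (hx : x ∈ U) (s : Γ(X, U)) (hs : f.app U s ≠ 0)
    (y : ((Scheme.Modules.pushforward f).obj (pullMod f F)).presheaf.stalk x)
    (h : X.presheaf.germ U x hx s • y = 0) : y = 0 := by
  let P := (Scheme.Modules.pushforward f).obj (pullMod f F)
  obtain ⟨U₁, hx₁, t, rfl⟩ := TopCat.Presheaf.exists_germ_eq P.presheaf y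
  rw [← X.presheaf.germ_res_apply (homOfLE (inf_le_left : U ⊓ U₁ ≤ U)) x ⟨hx, hx₁⟩ s,
    ← P.presheaf.germ_res_apply (homOfLE (inf_le_right : U ⊓ U₁ ≤ U₁)) x ⟨hx, hx₁⟩ t,
    ← Mero.germ_smul] at h
  obtain ⟨U₂, hx₂, i, j, h2⟩ :=
    TopCat.Presheaf.germ_eq P.presheaf x _ (show x ∈ U ⊓ U₁ from ⟨hx, hx₁⟩) _ 0 (h.trans (map_zero _).symm)
  rw [map_zero] at h2
  change P.presheaf.map (homOfLE i.le).op _ = 0 at h2
  rw [Scheme.Modules.map_smul] at h2
  have hle : U₂ ≤ U₁ := i.le.trans inf_le_right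
  suffices h0 : P.presheaf.map (homOfLE hle).op t = 0 by
    rw [← P.presheaf.germ_res_apply (homOfLE hle) x hx₂ t, h0, map_zero]
  have e : P.presheaf.map (homOfLE i.le).op (P.presheaf.map (homOfLE (inf_le_right : U ⊓ U₁ ≤ U₁)).op t)
      = P.presheaf.map (homOfLE hle).op t := H10Coh.mres_mres P _ _ t
  rw [e] at h2
  refine isTFSec_of_free (free_stalk_pullMod f hF hpid) (f ⁻¹ᵁ U₂) _ _ ?_ h2
  intro hc
  apply hs
  have hm : genericPoint Z ∈ f ⁻¹ᵁ U₂ := nonempty_preimage f hgen hx₂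
  have hU : genericPoint Z ∈ f ⁻¹ᵁ U := nonempty_preimage f hgen hx
  haveI : Nonempty (f ⁻¹ᵁ U : Z.Opens) := ⟨⟨_, hU⟩⟩
  refine germ_injective_of_isIntegral Z (genericPoint Z) hU ?_
  have h3 := congrArg (Z.presheaf.germ (f ⁻¹ᵁ U₂) (genericPoint Z) hm) hc
  change Z.presheaf.germ (f ⁻¹ᵁ U₂) (genericPoint Z) hm (f.app U₂
    (X.presheaf.map (homOfLE i.le).op (X.presheaf.map (homOfLE inf_le_left).op s))) = _ at h3
  rw [← Scheme.Hom.germ_stalkMap_apply f U₂ (genericPoint Z) hm] at h3
  change (f.stalkMap (genericPoint Z)).hom (X.presheaf.germ U₂ (f (genericPoint Z)) hm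
    (X.presheaf.map (homOfLE i.le).op (X.presheaf.map (homOfLE inf_le_left).op s))) = _ at h3
  rw [X.presheaf.germ_res_apply, X.presheaf.germ_res_apply] at h3
  rw [map_zero, ← Scheme.Hom.germ_stalkMap_apply f U (genericPoint Z) hU s]
  exact h3.trans (map_zero _)

include hF hpid hgen in
theorem surjective_pushMap
    (hstab : ∀ (U : X.Opens), IsAffineOpen U → ∀ (b : Γ(Z, f ⁻¹ᵁ U)) (x : X) (hx : x ∈ U)
      (v : F.presheaf.stalk x), ∃ (s a : Γ(X, U)) (w : F.presheaf.stalk x), f.app U s ≠ 0 ∧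
        f.app U a = f.app U s * b ∧ X.presheaf.germ U x hx s • w = X.presheaf.germ U x hx a • v)
    (x : X) : Function.Surjective (RefHull.stalkMapₗ (pushMap f F) x) := by
  let G := (Scheme.Modules.pullback f).obj F
  let E := pullMod f F
  let P := (Scheme.Modules.pushforward f).obj E
  let q : G ⟶ E := RefHull.bidualMap G
  haveI : Epi q := H29Omega.epi_of_surjective_stalkLin q (surjective_bidual f hF hpid)
  haveI : G.IsQuasicoherent := (H17.ConsProp.isCoh_pullback f hF).1
  haveI : E.IsQuasicoherent := (isCoh_pullMod f hF).1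
  intro y
  obtain ⟨U₀, hx₀, t, rfl⟩ := TopCat.Presheaf.exists_germ_eq P.presheaf y
  obtain ⟨_, ⟨U, hU : IsAffineOpen U, rfl⟩, hxU, hle⟩ :=
    X.isBasis_affineOpens.exists_subset_of_mem_open hx₀ U₀.isOpen
  rw [← P.presheaf.germ_res_apply (homOfLE (show U ≤ U₀ from hle)) x hxU t]
  generalize P.presheaf.map (homOfLE (show U ≤ U₀ from hle)).op t = t'
  obtain ⟨t₀, rfl⟩ := H10Coh.surjective_app_of_epi q (hU.preimage f) t'
  letI := (f.app U).hom.toAlgebra
  letI := Module.compHom Γ(G, f ⁻¹ᵁ U) (f.app U).hom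
  haveI : IsScalarTower Γ(X, U) Γ(Z, f ⁻¹ᵁ U) Γ(G, f ⁻¹ᵁ U) := .of_algebraMap_smul fun _ _ => rfl
  let p : Γ(F, U) →ₗ[Γ(X, U)] Γ(G, f ⁻¹ᵁ U) :=
    { toFun := ((Scheme.Modules.pullbackPushforwardAdjunction f).unit.app F).app U
      map_add' := map_add _
      map_smul' := fun r m => ((Scheme.Modules.pullbackPushforwardAdjunction f).unit.app F).app_smul r m }
  have hbc : IsBaseChange Γ(Z, f ⁻¹ᵁ U) p :=
    H11Tilde.TransposeCover.isBaseChange_unit f hF.1 hU (hU.preimage f) p fun _ => rfl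
  let g : Γ(G, f ⁻¹ᵁ U) → P.presheaf.stalk x := fun n =>
    P.presheaf.germ U x hxU (q.app (f ⁻¹ᵁ U) n : Γ(E, f ⁻¹ᵁ U))
  show ∃ v, _ = g t₀
  induction t₀ using hbc.inductionOn with
  | zero => exact ⟨0, by simp only [g, map_zero]; exact (map_zero _).symm⟩
  | tmul m =>
    refine ⟨F.presheaf.germ U x hxU m, ?_⟩
    rw [RefHull.stalkMapₗ_germ, pushMap_app]
    rfl
  | smul b n hn =>
    obtain ⟨v, hv⟩ := hn
    obtain ⟨s, a, w, hs, ha, hw⟩ := hstab U hU b x hxU v
    refine ⟨w, eq_of_sub_eq_zero (eq_zero_of_smul f hF hpid hgen hxU s hs _ ?_)⟩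
    rw [smul_sub, sub_eq_zero, ← map_smul, hw, map_smul, hv]
    show _ • P.presheaf.germ U x hxU (q.app (f ⁻¹ᵁ U) n : Γ(E, f ⁻¹ᵁ U)) =
      _ • P.presheaf.germ U x hxU (q.app (f ⁻¹ᵁ U) (b • n) : Γ(E, f ⁻¹ᵁ U))
    rw [← Mero.germ_smul, ← Mero.germ_smul]
    refine congrArg _ ?_
    show f.app U a • q.app (f ⁻¹ᵁ U) n = f.app U s • q.app (f ⁻¹ᵁ U) (b • n)
    rw [ha, Scheme.Modules.Hom.app_smul, smul_smul]
  | add n₁ n₂ h₁ h₂ =>
    obtain ⟨v₁, hv₁⟩ := h₁
    obtain ⟨v₂, hv₂⟩ := h₂
    refine ⟨v₁ + v₂, ?_⟩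
    rw [map_add, hv₁, hv₂]
    simp only [g, map_add]
    exact (map_add _ _ _).symm

include hgen hF hpid in
theorem injective_pushMap (htf : TorSh.IsTorsionFree F) (x : X) :
    Function.Injective (RefHull.stalkMapₗ (pushMap f F) x) := by
  let G := (Scheme.Modules.pullback f).obj F
  let P := (Scheme.Modules.pushforward f).obj (pullMod f F)
  let η := genericPoint Z
  rw [injective_iff_map_eq_zero]
  intro v hv
  obtain ⟨_, ⟨U, hU : IsAffineOpen U, rfl⟩, hxU, -⟩ :=
    X.isBasis_affineOpens.exists_subset_of_mem_open (Set.mem_univ x) isOpen_univ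
  obtain ⟨m, u, hm⟩ := H29Blow.exists_germ_eq_smul F hF.1 hU ⟨x, hxU⟩ v
  have hηU : f η ∈ U := nonempty_preimage f hgen hxU
  have hmv : RefHull.stalkMapₗ (pushMap f F) x (F.presheaf.germ U x hxU m) = 0 := by
    rw [hm, map_smul, hv, smul_zero]
  rw [RefHull.stalkMapₗ_germ, pushMap_app] at hmv
  obtain ⟨U₂, hx₂, i, j, h2⟩ :=
    TopCat.Presheaf.germ_eq P.presheaf x hxU hxU _ 0 (hmv.trans (map_zero _).symm)
  rw [map_zero] at h2
  have hη₂ : η ∈ f ⁻¹ᵁ U₂ := nonempty_preimage f hgen hx₂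
  have h3 := (congrArg ((pullMod f F).presheaf.germ (f ⁻¹ᵁ U₂) η hη₂) h2).trans
    (map_zero ((pullMod f F).presheaf.germ (f ⁻¹ᵁ U₂) η hη₂).hom)
  change (pullMod f F).presheaf.germ (f ⁻¹ᵁ U₂) η hη₂ ((pullMod f F).presheaf.map
    ((Opens.map f.base).map i).op ((RefHull.bidualMap G).app (f ⁻¹ᵁ U) (OmegaSh.pullSect f F U m))) = 0 at h3
  rw [TopCat.Presheaf.germ_res_apply] at h3
  change (RefHull.ddual G).presheaf.germ (f ⁻¹ᵁ U) η hηU
    ((RefHull.bidualMap G).app (f ⁻¹ᵁ U) (OmegaSh.pullSect f F U m)) = 0 at h3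
  rw [← RefHull.stalkMapₗ_germ, ← H06Mod.pullStalk_germ f F η U hηU] at h3
  letI := H06Mod.stalkAlgebra f η
  have hfield : IsField (X.presheaf.stalk (f η)) := by
    rw [show f η = genericPoint X from hgen]; exact H29Ref.isField_generic
  letI := hfield.toField
  have hbid : Function.Injective (RefHull.stalkMapₗ (RefHull.bidualMap G) η) := by
    have hG : Coh.IsCoh G := H17.ConsProp.isCoh_pullback f hF
    haveI := H29Ref.finite_stalk G hG.2 η
    letI := (H29Ref.isField_generic (X := Z)).toField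
    intro a b hab
    refine (Module.bijective_dual_eval (Z.presheaf.stalk η) (G.presheaf.stalk η)).1 ?_
    rw [← H29Ref.ddualEquiv_bidual G (H10Coh.isFP_of_isCoh G hG) (H29Ref.isFP_dual G hG) η a,
      ← H29Ref.ddualEquiv_bidual G (H10Coh.isFP_of_isCoh G hG) (H29Ref.isFP_dual G hG) η b, hab]
  have h4 : H06Mod.pullStalk f F η (F.presheaf.germ U (f η) hηU m) = 0 :=
    hbid (h3.trans (map_zero _).symm)
  have h5 : F.presheaf.germ U (f η) hηU m = 0 := by
    apply Module.FaithfullyFlat.tensorProduct_mk_injective (A := X.presheaf.stalk (f η))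
      (B := Z.presheaf.stalk η) (F.presheaf.stalk (f η))
    refine (H06Mod.pullStalkLin_bijective f F η).1 ?_
    show H06Mod.pullStalkLin f F η (1 ⊗ₜ _) = H06Mod.pullStalkLin f F η (1 ⊗ₜ 0)
    rw [H06Mod.pullStalkLin_tmul, H06Mod.pullStalkLin_tmul, one_smul, h4, map_zero, one_smul]
  letI := TopCat.Presheaf.algebra_section_stalk X.presheaf (⟨f η, hηU⟩ : U)
  letI := Module.compHom (F.presheaf.stalk (f η)) (algebraMap Γ(X, U) (X.presheaf.stalk (f η)))
  haveI := H29Fitt.isLocalizedModule_germLin F hF.1 hU ⟨f η, hηU⟩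
  obtain ⟨⟨c, hc⟩, hcm⟩ := (IsLocalizedModule.eq_zero_iff
    (hU.primeIdealOf ⟨f η, hηU⟩).asIdeal.primeCompl
    (H29Fitt.germLin F (⟨f η, hηU⟩ : U)) (m := m)).1 h5
  have hc0 : c ≠ 0 := fun h => hc (h ▸ zero_mem _)
  have h6 : X.presheaf.germ U x hxU c • (u : X.presheaf.stalk x) • v = 0 := by
    rw [← hm, ← Mero.germ_smul, show c • m = 0 from hcm, map_zero]
  haveI : Nonempty U := ⟨⟨x, hxU⟩⟩
  haveI := htf x
  have h7 := (smul_eq_zero.1 h6).resolve_left fun h =>
    hc0 (germ_injective_of_isIntegral X x hxU (h.trans (map_zero _).symm))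
  exact (smul_eq_zero.1 h7).resolve_left u.ne_zero

include hF hgen hpid in
/-- **Existence.** -/
theorem nonempty_iso (htf : TorSh.IsTorsionFree F)
    (hstab : ∀ (U : X.Opens), IsAffineOpen U → ∀ (b : Γ(Z, f ⁻¹ᵁ U)) (x : X) (hx : x ∈ U)
      (v : F.presheaf.stalk x), ∃ (s a : Γ(X, U)) (w : F.presheaf.stalk x), f.app U s ≠ 0 ∧
        f.app U a = f.app U s * b ∧ X.presheaf.germ U x hx s • w = X.presheaf.germ U x hx a • v) :
    Nonempty ((Scheme.Modules.pushforward f).obj (pullMod f F) ≅ F) := by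
  haveI : IsIso (pushMap f F) := (H29Ref.isIso_iff_bijective_stalk _).2 fun x =>
    ⟨injective_pushMap f hF hpid hgen htf x, surjective_pushMap f hF hpid hgen hstab x⟩
  exact ⟨(asIso (pushMap f F)).symm⟩

include hF hpid in
omit [IsAffineHom f] in
theorem finrank_generic {n : ℕ}
    (hn : Module.finrank (X.presheaf.stalk (f (genericPoint Z)))
      (F.presheaf.stalk (f (genericPoint Z))) = n)
    (hfield : IsField (X.presheaf.stalk (f (genericPoint Z)))) :
    Module.finrank (Z.presheaf.stalk (genericPoint Z))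
      ((pullMod f F).presheaf.stalk (genericPoint Z)) = n := by
  let η := genericPoint Z
  let G := (Scheme.Modules.pullback f).obj F
  have hG : Coh.IsCoh G := H17.ConsProp.isCoh_pullback f hF
  haveI := H29Ref.finite_stalk G hG.2 η
  haveI : Module.Free (Z.presheaf.stalk η) (G.presheaf.stalk η) :=
    letI := (H29Ref.isField_generic (X := Z)).toField
    inferInstance
  letI := H06Mod.stalkAlgebra f η
  haveI : Module.Free (X.presheaf.stalk (f η)) (F.presheaf.stalk (f η)) :=
    letI := hfield.toField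
    inferInstance
  let e := H29Ref.ddualEquiv G (H10Coh.isFP_of_isCoh G hG) (H29Ref.isFP_dual G hG) η
  let b := Module.Free.chooseBasis (Z.presheaf.stalk η) (G.presheaf.stalk η)
  rw [(show (pullMod f F).presheaf.stalk η ≃ₗ[Z.presheaf.stalk η] _ from e).finrank_eq,
    ← b.dualBasis.toDualEquiv.finrank_eq, ← b.toDualEquiv.finrank_eq,
    ← (H06Mod.pullStalkEquiv f F η).finrank_eq, Module.finrank_baseChange]
  exact hn

end Groth.Agent.H23KS.PushNormal
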