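import Groth.Agent.H23KS.PushStab
import Groth.Agent.H23KS.PushNormal
import Groth.Agent.H22Alg.NormalizationDimOne
import Groth.Agent.H26BMCoh.NormIso
import Groth.Agent.S15026
import Groth.Agent.S4717
import Groth.Agent.H8Props.FinLocFree.Global

/-!
# Facts on the normalisation of an integral proper curve
-/

set_option autoImplicit false
set_option linter.style.haveILetI false

universe u

open CategoryTheory CategoryTheory.Limits AlgebraicGeometry TopologicalSpace

namespace Groth.Agent.H23KS.NormFacts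

variable (X : Scheme.{u}) [IsIntegral X] [QuasiCompact (X.fromSpecStalk (genericPoint X))]
  [QuasiSeparated (X.fromSpecStalk (genericPoint X))]

theorem generic_eq [IsFinite (Curv2.normalizationι X)] [IsIntegral (Curv2.normalization X)] :
    (Curv2.normalizationι X) (genericPoint ↥(Curv2.normalization X)) = genericPoint X := by
  let ν := Curv2.normalizationι X
  obtain ⟨W, ⟨x, hxW⟩, hiso⟩ := H26BMCoh.exists_isIso_normalization X
  haveI := hiso
  have hηW : genericPoint X ∈ W :=
    ((genericPoint_spec X).mem_open_set_iff W.isOpen).2 ⟨x, trivial, hxW⟩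
  obtain ⟨z, hz⟩ := (ν ∣_ W).homeomorph.surjective ⟨_, hηW⟩
  have h1 : ν z.1 = genericPoint X := by
    rw [← morphismRestrict_base_coe ν W z]; exact congrArg Subtype.val hz
  have h2 : ν (genericPoint ↥(Curv2.normalization X)) ⤳ genericPoint X :=
    h1 ▸ (genericPoint_specializes z.1).map ν.continuous
  exact (h2.antisymm (genericPoint_specializes _)).eq

theorem hasDen : PushFull.HasDen (Curv2.normalizationι X) := by
  intro U hU b hne
  obtain ⟨z, hz⟩ := hne
  haveI : Nonempty U := ⟨⟨Curv2.normalizationι X z, hz⟩⟩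
  haveI := functionField_isFractionRing_of_isAffineOpen X U hU
  obtain ⟨φ, hφ⟩ := H22Alg.NormalizationDimOne.exists_obj_iso X hU
  obtain ⟨a, s, hs, h⟩ := IsFractionRing.div_surjective Γ(X, U) (φ.symm b : X.functionField)
  have hs0 := IsFractionRing.to_map_ne_zero_of_mem_nonZeroDivisors (K := X.functionField) hs
  have h' : algebraMap Γ(X, U) X.functionField a =
      algebraMap Γ(X, U) X.functionField s * (φ.symm b : X.functionField) := by
    rw [← h, mul_div_cancel₀ _ hs0]
  refine ⟨s, a, fun h0 => ?_, ?_⟩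
  · rw [← hφ, map_eq_zero_iff _ φ.injective] at h0
    exact hs0 ((congrArg Subtype.val h0 :))
  · rw [← hφ, ← hφ, ← φ.apply_symm_apply b, ← map_mul]
    exact congrArg φ (Subtype.ext h')

variable {X}

/-- A locally free module of positive rank has non-zero generic stalk. -/
theorem generic_mem_support {Z : Scheme.{u}} [IsIntegral Z] {E : Z.Modules} {n : ℕ}
    (hE : FlatMod.IsFinLocFreeOfRank n E) (hn : 1 ≤ n) : genericPoint Z ∈ CohB1.support E := by
  obtain ⟨U, hU, he⟩ := hE (genericPoint Z)
  have hE' : FlatMod.IsFinLocFree E := fun z => let ⟨V, hV, h⟩ := hE z; ⟨V, n, hV, h⟩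
  obtain ⟨b⟩ := H8Props.FunDescent.stalkFree_of_isFreeOfRankNear E
    (H8Props.FinLocFree.isQCoh_of_isFinLocFree E hE') (p := n) ⟨U, hU, he⟩
  intro hs
  haveI : Nontrivial (E.presheaf.stalk (genericPoint Z)) :=
    ⟨⟨b ⟨0, hn⟩, 0, b.ne_zero _⟩⟩
  exact not_subsingleton (E.presheaf.stalk (genericPoint Z)) hs

theorem isZero_of_rank_zero {Z : Scheme.{u}} {E : Z.Modules}
    (hE : FlatMod.IsFinLocFreeOfRank 0 E) : IsZero E := by
  have hE' : FlatMod.IsFinLocFree E := fun z => let ⟨V, hV, h⟩ := hE z; ⟨V, 0, hV, h⟩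
  refine H16Derived.KFlat.Stalk.isZero_of_stalk fun z => ?_
  obtain ⟨U, hU, he⟩ := hE z
  obtain ⟨b⟩ := H8Props.FunDescent.stalkFree_of_isFreeOfRankNear E
    (H8Props.FinLocFree.isQCoh_of_isFinLocFree E hE') (p := 0) ⟨U, hU, he⟩
  haveI : Subsingleton (E.presheaf.stalk z) := b.repr.toEquiv.subsingleton
  exact (H25Euler.notMem_support_iff E z).1 fun h => h ‹_›

variable {k : Type u} [Field k] [X.Over (Spec (CommRingCat.of k))]
  [IsProper (X ↘ Spec (CommRingCat.of k))]

theorem stab_data (hdim : topologicalKrullDim X = 1)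
    {L : X.Modules} (hL : CohB1.IsAmple L) {n : ℕ} {E : (Curv2.normalization X).Modules}
    (hE : FlatMod.IsFinLocFreeOfRank n E) :
    letI : (Curv2.normalization X).Over (Spec (CommRingCat.of k)) :=
      ⟨Curv2.normalizationι X ≫ X ↘ Spec (CommRingCat.of k)⟩
    (ShStab.IsSemistable k (Curv2.normalization X)
        ((Scheme.Modules.pullback (Curv2.normalizationι X)).obj L) E 1 ↔
      ShStab.IsSemistable k X L ((Coh.push (Curv2.normalizationι X)).obj E) 1) ∧
    (ShStab.IsStable k (Curv2.normalization X)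
        ((Scheme.Modules.pullback (Curv2.normalizationι X)).obj L) E 1 ↔
      ShStab.IsStable k X L ((Coh.push (Curv2.normalizationι X)).obj E) 1) := by
  letI : (Curv2.normalization X).Over (Spec (CommRingCat.of k)) :=
    ⟨Curv2.normalizationι X ≫ X ↘ Spec (CommRingCat.of k)⟩
  let ν := Curv2.normalizationι X
  haveI : AlgebraicGeometry.IsNoetherian X := H28Int.isNoetherian k
  haveI : AlgebraicGeometry.IsIntegral (Curv2.normalization X) := by
    delta Curv2.normalization; infer_instance
  haveI : IsFinite ν := H11Curve.isFinite_normalizationι (X ↘ Spec (CommRingCat.of k))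
  haveI : IsProper ((Curv2.normalization X) ↘ Spec (CommRingCat.of k)) :=
    inferInstanceAs (IsProper (ν ≫ X ↘ Spec (CommRingCat.of k)))
  rcases Nat.eq_zero_or_pos n with rfl | hn
  · have h0 := isZero_of_rank_zero hE
    have h1 : IsZero ((Coh.push ν).obj E) := (Scheme.Modules.pushforward ν).map_isZero h0
    exact ⟨⟨fun h => absurd h0 h.2.1, fun h => absurd h1 h.2.1⟩,
      ⟨fun h => absurd h0 h.2.1, fun h => absurd h1 h.2.1⟩⟩
  haveI := H22Alg.NormalizationDimOne.isLocallyNoetherian_normalization X hdim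
  have hdZ : topologicalKrullDim ↥(Curv2.normalization X) = 1 :=
    ((S4717.result ν).2 (H11Curve.surjective_normalizationι _).surj).trans hdim
  have hE' : FlatMod.IsFinLocFree E := fun z => let ⟨V, hV, h⟩ := hE z; ⟨V, n, hV, h⟩
  haveI := H22Alg.NormalizationDimOne.isLocallyNoetherian_normalization X hdim
  have hEc : Coh.IsCoh E := ⟨H8Props.FinLocFree.isQCoh_of_isFinLocFree E hE',
    H29Fitt.isFT_of_isFP E (H8Props.FinLocFree.isFP_of_isFinLocFree E hE')⟩
  have hEt : PushFull.IsTFSec E :=
    PushNormal.isTFSec_of_free (H8Props.FinLocFree.free_stalk E hE')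
  exact ⟨PushStab.isSemistable_iff_push ν (generic_eq X) rfl (hasDen X) hdim hdZ hL hEc hEt
      (generic_mem_support hE hn),
    PushStab.isStable_iff_push ν (generic_eq X) rfl (hasDen X) hdim hdZ hL hEc hEt
      (generic_mem_support hE hn)⟩

end Groth.Agent.H23KS.NormFacts
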