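import Groth.Agent.H11Tilde.TransposeCover
import Groth.Agent.H11Ample.Counit
import Groth.Agent.H11Aff.CounitQAff
import Groth.Agent.H7Lim.ModExact
import Groth.Agent.H10Coh.BaseChange
import Groth.Agent.H29Ref.HomSections

/-!
# Direct image along a birational affine morphism is full on torsion-free modules

If every section of `O_Z` over the preimage of an affine open is a fraction of sections of `O_X`,
a map of direct images into a torsion-free module is the direct image of a map.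
-/

set_option autoImplicit false
set_option maxHeartbeats 400000

universe u

open CategoryTheory CategoryTheory.Limits AlgebraicGeometry TopologicalSpace Opposite
open scoped TensorProduct

namespace Groth.Agent.H23KS.PushFull

variable {Z X : Scheme.{u}} (f : Z ⟶ X)

/-- Sections over preimages of affine opens are fractions of sections downstairs. -/
def HasDen : Prop :=
  ∀ U : X.Opens, IsAffineOpen U → ∀ b : Γ(Z, f ⁻¹ᵁ U), ((f ⁻¹ᵁ U : Z.Opens) : Set Z).Nonempty →
    ∃ s a : Γ(X, U), f.app U s ≠ 0 ∧ f.app U a = f.app U s * b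

/-- Torsion-free on sections. -/
def IsTFSec (E : Z.Modules) : Prop :=
  ∀ (V : Z.Opens) (c : Γ(Z, V)) (t : Γ(E, V)), c ≠ 0 → c • t = 0 → t = 0

/-- On a qcoh module over an affine, a map killing sections over an affine cover is zero. -/
theorem eq_zero_of_app {K E : Z.Modules} (hK : Coh.IsQCoh K) (φ : K ⟶ E)
    (h : ∀ z : Z, ∃ V : Z.Opens, IsAffineOpen V ∧ z ∈ V ∧ ∀ t, φ.app V t = 0) : φ = 0 := by
  refine Scheme.Modules.hom_ext _ _ fun W => ?_
  ext t
  refine H29Ref.sec_ext E fun y hy => ?_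
  obtain ⟨V, hV, hyV, h0⟩ := h y
  obtain ⟨s, u, hs⟩ := H29Blow.exists_germ_eq_smul K hK hV ⟨y, hyV⟩ (K.presheaf.germ W y hy t)
  show E.presheaf.germ W y hy (φ.app W t) = E.presheaf.germ W y hy (0 : Γ(E, W))
  rw [map_zero]
  have hinv : K.presheaf.germ W y hy t = (↑u⁻¹ : Z.presheaf.stalk y) • K.presheaf.germ V y hyV s := by
    rw [hs, smul_smul, Units.inv_mul, one_smul]
  rw [← RefHull.stalkMapₗ_germ φ, hinv, map_smul, RefHull.stalkMapₗ_germ, h0, map_zero, smul_zero]

/-- Every section of a pullback is, up to a denominator, a pulled back section. -/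
theorem exists_smul_eq_pullSect [IsIntegral Z] [IsAffineHom f] (hden : HasDen f) {L : X.Modules}
    (hL : Coh.IsQCoh L) {U : X.Opens} (hU : IsAffineOpen U)
    (hne : ((f ⁻¹ᵁ U : Z.Opens) : Set Z).Nonempty)
    (t : Γ((Scheme.Modules.pullback f).obj L, f ⁻¹ᵁ U)) :
    ∃ (s : Γ(X, U)) (m : Γ(L, U)), f.app U s ≠ 0 ∧ f.app U s • t = OmegaSh.pullSect f L U m := by
  haveI : Nonempty (f ⁻¹ᵁ U : Z.Opens) := hne.to_subtype
  let P := (Scheme.Modules.pullback f).obj L
  letI := (f.app U).hom.toAlgebra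
  letI := Module.compHom Γ(P, f ⁻¹ᵁ U) (f.app U).hom
  haveI : IsScalarTower Γ(X, U) Γ(Z, f ⁻¹ᵁ U) Γ(P, f ⁻¹ᵁ U) := .of_algebraMap_smul fun _ _ => rfl
  let p : Γ(L, U) →ₗ[Γ(X, U)] Γ(P, f ⁻¹ᵁ U) :=
    { toFun := ((Scheme.Modules.pullbackPushforwardAdjunction f).unit.app L).app U
      map_add' := map_add _
      map_smul' := fun r m => ((Scheme.Modules.pullbackPushforwardAdjunction f).unit.app L).app_smul r m }
  have hbc : IsBaseChange Γ(Z, f ⁻¹ᵁ U) p :=
    H11Tilde.TransposeCover.isBaseChange_unit f hL hU (hU.preimage f) p fun _ => rfl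
  induction t using hbc.inductionOn with
  | zero => exact ⟨1, 0, by rw [map_one]; exact one_ne_zero, by rw [smul_zero, map_zero]⟩
  | tmul m => exact ⟨1, m, by rw [map_one]; exact one_ne_zero, by rw [map_one, one_smul]; rfl⟩
  | smul b n hn =>
    obtain ⟨s, m, hs, hm⟩ := hn
    obtain ⟨s', a, hs', ha⟩ := hden U hU b hne
    refine ⟨s' * s, a • m, by rw [map_mul]; exact mul_ne_zero hs' hs, ?_⟩
    rw [show OmegaSh.pullSect f L U (a • m) = f.app U a • OmegaSh.pullSect f L U m from p.map_smul a m,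
      ← hm, ha, map_mul, smul_smul, smul_smul]
    congr 1
    ring
  | add n₁ n₂ h₁ h₂ =>
    obtain ⟨s₁, m₁, hs₁, hm₁⟩ := h₁
    obtain ⟨s₂, m₂, hs₂, hm₂⟩ := h₂
    refine ⟨s₁ * s₂, s₂ • m₁ + s₁ • m₂, by rw [map_mul]; exact mul_ne_zero hs₁ hs₂, ?_⟩
    rw [map_add, show OmegaSh.pullSect f L U (s₂ • m₁) = f.app U s₂ • OmegaSh.pullSect f L U m₁ from
        p.map_smul s₂ m₁, show OmegaSh.pullSect f L U (s₁ • m₂) = f.app U s₁ • OmegaSh.pullSect f L U m₂
        from p.map_smul s₁ m₂, ← hm₁, ← hm₂, map_mul, smul_add, smul_smul, smul_smul]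
    congr 2
    ring

variable [IsIntegral Z] [IsAffineHom f]

theorem epi_counit (E : Z.Modules) [E.IsQuasicoherent] :
    Epi ((Scheme.Modules.pullbackPushforwardAdjunction f).counit.app E) :=
  H11Aff.epi_counit_of_isQuasiAffine f (fun V hV => by
    haveI : IsAffine (f ⁻¹ᵁ V).toScheme := hV.preimage f
    infer_instance) E

/-- **Fullness.** -/
theorem exists_preimage (hden : HasDen f) {E E' : Z.Modules} (hE : Coh.IsQCoh E) (hE' : IsTFSec E')
    (φ : (Scheme.Modules.pushforward f).obj E ⟶ (Scheme.Modules.pushforward f).obj E') :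
    ∃ ψ : E ⟶ E', (Scheme.Modules.pushforward f).map ψ = φ := by
  haveI : E.IsQuasicoherent := hE
  haveI := epi_counit f E
  let adj := Scheme.Modules.pullbackPushforwardAdjunction f
  let L := (Scheme.Modules.pushforward f).obj E
  have hL : Coh.IsQCoh L := H10Coh.isQuasicoherent_pushforward_of_isAffineHom f E
  let ψ₀ := (adj.homEquiv L E').symm φ
  have hker : kernel.ι (adj.counit.app E) ≫ ψ₀ = 0 := by
    refine eq_zero_of_app (H7Lim.ModExact.isQCoh_kernel _ (H29Fitt.isQCoh_pullback f L hL) hE) _ fun z => ?_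
    obtain ⟨_, ⟨U, hU : IsAffineOpen U, rfl⟩, hzU, -⟩ :=
      X.isBasis_affineOpens.exists_subset_of_mem_open (Set.mem_univ (f z)) isOpen_univ
    refine ⟨f ⁻¹ᵁ U, hU.preimage f, hzU, fun t => ?_⟩
    obtain ⟨s, m, hs, hm⟩ := exists_smul_eq_pullSect f hden hL hU ⟨z, hzU⟩
      ((kernel.ι (adj.counit.app E)).app (f ⁻¹ᵁ U) t)
    have h0 : (adj.counit.app E).app (f ⁻¹ᵁ U) ((kernel.ι (adj.counit.app E)).app (f ⁻¹ᵁ U) t) = 0 :=
      congr($(congrArg (fun k => Scheme.Modules.Hom.app k (f ⁻¹ᵁ U))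
        (kernel.condition (adj.counit.app E))) t)
    have hm0 : m = 0 := by
      have h1 := congrArg ((adj.counit.app E).app (f ⁻¹ᵁ U)) hm
      rw [Scheme.Modules.Hom.app_smul, h0, smul_zero] at h1
      exact ((H11Ample.counit_app_pullSect f E U m).symm.trans h1.symm)
    refine hE' _ (f.app U s) _ hs ?_
    show f.app U s • ψ₀.app (f ⁻¹ᵁ U) ((kernel.ι (adj.counit.app E)).app (f ⁻¹ᵁ U) t) = 0
    rw [← Scheme.Modules.Hom.app_smul, hm, hm0, map_zero, map_zero]
  let ψ : E ⟶ E' := Abelian.epiDesc (adj.counit.app E) ψ₀ hker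
  refine ⟨ψ, ?_⟩
  have h2 : adj.counit.app E ≫ ψ = ψ₀ := Abelian.comp_epiDesc _ _ _
  have h3 : (adj.homEquiv L E') (adj.counit.app E ≫ ψ) = φ := by
    rw [h2]; exact Equiv.apply_symm_apply _ _
  rw [Adjunction.homEquiv_naturality_right] at h3
  have h4 : adj.homEquiv L ((𝟭 Z.Modules).obj E) (adj.counit.app E) = 𝟙 L := by
    rw [Adjunction.homEquiv_unit]; exact adj.right_triangle_components E
  rw [h4] at h3
  exact (Category.id_comp _).symm.trans h3

theorem map_injective {E E' : Z.Modules} (hE : Coh.IsQCoh E) {ψ ψ' : E ⟶ E'}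
    (h : (Scheme.Modules.pushforward f).map ψ = (Scheme.Modules.pushforward f).map ψ') : ψ = ψ' := by
  haveI : E.IsQuasicoherent := hE
  haveI := epi_counit f E
  let adj := Scheme.Modules.pullbackPushforwardAdjunction f
  rw [← cancel_epi (adj.counit.app E)]
  have h1 := adj.counit.naturality ψ
  have h2 := adj.counit.naturality ψ'
  simp only [Functor.comp_map, Functor.id_map] at h1 h2
  rw [← h1, ← h2, h]

/-- Modules with isomorphic direct images are isomorphic. -/
theorem nonempty_iso (hden : HasDen f) {E E' : Z.Modules} (hE : Coh.IsQCoh E) (hEt : IsTFSec E)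
    (hE' : Coh.IsQCoh E') (hEt' : IsTFSec E')
    (e : (Scheme.Modules.pushforward f).obj E ≅ (Scheme.Modules.pushforward f).obj E') :
    Nonempty (E ≅ E') := by
  obtain ⟨ψ, hψ⟩ := exists_preimage f hden hE hEt' e.hom
  obtain ⟨ψ', hψ'⟩ := exists_preimage f hden hE' hEt e.inv
  exact ⟨⟨ψ, ψ', map_injective f hE (by rw [Functor.map_comp, hψ, hψ', e.hom_inv_id,
      CategoryTheory.Functor.map_id]),
    map_injective f hE' (by rw [Functor.map_comp, hψ, hψ', e.inv_hom_id,
      CategoryTheory.Functor.map_id])⟩⟩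

end Groth.Agent.H23KS.PushFull
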