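import Groth.Agent.H23KS.PushFull
import Groth.Agent.H10Coh.Stab.Criteria
import Groth.Agent.H28Int.Push
import Groth.Agent.H10Coh.AffinePush
import Groth.Agent.H11Ample.AmpleOn
import Groth.Agent.H29Curve.Topology
import Groth.Agent.H17.ConsModModels
import Groth.Agent.LeadUV.GG

/-!
# (Semi)stability and direct image under a finite birational morphism of curves

Coherent submodules of `f_* E` differ from direct images of submodules of `E` by finite length
modules, so `E` is (semi)stable iff `f_* E` is.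
-/

set_option autoImplicit false
set_option maxHeartbeats 800000
set_option linter.style.haveILetI false

universe u

open CategoryTheory CategoryTheory.Limits AlgebraicGeometry TopologicalSpace Opposite Polynomial

namespace Groth.Agent.H23KS.PushStab

section general

variable {X : Scheme.{u}}

/-- The dimension of a finite set of closed points is at most zero. -/
theorem dim_lt_one_of_finite {S : Set X} (hS : S.Finite) (hcl : ∀ x ∈ S, IsClosed ({x} : Set X)) :
    topologicalKrullDim S < ((1 : ℕ) : WithBot ℕ∞) := by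
  haveI : Finite S := hS.to_subtype
  haveI : T1Space S := ⟨fun a => by
    have h : IsClosed (Subtype.val ⁻¹' ({a.1} : Set X) : Set S) :=
      (hcl a.1 a.2).preimage continuous_subtype_val
    rwa [show (Subtype.val ⁻¹' ({a.1} : Set X) : Set S) = {a} from
      Set.ext fun b => ⟨fun hb => Subtype.ext hb, fun hb => congrArg Subtype.val hb⟩] at h⟩
  haveI : DiscreteTopology S := inferInstance
  exact lt_of_le_of_lt (topologicalKrullDim_zero_of_discreteTopology S) (by norm_num)

variable [IsIntegral X]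

/-- A coherent module with non-zero generic stalk is supported everywhere. -/
theorem dim_support_of_generic [IsLocallyNoetherian X] {M : X.Modules} (hM : Coh.IsCoh M)
    (hη : genericPoint X ∈ CohB1.support M) :
    topologicalKrullDim (CohB1.support M) = topologicalKrullDim X := by
  have h : CohB1.support M = Set.univ := Set.eq_univ_of_univ_subset
    ((genericPoint_spec X).mem_closed_set_iff (H10Coh.isClosed_support M hM.2) |>.mp hη)
  rw [h]
  exact (Homeomorph.Set.univ X).isHomeomorph.topologicalKrullDim_eq _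

theorem dim_lt_one_of_generic [AlgebraicGeometry.IsNoetherian X] (hdX : topologicalKrullDim X ≤ 1)
    {C : X.Modules} (hC : Coh.IsCoh C) (hη : Subsingleton (C.presheaf.stalk (genericPoint X))) :
    topologicalKrullDim (CohB1.support C) < ((1 : ℕ) : WithBot ℕ∞) := by
  have hη' : genericPoint X ∉ CohB1.support C := fun h => h hη
  refine dim_lt_one_of_finite
    (H29Curve.finite_of_isClosed_of_genericPoint_notMem hdX (H10Coh.isClosed_support C hC.2) hη')
    fun x hx => ?_
  exact (H29Curve.isClosed_singleton_or_eq_genericPoint hdX x).resolve_right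
    fun h => hη' (h ▸ hx)

theorem isTFSec_of_mono {F E : X.Modules} (ι : F ⟶ E) [Mono ι] (hE : PushFull.IsTFSec E) :
    PushFull.IsTFSec F := fun V c t hc h => by
  refine H10Coh.injective_app_of_mono' ι V ?_
  rw [map_zero]
  exact hE V c _ hc (by rw [← Scheme.Modules.Hom.app_smul, h, map_zero])

end general

variable {k : Type u} [Field k] {Z X : Scheme.{u}}
  [X.Over (Spec (CommRingCat.of k))] [Z.Over (Spec (CommRingCat.of k))]
  [IsProper (X ↘ Spec (CommRingCat.of k))] [IsProper (Z ↘ Spec (CommRingCat.of k))]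
  [IsIntegral X] [IsIntegral Z] (f : Z ⟶ X) [IsFinite f]

/-- The Hilbert polynomial of a direct image. -/
theorem hilb_push (hf : f ≫ (X ↘ Spec (CommRingCat.of k)) = Z ↘ Spec (CommRingCat.of k))
    {L : X.Modules} (hL : PicF.IsInvertible L) {F : Z.Modules} (hF : Coh.IsQCoh F) (P : ℚ[X]) :
    ShStab.IsHilbPoly k X L ((Scheme.Modules.pushforward f).obj F) P ↔
      ShStab.IsHilbPoly k Z ((Scheme.Modules.pullback f).obj L) F P := by
  have hL' := H11Ample.isInvertible_pullback f hL
  have h : ∀ m : ℕ, Curv2.euler k X (ShStab.twist X L ((Scheme.Modules.pushforward f).obj F) m) =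
      Curv2.euler k Z (ShStab.twist Z ((Scheme.Modules.pullback f).obj L) F m) := fun m => by
    obtain ⟨e⟩ := LeadUV.AdicSys.nonempty_push_twist f F hL (Iso.refl ((Scheme.Modules.pullback f).obj L)) m
    haveI : (CohB1.tensorMod F
        (CohB1.tensorPow ((Scheme.Modules.pullback f).obj L) m)).IsQuasicoherent :=
      H11Ample.isQCoh_tensor hF (H11Ample.isInvertible_tensorPow hL' m)
    exact (H25Euler.euler_congr e).trans (H28Int.Push.euler_push k f hf _)
  exact forall_congr' fun m => by rw [h m]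

theorem isZero_of_isZero_push {E : Z.Modules} (hE : Coh.IsQCoh E)
    (h : IsZero ((Scheme.Modules.pushforward f).obj E)) : IsZero E := by
  haveI : E.IsQuasicoherent := hE
  haveI := PushFull.epi_counit f E
  exact IsZero.of_epi ((Scheme.Modules.pullbackPushforwardAdjunction f).counit.app E)
    ((Scheme.Modules.pullback f).map_isZero h)

theorem isIso_of_isIso_map (hden : PushFull.HasDen f) {F E : Z.Modules} (hF : Coh.IsQCoh F)
    (hFt : PushFull.IsTFSec F) (hE : Coh.IsQCoh E) (ψ : F ⟶ E)
    [IsIso ((Scheme.Modules.pushforward f).map ψ)] : IsIso ψ := by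
  obtain ⟨χ, hχ⟩ := PushFull.exists_preimage f hden hE hFt (inv ((Scheme.Modules.pushforward f).map ψ))
  exact ⟨χ, PushFull.map_injective f hF (by
      rw [Functor.map_comp, hχ, IsIso.hom_inv_id, CategoryTheory.Functor.map_id]),
    PushFull.map_injective f hE (by
      rw [Functor.map_comp, hχ, IsIso.inv_hom_id, CategoryTheory.Functor.map_id])⟩

variable (hgen : f (genericPoint Z) = genericPoint X)

include hgen in
theorem mem_preimage {U : X.Opens} (hU : genericPoint X ∈ U) : genericPoint Z ∈ f ⁻¹ᵁ U := by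
  show f (genericPoint Z) ∈ U
  rwa [hgen]

include hgen in
/-- At the generic point a map `G → f_* F` with epimorphic transpose is surjective. -/
theorem surjective_generic (hden : PushFull.HasDen f) {G : X.Modules} {F : Z.Modules}
    (hG : Coh.IsQCoh G) (hF : Coh.IsQCoh F) (θ : (Scheme.Modules.pullback f).obj G ⟶ F) [Epi θ] :
    Function.Surjective (RefHull.stalkMapₗ
      ((Scheme.Modules.pullbackPushforwardAdjunction f).homEquiv G F θ) (genericPoint X)) := by
  let P := (Scheme.Modules.pushforward f).obj F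
  let j : G ⟶ P := (Scheme.Modules.pullbackPushforwardAdjunction f).homEquiv G F θ
  haveI : F.IsQuasicoherent := hF
  haveI : ((Scheme.Modules.pullback f).obj G).IsQuasicoherent := H29Fitt.isQCoh_pullback f G hG
  intro y
  obtain ⟨_, ⟨U, hU : IsAffineOpen U, rfl⟩, hηU, -⟩ :=
    X.isBasis_affineOpens.exists_subset_of_mem_open (Set.mem_univ (genericPoint X)) isOpen_univ
  have hP : Coh.IsQCoh P := H10Coh.isQuasicoherent_pushforward_of_isAffineHom f F
  obtain ⟨t, u, ht⟩ := H29Blow.exists_germ_eq_smul P hP hU ⟨_, hηU⟩ y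
  obtain ⟨t₀, ht₀⟩ := H10Coh.surjective_app_of_epi θ (hU.preimage f) t
  obtain ⟨s, m, hs, hm⟩ := PushFull.exists_smul_eq_pullSect f hden hG hU
    ⟨genericPoint Z, mem_preimage f hgen hηU⟩ t₀
  have hj : j.app U m = (s • t : Γ(P, U)) := by
    show _ = f.app U s • (show Γ(F, f ⁻¹ᵁ U) from t)
    rw [show t = θ.app (f ⁻¹ᵁ U) t₀ from ht₀.symm, ← Scheme.Modules.Hom.app_smul, hm]
    simp only [j, Adjunction.homEquiv_unit]
    rfl
  have hsu : IsUnit (X.presheaf.germ U (genericPoint X) hηU s) := by
    letI := (H29Ref.isField_generic (X := X)).toField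
    refine IsUnit.mk0 _ fun h0 => hs ?_
    haveI : Nonempty U := ⟨⟨_, hηU⟩⟩
    rw [show s = 0 from germ_injective_of_isIntegral X _ hηU (h0.trans (map_zero _).symm), map_zero]
  refine ⟨(↑(hsu.unit⁻¹ * u⁻¹) : X.presheaf.stalk (genericPoint X)) •
    G.presheaf.germ U (genericPoint X) hηU m, ?_⟩
  rw [map_smul, RefHull.stalkMapₗ_germ, show ((Scheme.Modules.pullbackPushforwardAdjunction f).homEquiv
    G F θ).app U m = (s • t : Γ(P, U)) from hj, Mero.germ_smul, ht, smul_smul, smul_smul]
  convert one_smul (X.presheaf.stalk (genericPoint X)) y using 2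
  calc (↑(hsu.unit⁻¹ * u⁻¹) : X.presheaf.stalk (genericPoint X)) *
        X.presheaf.germ U (genericPoint X) hηU s * (u : X.presheaf.stalk (genericPoint X))
      = (↑(hsu.unit⁻¹ * u⁻¹) : X.presheaf.stalk (genericPoint X)) * ↑(hsu.unit * u) := by
        rw [Units.val_mul hsu.unit u, IsUnit.unit_spec, mul_assoc]
    _ = 1 := by rw [← Units.val_mul]; simp [mul_comm, mul_left_comm]

variable (hf : f ≫ (X ↘ Spec (CommRingCat.of k)) = Z ↘ Spec (CommRingCat.of k))
  (hden : PushFull.HasDen f) (hdX : topologicalKrullDim X = 1) (hdZ : topologicalKrullDim Z = 1)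
  {L : X.Modules} (hL : CohB1.IsAmple L) {E : Z.Modules} (hE : Coh.IsCoh E)
  (hEt : PushFull.IsTFSec E) (hEη : genericPoint Z ∈ CohB1.support E)

include hgen hEt hE hEη in
theorem generic_mem_support_push :
    genericPoint X ∈ CohB1.support ((Scheme.Modules.pushforward f).obj E) := by
  let P := (Scheme.Modules.pushforward f).obj E
  by_contra hc
  haveI : Subsingleton (P.presheaf.stalk (genericPoint X)) := not_not.1 hc
  refine hEη (subsingleton_of_forall_eq 0 fun y => ?_)
  obtain ⟨_, ⟨U, hU : IsAffineOpen U, rfl⟩, hηU, -⟩ :=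
    X.isBasis_affineOpens.exists_subset_of_mem_open (Set.mem_univ (genericPoint X)) isOpen_univ
  obtain ⟨t, u, ht⟩ := H29Blow.exists_germ_eq_smul E hE.1 (hU.preimage f)
    ⟨genericPoint Z, mem_preimage f hgen hηU⟩ y
  obtain ⟨U₂, hη₂, i, i', h⟩ := TopCat.Presheaf.germ_eq P.presheaf (genericPoint X) hηU hηU
    (t : Γ(P, U)) 0 (Subsingleton.elim _ _)
  rw [map_zero] at h
  have h1 := (congrArg (E.presheaf.germ (f ⁻¹ᵁ U₂) (genericPoint Z) (mem_preimage f hgen hη₂)) h).trans
    (map_zero (E.presheaf.germ (f ⁻¹ᵁ U₂) (genericPoint Z) (mem_preimage f hgen hη₂)).hom)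
  change E.presheaf.germ (f ⁻¹ᵁ U₂) _ _ (E.presheaf.map ((Opens.map f.base).map i).op t) = 0 at h1
  rw [TopCat.Presheaf.germ_res_apply] at h1
  have h2 : (u : Z.presheaf.stalk (genericPoint Z)) • y = 0 := ht.symm.trans h1
  rwa [← Units.smul_def, smul_eq_zero_iff_eq] at h2

include hgen hdX hE hEt hEη in
omit [X.Over (Spec (CommRingCat.of k))] [Z.Over (Spec (CommRingCat.of k))] [IsProper (X ↘ Spec (CommRingCat.of k))] [IsProper (Z ↘ Spec (CommRingCat.of k))] in
theorem dim_support_push [IsLocallyNoetherian X] [IsLocallyNoetherian Z] :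
    Coh.IsCoh ((Scheme.Modules.pushforward f).obj E) ∧
      topologicalKrullDim (CohB1.support ((Scheme.Modules.pushforward f).obj E)) =
        ((1 : ℕ) : WithBot ℕ∞) := by
  have hc : Coh.IsCoh ((Scheme.Modules.pushforward f).obj E) :=
    H10Coh.isCoh_push_of_isFinite (f := f) (M := E) hE
  exact ⟨hc, by
    rw [dim_support_of_generic hc (generic_mem_support_push f hgen hE hEt hEη), hdX]; rfl⟩

include hgen hf hden hdX hdZ hL hE hEt in
/-- The image of the transpose of a submodule of `f_* E`. -/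
theorem exists_saturation {G : X.Modules} (q : G ⟶ (Scheme.Modules.pushforward f).obj E) [Mono q]
    (hG : Coh.IsCoh G) (hG0 : ¬ IsZero G) (hqi : ¬ IsIso q) {pG : ℚ[X]}
    (hpG : ShStab.IsHilbPoly k X L G pG) :
    ∃ (F : Z.Modules) (ι : F ⟶ E), Mono ι ∧ Coh.IsCoh F ∧ ¬ IsZero F ∧
      ∃ pF : ℚ[X], ShStab.IsHilbPoly k Z ((Scheme.Modules.pullback f).obj L) F pF ∧
        StabCat.alpha 1 pG = StabCat.alpha 1 pF ∧ H10Coh.Stab.Nonneg (pF - pG) ∧
        (IsIso ι → H10Coh.Stab.Pos (pF - pG)) := by
  haveI := H10Coh.Stab.isLocallyNoetherian_of_proper (Z := X) k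
  haveI := H10Coh.Stab.isLocallyNoetherian_of_proper (Z := Z) k
  haveI : CompactSpace X := QuasiCompact.compactSpace_of_compactSpace (X ↘ Spec (CommRingCat.of k))
  haveI : AlgebraicGeometry.IsNoetherian X := {}
  let adj := Scheme.Modules.pullbackPushforwardAdjunction f
  let θ := (adj.homEquiv G E).symm q
  let F := Abelian.image θ
  have hGpull : Coh.IsCoh ((Scheme.Modules.pullback f).obj G) := H17.ConsProp.isCoh_pullback f hG
  have hFc : Coh.IsCoh F :=
    H10Coh.isCoh_kernel (cokernel.π θ) hE (H10Coh.isCoh_cokernel θ hGpull.1 hE).1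
  let j := adj.homEquiv G F (Abelian.factorThruImage θ)
  have hjq : j ≫ (Scheme.Modules.pushforward f).map (Abelian.image.ι θ) = q := by
    rw [← Adjunction.homEquiv_naturality_right, Abelian.image.fac]
    exact Equiv.apply_symm_apply _ _
  haveI : Mono (j ≫ (Scheme.Modules.pushforward f).map (Abelian.image.ι θ)) := hjq ▸ inferInstance
  haveI : Mono j := mono_of_mono j ((Scheme.Modules.pushforward f).map (Abelian.image.ι θ))
  have hF0 : ¬ IsZero F := fun h =>
    hG0 (IsZero.of_mono j ((Scheme.Modules.pushforward f).map_isZero h))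
  have hL' : CohB1.IsAmple ((Scheme.Modules.pullback f).obj L) :=
    H11Ample.isAmple_pullback_of_isAffineHom f hL
  obtain ⟨pF, hpF⟩ := H25Euler.exists_hilbPoly (k := k) hL' hFc (d := 2)
    (lt_of_le_of_lt ((Topology.IsInducing.topologicalKrullDim_le
      (f := (Subtype.val : CohB1.support F → Z)) Topology.IsInducing.subtypeVal).trans hdZ.le)
      (by norm_num))
  have hPF : Coh.IsCoh ((Scheme.Modules.pushforward f).obj F) := H10Coh.isCoh_push_of_isFinite (f := f) (M := F) hFc
  have hpPF := (hilb_push f hf hL.1 hFc.1 pF).2 hpF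
  have hC := (H25Euler.polyLE_of_mono hL hG hPF j hpG hpPF).2
  have hCc : Coh.IsCoh (cokernel j) := H10Coh.isCoh_cokernel j hG.1 hPF
  have hCd := dim_lt_one_of_generic hdX.le hCc (H10Coh.subsingleton_stalk_cokernel j _
    (surjective_generic f hgen hden hG.1 hFc.1 (Abelian.factorThruImage θ)))
  refine ⟨F, Abelian.image.ι θ, inferInstance, hFc, hF0, pF, hpF, ?_,
    H25Euler.eval_nonneg hL hCc hC, fun hi => H10Coh.Stab.hilbPoly_pos hL hCc (fun h0 => hqi ?_) hC⟩
  · have h0 := H25Euler.coeff_hilbPoly_eq_zero hL hCc hC hCd le_rfl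
    rw [coeff_sub] at h0
    rw [StabCat.alpha, StabCat.alpha, sub_eq_zero.1 h0]
  · haveI : Epi j := Preadditive.epi_of_isZero_cokernel _ h0
    haveI : IsIso j := isIso_of_mono_of_epi j
    haveI := hi
    rw [← hjq]
    infer_instance

include hgen hf hden hdX hdZ hL hE hEt hEη in
theorem isSemistable_iff_push :
    ShStab.IsSemistable k Z ((Scheme.Modules.pullback f).obj L) E 1 ↔
      ShStab.IsSemistable k X L ((Scheme.Modules.pushforward f).obj E) 1 := by
  haveI := H10Coh.Stab.isLocallyNoetherian_of_proper (Z := X) k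
  haveI := H10Coh.Stab.isLocallyNoetherian_of_proper (Z := Z) k
  haveI : (Scheme.Modules.pushforward f).IsRightAdjoint :=
    (Scheme.Modules.pullbackPushforwardAdjunction f).isRightAdjoint
  have hL' : CohB1.IsAmple ((Scheme.Modules.pullback f).obj L) :=
    H11Ample.isAmple_pullback_of_isAffineHom f hL
  obtain ⟨hPc, hPd⟩ := dim_support_push f hgen hdX hE hEt hEη
  have hEd : topologicalKrullDim (CohB1.support E) = ((1 : ℕ) : WithBot ℕ∞) := by
    rw [dim_support_of_generic hE hEη, hdZ]; rfl
  have hE0 : ¬ IsZero E := fun h => by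
    rw [H10Coh.Stab.support_eq_empty_of_isZero h] at hEη; exact hEη
  have hP0 : ¬ IsZero ((Scheme.Modules.pushforward f).obj E) := fun h =>
    hE0 (isZero_of_isZero_push f hE.1 h)
  rw [H10Coh.Stab.isSemistable_iff hL' hE hE0 hEd, H10Coh.Stab.isSemistable_iff hL hPc hP0 hPd]
  constructor
  · intro h G q hq hG hG0 hqi pG pE hpG hpE
    haveI := hq
    obtain ⟨F, ι, hι, hFc, hF0, pF, hpF, hα, hnn, -⟩ :=
      exists_saturation f hgen hf hden hdX hdZ hL hE hEt q hG hG0 hqi hpG
    haveI := hι
    have hpE' := (hilb_push f hf hL.1 hE.1 pE).1 hpE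
    have hαE : 0 < StabCat.alpha 1 pE := H10Coh.Stab.alpha_pos hL' hE hEd hpE'
    rw [H10Coh.Stab.redLE_iff]
    have e : H10Coh.Stab.cross 1 pG pE =
        H10Coh.Stab.cross 1 pF pE + StabCat.alpha 1 pE • (pF - pG) := by
      simp only [H10Coh.Stab.cross, hα, smul_sub]; abel
    rw [e]
    refine H10Coh.Stab.Nonneg.add ?_ (hnn.smul hαE.le)
    by_cases hi : IsIso ι
    · have h1 := H25Euler.hilbPoly_unique hpE' (H25Euler.hilbPoly_congr (@asIso _ _ _ _ ι hi) hpF)
      rw [h1, H10Coh.Stab.cross_self]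
      exact ⟨0, fun m _ => by simp⟩
    · exact H10Coh.Stab.redLE_iff.1 (h F ι hι hFc hF0 hi pF pE hpF hpE')
  · intro h F ι hι hFc hF0 hi pF pE hpF hpE
    haveI := hι
    refine h _ ((Scheme.Modules.pushforward f).map ι) inferInstance
      (H10Coh.isCoh_push_of_isFinite (f := f) (M := F) hFc) (fun h0 => hF0 (isZero_of_isZero_push f hFc.1 h0))
      (fun hi' => hi ?_) pF pE ((hilb_push f hf hL.1 hFc.1 pF).2 hpF)
      ((hilb_push f hf hL.1 hE.1 pE).2 hpE)
    haveI := hi'
    exact isIso_of_isIso_map f hden hFc.1 (isTFSec_of_mono ι hEt) hE.1 ι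

include hgen hf hden hdX hdZ hL hE hEt hEη in
theorem isStable_iff_push :
    ShStab.IsStable k Z ((Scheme.Modules.pullback f).obj L) E 1 ↔
      ShStab.IsStable k X L ((Scheme.Modules.pushforward f).obj E) 1 := by
  haveI := H10Coh.Stab.isLocallyNoetherian_of_proper (Z := X) k
  haveI := H10Coh.Stab.isLocallyNoetherian_of_proper (Z := Z) k
  haveI : (Scheme.Modules.pushforward f).IsRightAdjoint :=
    (Scheme.Modules.pullbackPushforwardAdjunction f).isRightAdjoint
  have hL' : CohB1.IsAmple ((Scheme.Modules.pullback f).obj L) :=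
    H11Ample.isAmple_pullback_of_isAffineHom f hL
  obtain ⟨hPc, hPd⟩ := dim_support_push f hgen hdX hE hEt hEη
  have hEd : topologicalKrullDim (CohB1.support E) = ((1 : ℕ) : WithBot ℕ∞) := by
    rw [dim_support_of_generic hE hEη, hdZ]; rfl
  have hE0 : ¬ IsZero E := fun h => by
    rw [H10Coh.Stab.support_eq_empty_of_isZero h] at hEη; exact hEη
  have hP0 : ¬ IsZero ((Scheme.Modules.pushforward f).obj E) := fun h =>
    hE0 (isZero_of_isZero_push f hE.1 h)
  rw [H10Coh.Stab.isStable_iff hL' hE hE0 hEd, H10Coh.Stab.isStable_iff hL hPc hP0 hPd]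
  constructor
  · intro h G q hq hG hG0 hqi pG pE hpG hpE
    haveI := hq
    obtain ⟨F, ι, hι, hFc, hF0, pF, hpF, hα, hnn, hpos⟩ :=
      exists_saturation f hgen hf hden hdX hdZ hL hE hEt q hG hG0 hqi hpG
    haveI := hι
    have hpE' := (hilb_push f hf hL.1 hE.1 pE).1 hpE
    have hαE : 0 < StabCat.alpha 1 pE := H10Coh.Stab.alpha_pos hL' hE hEd hpE'
    rw [H10Coh.Stab.redLT_iff]
    have e : H10Coh.Stab.cross 1 pG pE =
        H10Coh.Stab.cross 1 pF pE + StabCat.alpha 1 pE • (pF - pG) := by
      simp only [H10Coh.Stab.cross, hα, smul_sub]; abel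
    rw [e]
    by_cases hi : IsIso ι
    · have h1 := H25Euler.hilbPoly_unique hpE' (H25Euler.hilbPoly_congr (@asIso _ _ _ _ ι hi) hpF)
      rw [h1, H10Coh.Stab.cross_self, zero_add]
      exact (hpos hi).smul (h1 ▸ hαE)
    · exact (H10Coh.Stab.redLT_iff.1 (h F ι hι hFc hF0 hi pF pE hpF hpE')).add (hnn.smul hαE.le)
  · intro h F ι hι hFc hF0 hi pF pE hpF hpE
    haveI := hι
    refine h _ ((Scheme.Modules.pushforward f).map ι) inferInstance
      (H10Coh.isCoh_push_of_isFinite (f := f) (M := F) hFc) (fun h0 => hF0 (isZero_of_isZero_push f hFc.1 h0))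
      (fun hi' => hi ?_) pF pE ((hilb_push f hf hL.1 hFc.1 pF).2 hpF)
      ((hilb_push f hf hL.1 hE.1 pE).2 hpE)
    haveI := hi'
    exact isIso_of_isIso_map f hden hFc.1 (isTFSec_of_mono ι hEt) hE.1 ι

end Groth.Agent.H23KS.PushStab
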