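import Groth.Agent.H23KS.Exists
import Mathlib

/-!
# Absolutely split modules decompose into indecomposables of twisting type
-/

set_option autoImplicit false
set_option linter.style.haveILetI false
set_option linter.unusedSectionVars false

universe u

open CategoryTheory CategoryTheory.Limits AlgebraicGeometry

noncomputable section

namespace Groth.Agent.H23KS

open Groth.Agent Groth.Agent.LeadBC

attribute [local instance] Abelian.hasFiniteBiproducts

section

variable {k : Type u} [Field k] {K : Type u} [Field K] [Algebra k K] {X : Scheme.{u}}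
  [X.Over (Spec (CommRingCat.of k))] [IsProper (X ↘ Spec (CommRingCat.of k))]
  {X' : Scheme.{u}} [X'.Over (Spec (CommRingCat.of K))] [IsProper (X' ↘ Spec (CommRingCat.of K))] {q : X' ⟶ X}
  (hsq : IsPullback q (X' ↘ Spec (CommRingCat.of K)) (X ↘ Spec (CommRingCat.of k))
    (Spec.map (CommRingCat.ofHom (algebraMap k K))))

include hsq in
/-- The base change of a retract splits into indecomposables occurring in the base change of the whole. -/
theorem types_of_retract {E P : X.Modules} (hE : Coh.IsCoh E) (i : P ⟶ E) (p : E ⟶ P) (h : i ≫ p = 𝟙 P)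
    {N : ℕ} (Ws : Fin N → X'.Modules) (hW : ∀ l, Indec (Ws l)) (e : qF q E ≅ ∐ Ws) :
    ∃ (t : ℕ) (l : Fin t → Fin N), Nonempty (qF q P ≅ ∐ fun a => Ws (l a)) := by
  have hF : Coh.IsCoh (qF q P) :=
    ⟨H29Fitt.isQCoh_pullback _ P (isCoh_of_retract hE i p h).1,
      H29Fitt.isFT_pullback _ P (isCoh_of_retract hE i p h).1 (isCoh_of_retract hE i p h).2⟩
  letI := endAlgebra K (qF q P)
  haveI := finite_end K (qF q P) hF
  obtain ⟨n, Gs, hGs, ⟨g⟩⟩ := existence K (qF q P)
  have hiso : ∀ j, ∃ l, Nonempty (Gs j ≅ Ws l) := fun j => by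
    have hj : PiReg (Gs j) := (piReg_of_finite K (qF q P)).of_retract (biproduct.ι Gs j ≫ g.inv)
      (g.hom ≫ biproduct.π Gs j) (by simp)
    let φ := e ≪≫ (biproduct.isoCoproduct _).symm
    obtain ⟨l, a', b', hab⟩ := exists_retract_summand (hGs j) hj Ws
      (biproduct.ι Gs j ≫ g.inv ≫ (Scheme.Modules.pullback q).map i ≫ φ.hom)
      (φ.inv ≫ (Scheme.Modules.pullback q).map p ≫ g.hom ≫ biproduct.π Gs j) (by
        simp only [Category.assoc, Iso.hom_inv_id_assoc]
        rw [← Functor.map_comp_assoc, h, CategoryTheory.Functor.map_id, Category.id_comp, Iso.inv_hom_id_assoc,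
          biproduct.ι_π_self])
    exact ⟨l, nonempty_iso_of_retract (hGs j).1 (hW l) a' b' hab⟩
  choose l hl using hiso
  exact ⟨n, l, ⟨g ≪≫ biproduct.isoCoproduct _ ≪≫ Sigma.mapIso fun j => (hl j).some⟩⟩

end

namespace Exists

variable {k : Type u} [Field k] {X : Scheme.{u}} {f : X ⟶ Spec (CommRingCat.of k)} [IsProper f]
  {K : Type u} [Field K] [Algebra k K] [IsAlgClosure k K] {n : ℕ}

theorem connectedSpace_bc (e : BrSev.Splitting f K n) : ConnectedSpace (BrSev.bc f K) := by
  haveI := LeadPic.PnRel.isIntegral_projSpace n K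
  haveI : Nonempty (BrSev.bc f K) := ⟨e.iso.inv (LeadPic.Pn.η n K)⟩
  haveI : IsIntegral (BrSev.bc f K) := isIntegral_of_isOpenImmersion e.iso.hom
  infer_instance

/-- An indecomposable absolutely split module is of twisting type. -/
theorem exists_isTwPow (e : BrSev.Splitting f K n) {E : X.Modules} (hE : Coh.IsCoh E) (hEi : Indec E) {s : ℕ}
    (Ls : Fin s → (BrSev.bc f K).Modules) (hLs : ∀ i, PicF.IsInvertible (Ls i))
    (hsplit : BrSev.bcMod f K E ≅ ∐ Ls) :
    ∃ (j : ℤ) (r : ℕ), 0 < r ∧ BrSev.IsTwPow e j r E := by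
  letI : X.Over (Spec (CommRingCat.of k)) := ⟨f⟩
  letI : (BrSev.bc f K).Over (Spec (CommRingCat.of K)) := ⟨BrSev.bcTo f K⟩
  haveI : IsProper (X ↘ Spec (CommRingCat.of k)) := ‹IsProper f›
  haveI : IsProper (BrSev.bc f K ↘ Spec (CommRingCat.of K)) :=
    inferInstanceAs (IsProper (pullback.snd _ _))
  have hsq : IsPullback (BrSev.proj f K) (BrSev.bc f K ↘ Spec (CommRingCat.of K)) (X ↘ Spec (CommRingCat.of k))
      (Spec.map (CommRingCat.ofHom (algebraMap k K))) := IsPullback.of_hasPullback _ _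
  haveI : IsLocallyNoetherian X := LocallyOfFiniteType.isLocallyNoetherian f
  choose d hd using fun i => Twist.exists_iso_twist e (hLs i)
  choose P r hPf hPi hr hPt using fun i => exists_indec_twPow e (d i)
  obtain ⟨i, ⟨g⟩⟩ := exists_iso_of_types hsq hE hEi (fun i => e.twist (d i))
    (hsplit ≪≫ Sigma.mapIso fun i => (hd i).some) P
    (fun i => H16Derived.KFlat.Stalk.isCoh_of_isFinLocFree (hPf i)) hPi r hr (fun i => (hPt i).some)
  exact ⟨d i, r i, hr i, ⟨(Scheme.Modules.pullback (BrSev.proj f K)).mapIso g ≪≫ (hPt i).some⟩⟩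

/-- An absolutely split module is a sum of indecomposables of twisting type. -/
theorem exists_decomp (e : BrSev.Splitting f K n) {E : X.Modules} (hE : FlatMod.IsFinLocFree E) {s : ℕ}
    (Ls : Fin s → (BrSev.bc f K).Modules) (hLs : ∀ i, PicF.IsInvertible (Ls i))
    (hsplit : BrSev.bcMod f K E ≅ ∐ Ls) :
    ∃ (t : ℕ) (Ms : Fin t → X.Modules) (js : Fin t → ℤ) (rs : Fin t → ℕ),
      (∀ i, FlatMod.IsFinLocFree (Ms i) ∧ Indec (Ms i) ∧ 0 < rs i ∧ BrSev.IsTwPow e (js i) (rs i) (Ms i)) ∧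
      Nonempty (E ≅ ∐ Ms) := by
  letI : X.Over (Spec (CommRingCat.of k)) := ⟨f⟩
  letI : (BrSev.bc f K).Over (Spec (CommRingCat.of K)) := ⟨BrSev.bcTo f K⟩
  haveI : IsProper (X ↘ Spec (CommRingCat.of k)) := ‹IsProper f›
  haveI : IsProper (BrSev.bc f K ↘ Spec (CommRingCat.of K)) :=
    inferInstanceAs (IsProper (pullback.snd _ _))
  have hsq : IsPullback (BrSev.proj f K) (BrSev.bc f K ↘ Spec (CommRingCat.of K)) (X ↘ Spec (CommRingCat.of k))
      (Spec.map (CommRingCat.ofHom (algebraMap k K))) := IsPullback.of_hasPullback _ _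
  haveI : IsLocallyNoetherian X := LocallyOfFiniteType.isLocallyNoetherian f
  haveI := connectedSpace_bc e
  have hc := H16Derived.KFlat.Stalk.isCoh_of_isFinLocFree hE
  letI := endAlgebra k E
  haveI := finite_end k E hc
  obtain ⟨t, Ms, hMs, ⟨g⟩⟩ := existence k E
  have hret : ∀ a, (biproduct.ι Ms a ≫ g.inv) ≫ g.hom ≫ biproduct.π Ms a = 𝟙 _ := fun a => by simp
  have key : ∀ a, ∃ (j : ℤ) (r : ℕ), 0 < r ∧ BrSev.IsTwPow e j r (Ms a) := fun a => by
    obtain ⟨m, l, ⟨eM⟩⟩ := types_of_retract hsq hc _ _ (hret a) Ls (fun i => indec_invertible (hLs i)) hsplit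
    exact exists_isTwPow e (isCoh_of_retract hc _ _ (hret a)) (hMs a) (fun b => Ls (l b)) (fun b => hLs _) eM
  choose js rs hrs hT using key
  exact ⟨t, Ms, js, rs, fun a => ⟨isFinLocFree_of_retract hE _ _ (hret a), hMs a, hrs a, hT a⟩,
    ⟨g ≪≫ biproduct.isoCoproduct _⟩⟩

end Exists

end Groth.Agent.H23KS
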