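import Groth.Agent.H23KS.FieldCoh
import Groth.Agent.H23KS.Exists
import Groth.Agent.H23SB.Mult
import Groth.Agent.H17.PnExt.Main
import Groth.Agent.H28Vert.ExcNum
import Groth.Agent.H11Ample.UnitIso
import Groth.Agent.S14204
import Mathlib

/-!
# Cohomological criterion for absolute splitting on forms of projective space
-/

set_option autoImplicit false
set_option linter.style.haveILetI false
set_option linter.unusedSectionVars false

universe u

open CategoryTheory CategoryTheory.Limits AlgebraicGeometry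

noncomputable section

namespace Groth.Agent.H23KS.SplitCriterion

open Groth.Agent Groth.Agent.LeadBC Groth.Agent.H10Coh

attribute [local instance 10000] hasSheafifyAb hasWeakSheafifyAb hasExtAb enoughInjAb

/-- Vanishing passes to retracts. -/
theorem subsingleton_HH_of_retract {Y : Scheme.{u}} {M N : Y.Modules} (i : M ⟶ N) (p : N ⟶ M) (h : i ≫ p = 𝟙 M)
    (q : ℕ) (hN : Subsingleton (Coh.HH Y N q)) : Subsingleton (Coh.HH Y M q) := by
  have h' : Subsingleton (Sheaf.H.{u} ((shF Y).obj N) q) := hN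
  exact Function.Surjective.subsingleton (f := Sheaf.H.map ((shF Y).map p) q) fun y =>
    ⟨Sheaf.H.map ((shF Y).map i) q y, (Sheaf.H.map_comp_apply _ _ _).symm.trans (by
      rw [← Functor.map_comp, h, CategoryTheory.Functor.map_id, Sheaf.H.map_id_apply])⟩

/-- Tensor products of bundles are bundles. -/
theorem vb_tensor {Y : Scheme.{u}} {M N : Y.Modules} (hM : FlatMod.IsFinLocFree M) (hN : FlatMod.IsFinLocFree N) :
    FlatMod.IsFinLocFree (CohB1.tensorMod M N) :=
  H16Derived.KFlat.Stalk.isFinLocFree_tensor hM hN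

/-- Pull-back along an isomorphism undone. -/
def pullIso {Y Z : Scheme.{u}} (a : Y ≅ Z) (M : Y.Modules) :
    (Scheme.Modules.pullback a.hom).obj ((Scheme.Modules.pullback a.inv).obj M) ≅ M :=
  (Scheme.Modules.pullbackComp a.hom a.inv).app _ ≪≫
    (Scheme.Modules.pullbackCongr a.hom_inv_id).app _ ≪≫ (Scheme.Modules.pullbackId _).app _

/-- Vanishing after an isomorphism of schemes, for a tensor product. -/
theorem subsingleton_tensor_of_iso {Y Z : Scheme.{u}} (a : Y ≅ Z) {M : Y.Modules} (hM : FlatMod.IsFinLocFree M)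
    {T : Z.Modules} (hT : FlatMod.IsFinLocFree T) (i : ℕ)
    (h : Subsingleton (Coh.HH Y (CohB1.tensorMod M ((Scheme.Modules.pullback a.hom).obj T)) i)) :
    Subsingleton (Coh.HH Z (CohB1.tensorMod ((Scheme.Modules.pullback a.inv).obj M) T) i) := by
  haveI : (CohB1.tensorMod ((Scheme.Modules.pullback a.inv).obj M) T).IsQuasicoherent :=
    H8Props.FinLocFree.isQCoh_of_isFinLocFree _ (vb_tensor (H16Derived.KFlat.Stalk.isFinLocFree_pullback _ hM) hT)
  refine H28Vert.subsingleton_HH_of_pullback_iso a _ i (H10Coh.subsingleton_HH_of_iso ?_ i h)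
  exact (((H16Derived.KFlat.Stalk.pullTensorLIso a.hom T).app _ :
    (Scheme.Modules.pullback a.hom).obj (CohB1.tensorMod ((Scheme.Modules.pullback a.inv).obj M) T) ≅
      CohB1.tensorMod ((Scheme.Modules.pullback a.hom).obj ((Scheme.Modules.pullback a.inv).obj M))
        ((Scheme.Modules.pullback a.hom).obj T)) ≪≫
    PicGrp.tensorModIso (pullIso a M) (Iso.refl _)).symm

variable {k : Type u} [Field k] {X : Scheme.{u}} {f : X ⟶ Spec (CommRingCat.of k)} [IsProper f]
  {K : Type u} [Field K] [Algebra k K] [IsAlgClosure k K] {N : ℕ} (e : BrSev.Splitting f K N)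

theorem nonempty_twist_add (a b : ℤ) :
    Nonempty (CohB1.tensorMod (e.twist a) (e.twist b) ≅ e.twist (a + b)) :=
  ⟨((H16Derived.KFlat.Stalk.pullTensorLIso e.iso.hom (Twist.twistProjSpace N K b)).app
      (Twist.twistProjSpace N K a)).symm ≪≫
      (Scheme.Modules.pullback e.iso.hom).mapIso ((H10Coh.Stab.isTwistFamily_projSpace N K).add a b).some⟩

theorem nonempty_bcMod_tensor (A B : X.Modules) :
    Nonempty (BrSev.bcMod f K (CohB1.tensorMod A B) ≅ CohB1.tensorMod (BrSev.bcMod f K A) (BrSev.bcMod f K B)) :=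
  ⟨(H16Derived.KFlat.Stalk.pullTensorLIso (BrSev.proj f K) B).app A⟩

/-- The vanishing in the middle degrees. -/
def Mid (M : (BrSev.bc f K).Modules) : Prop := ∀ i : ℕ, 0 < i → i < N → Subsingleton (Coh.HH (BrSev.bc f K) M i)

include e in
theorem mid_twist (d : ℤ) : Mid (f := f) (N := N) (e.twist d) := by
  intro i h0 hN
  haveI : (Twist.twistProjSpace N K d).IsQuasicoherent :=
    H8Props.FinLocFree.isQCoh_of_isFinLocFree _ (H23Para.isFinLocFree_of_isInvertible
      ((H10Coh.Stab.isTwistFamily_projSpace N K).inv d))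
  haveI : (e.twist d).IsQuasicoherent := H29Fitt.isQCoh_pullback _ _ ‹_›
  refine H28Vert.subsingleton_HH_of_pullback_iso e.iso.symm (e.twist d) i ?_
  refine H10Coh.subsingleton_HH_of_iso (M := Twist.twistProjSpace N K d)
    (((Scheme.Modules.pullbackComp e.iso.inv e.iso.hom).app _ ≪≫
      (Scheme.Modules.pullbackCongr e.iso.inv_hom_id).app _ ≪≫ (Scheme.Modules.pullbackId _).app _).symm) i ?_
  exact H10Coh.Pn.subsingleton_HH_Od (n := N) (R := K) (d := d) i (by omega) (by omega)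

theorem mid_iso {M M' : (BrSev.bc f K).Modules} (a : M ≅ M') (h : Mid (f := f) (N := N) M) :
    Mid (f := f) (N := N) M' := fun i h0 hN => H10Coh.subsingleton_HH_of_iso a i (h i h0 hN)

theorem mid_sigma {r : ℕ} (G : Fin r → (BrSev.bc f K).Modules) (h : ∀ j, Mid (f := f) (N := N) (G j)) :
    Mid (f := f) (N := N) (∐ G) := fun i h0 hN => by
  letI : (BrSev.bc f K).Over (Spec (CommRingCat.of K)) := ⟨BrSev.bcTo f K⟩
  exact H17.PnExt.subsingleton_HH_sigma (k := K) G i fun j => h j i h0 hN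

include e in
/-- Absolutely split bundles have no intermediate cohomology. -/
theorem vanish_of_split {E L W : X.Modules} (hE : FlatMod.IsFinLocFree E) (hL : FlatMod.IsFinLocFree L)
    (hW : FlatMod.IsFinLocFree W) {s : ℕ} (Ls : Fin s → (BrSev.bc f K).Modules) (hLs : ∀ i, PicF.IsInvertible (Ls i))
    (eE : BrSev.bcMod f K E ≅ ∐ Ls) {c j : ℤ} {r : ℕ} (hLt : BrSev.IsTwPow e c 1 L) (hWt : BrSev.IsTwPow e j r W)
    (i : ℕ) (h0 : 0 < i) (hN : i < N) :
    Subsingleton (Coh.HH X (CohB1.tensorMod (CohB1.tensorMod E L) W) i) := by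
  letI : X.Over (Spec (CommRingCat.of k)) := ⟨f⟩
  letI : (BrSev.bc f K).Over (Spec (CommRingCat.of K)) := ⟨BrSev.bcTo f K⟩
  haveI : IsProper (X ↘ Spec (CommRingCat.of k)) := ‹IsProper f›
  have hsq : IsPullback (BrSev.proj f K) (BrSev.bc f K ↘ Spec (CommRingCat.of K)) (X ↘ Spec (CommRingCat.of k))
      (Spec.map (CommRingCat.ofHom (algebraMap k K))) := IsPullback.of_hasPullback _ _
  haveI : IsLocallyNoetherian X := LocallyOfFiniteType.isLocallyNoetherian f
  refine (subsingleton_HH_iff hsq (H16Derived.KFlat.Stalk.isCoh_of_isFinLocFree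
    (vb_tensor (vb_tensor hE hL) hW)) i).2 ?_
  suffices h : Mid (f := f) (N := N) (BrSev.bcMod f K (CohB1.tensorMod (CohB1.tensorMod E L) W)) from h i h0 hN
  obtain ⟨t₁⟩ := nonempty_bcMod_tensor (K := K) (CohB1.tensorMod E L) W (f := f)
  obtain ⟨t₂⟩ := nonempty_bcMod_tensor (K := K) E L (f := f)
  obtain ⟨a⟩ := hLt
  obtain ⟨b⟩ := hWt
  choose d hd using fun l => Twist.exists_iso_twist e (hLs l)
  let T₂ := (DCoh.tensorBi (X := BrSev.bc f K)).flip.obj (e.twist c)
  let T₁ := (DCoh.tensorBi (X := BrSev.bc f K)).flip.obj (BrSev.pow (e.twist j) r)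
  let a' : BrSev.bcMod f K L ≅ e.twist c := a ≪≫ (coproductUniqueIso fun _ : Fin 1 => e.twist c)
  let u : BrSev.bcMod f K (CohB1.tensorMod E L) ≅ ∐ fun l => e.twist (d l + c) :=
    t₂ ≪≫ PicGrp.tensorModIso eE a' ≪≫
      (PreservesCoproduct.iso T₂ Ls : T₂.obj (∐ Ls) ≅ ∐ fun l => T₂.obj (Ls l)) ≪≫
      Sigma.mapIso fun l =>
        (PicGrp.tensorModIso (hd l).some (Iso.refl (e.twist c)) ≪≫ (nonempty_twist_add e (d l) c).some :
          CohB1.tensorMod (Ls l) (e.twist c) ≅ e.twist (d l + c))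
  let v : BrSev.bcMod f K (CohB1.tensorMod (CohB1.tensorMod E L) W) ≅
      ∐ fun l => ∐ fun _ : Fin r => e.twist (d l + c + j) :=
    t₁ ≪≫ PicGrp.tensorModIso u b ≪≫
      (PreservesCoproduct.iso T₁ _ : T₁.obj (∐ fun l => e.twist (d l + c)) ≅
        ∐ fun l => T₁.obj (e.twist (d l + c))) ≪≫
      Sigma.mapIso fun l =>
        ((S14204.tensor_pow_right (e.twist (d l + c)) (e.twist j) r).some ≪≫
          Sigma.mapIso fun _ => (nonempty_twist_add e (d l + c) j).some :
          CohB1.tensorMod (e.twist (d l + c)) (BrSev.pow (e.twist j) r) ≅ ∐ fun _ : Fin r => e.twist (d l + c + j))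
  exact mid_iso v.symm (mid_sigma _ fun l => mid_sigma _ fun _ => mid_twist e _)

include e in
/-- The vanishing of a twist of `E_K` read on the projective space. -/
theorem pn_of_bc {E : X.Modules} (hE : FlatMod.IsFinLocFree E) (d : ℤ) (i : ℕ)
    (hy : Subsingleton (Coh.HH (BrSev.bc f K) (CohB1.tensorMod (BrSev.bcMod f K E) (e.twist d)) i)) :
    Subsingleton (Coh.HH (CohB1.ProjSpace N K)
      (CohB1.tensorMod ((Scheme.Modules.pullback e.iso.inv).obj (BrSev.bcMod f K E)) (Twist.twistProjSpace N K d)) i) := by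
  exact subsingleton_tensor_of_iso e.iso (H16Derived.KFlat.Stalk.isFinLocFree_pullback _ hE)
    (H23Para.isFinLocFree_of_isInvertible ((H10Coh.Stab.isTwistFamily_projSpace N K).inv d)) i hy

/-- Associativity of twisting. -/
theorem nonempty_twist_twist (M : (BrSev.bc f K).Modules) {a b d : ℤ} (h : a + b = d) :
    Nonempty (CohB1.tensorMod (CohB1.tensorMod M (e.twist a)) (e.twist b) ≅ CohB1.tensorMod M (e.twist d)) := by
  subst h
  obtain ⟨u⟩ := nonempty_twist_add e a b
  exact ⟨H11Ample.tensorAssocIso _ _ _ ≪≫ PicGrp.tensorModIso (Iso.refl M) u⟩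

include e in
/-- The vanishing of a twist of `E_K` from that of the modules of the types. -/
theorem bc_of_types {E L W : X.Modules} (hE : FlatMod.IsFinLocFree E) (hL : FlatMod.IsFinLocFree L)
    (hW : FlatMod.IsFinLocFree W) {c j d : ℤ} (hcj : c + j = d) {r : ℕ} (hr : 0 < r)
    (hLt : BrSev.IsTwPow e c 1 L) (hWt : BrSev.IsTwPow e j r W) (i : ℕ)
    (h : Subsingleton (Coh.HH X (CohB1.tensorMod (CohB1.tensorMod E L) W) i)) :
    Subsingleton (Coh.HH (BrSev.bc f K) (CohB1.tensorMod (BrSev.bcMod f K E) (e.twist d)) i) := by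
  letI : X.Over (Spec (CommRingCat.of k)) := ⟨f⟩
  letI : (BrSev.bc f K).Over (Spec (CommRingCat.of K)) := ⟨BrSev.bcTo f K⟩
  haveI : IsProper (X ↘ Spec (CommRingCat.of k)) := ‹IsProper f›
  have hsq : IsPullback (BrSev.proj f K) (BrSev.bc f K ↘ Spec (CommRingCat.of K)) (X ↘ Spec (CommRingCat.of k))
      (Spec.map (CommRingCat.ofHom (algebraMap k K))) := IsPullback.of_hasPullback _ _
  haveI : IsLocallyNoetherian X := LocallyOfFiniteType.isLocallyNoetherian f
  have hx := (subsingleton_HH_iff hsq (H16Derived.KFlat.Stalk.isCoh_of_isFinLocFree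
    (vb_tensor (vb_tensor hE hL) hW)) i).1 h
  obtain ⟨t₁⟩ := nonempty_bcMod_tensor (K := K) (CohB1.tensorMod E L) W (f := f)
  obtain ⟨t₂⟩ := nonempty_bcMod_tensor (K := K) E L (f := f)
  obtain ⟨a⟩ := hLt
  obtain ⟨b⟩ := hWt
  obtain ⟨tp⟩ := S14204.tensor_pow_right (CohB1.tensorMod (BrSev.bcMod f K E) (e.twist c)) (e.twist j) r
  obtain ⟨z⟩ := nonempty_twist_twist e (BrSev.bcMod f K E) hcj
  let a' : BrSev.bcMod f K L ≅ e.twist c := a ≪≫ (coproductUniqueIso fun _ : Fin 1 => e.twist c)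
  let w : BrSev.bcMod f K (CohB1.tensorMod (CohB1.tensorMod E L) W) ≅
      ∐ fun _ : Fin r => CohB1.tensorMod (BrSev.bcMod f K E) (e.twist d) :=
    t₁ ≪≫ PicGrp.tensorModIso (t₂ ≪≫ PicGrp.tensorModIso (Iso.refl (BrSev.bcMod f K E)) a') b ≪≫ tp ≪≫
      Sigma.mapIso fun _ => z
  refine subsingleton_HH_of_retract
    (Sigma.ι (fun _ : Fin r => CohB1.tensorMod (BrSev.bcMod f K E) (e.twist d)) ⟨0, hr⟩ ≫ w.inv)
    (w.hom ≫ Sigma.desc fun _ => 𝟙 _) ?_ i hx
  rw [Category.assoc, w.inv_hom_id_assoc, Sigma.ι_desc]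

variable {A : Type u} [Ring A] [Algebra k A] [Algebra.IsCentral k A] [IsSimpleRing A]

/-- The vanishing gives the vanishing of all the twists over the closure. -/
theorem pn_vanish_of_vanish (hA : Module.finrank k A = (N + 1) * (N + 1))
    (hX : BrSev.IsSBOf k A ((N + 1) * (N + 1) - (N + 1)) f) {p : ℕ} (hp : CSAGal.IsPeriod k A p)
    {E : X.Modules} (hE : FlatMod.IsFinLocFree E)
    (h : ∀ (i : ℕ), 0 < i → i < N → ∀ (a : ℤ) (L : X.Modules), PicF.IsInvertible L →
      BrSev.IsTwPow e (a * (p : ℤ)) 1 L → ∀ (j : ℤ), 0 ≤ j → j < (p : ℤ) →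
      ∀ (W : X.Modules), FlatMod.IsFinLocFree W → Indec W →
      ∀ (r : ℕ), 0 < r → BrSev.IsTwPow e j r W →
      Subsingleton (Coh.HH X (CohB1.tensorMod (CohB1.tensorMod E L) W) i))
    (d : ℤ) (i : ℕ) (h0 : 0 < i) (hN : i < N) :
    Subsingleton (Coh.HH (CohB1.ProjSpace N K)
      (CohB1.tensorMod ((Scheme.Modules.pullback e.iso.inv).obj (BrSev.bcMod f K E)) (Twist.twistProjSpace N K d)) i) := by
  have hp0 : (0 : ℤ) < (p : ℤ) := by exact_mod_cast hp.1
  obtain ⟨L, s, hL, hLi, hs, hLt⟩ := Exists.exists_indec_twPow e (d / (p : ℤ) * (p : ℤ))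
  obtain ⟨hLinv, rfl⟩ := H23SB.invertible_of_period_dvd (N := N) e hA hX hp hL hLi (Dvd.intro_left _ rfl) hs hLt
  obtain ⟨W, r, hW, hWi, hr, hWt⟩ := Exists.exists_indec_twPow e (d % (p : ℤ))
  exact pn_of_bc e hE d i (bc_of_types e hE hL hW (Int.ediv_mul_add_emod d (p : ℤ)) hr hLt hWt i
    (h i h0 hN (d / (p : ℤ)) L hLinv hLt (d % (p : ℤ)) (Int.emod_nonneg d (by omega)) (Int.emod_lt_of_pos d hp0)
      W hW hWi r hr hWt))

/-- A splitting of the pull-back to projective space gives an absolute splitting. -/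
theorem split_of_pn {E : X.Modules} {r : ℕ} (a : Fin r → ℤ)
    (φ : (Scheme.Modules.pullback e.iso.inv).obj (BrSev.bcMod f K E) ≅ ∐ fun j => Twist.twistProjSpace N K (a j)) :
    ∃ (s : ℕ) (Ls : Fin s → (BrSev.bc f K).Modules), (∀ i, PicF.IsInvertible (Ls i)) ∧
      Nonempty (BrSev.bcMod f K E ≅ ∐ Ls) := by
  haveI : PreservesColimitsOfSize.{0, 0} (Scheme.Modules.pullback e.iso.hom) :=
    (Scheme.Modules.pullbackPushforwardAdjunction e.iso.hom).leftAdjoint_preservesColimits
  exact ⟨r, fun j => e.twist (a j), fun j => Twist.isInvertible_twist e (a j),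
    ⟨((Scheme.Modules.pullbackComp e.iso.hom e.iso.inv).app _ ≪≫
      (Scheme.Modules.pullbackCongr e.iso.hom_inv_id).app _ ≪≫ (Scheme.Modules.pullbackId _).app _).symm ≪≫
      (Scheme.Modules.pullback e.iso.hom).mapIso φ ≪≫ PreservesCoproduct.iso _ _⟩⟩

end Groth.Agent.H23KS.SplitCriterion
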