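import Groth.Agent.H23KS.SplitCriterion
import Groth.Agent.H22Alg.ESZ
import Groth.Agent.H11Proj.ProjSpace
import Groth.Agent.H26Def.AdicPic
import Mathlib

/-!
# The splitting criterion from Horrocks' criterion on projective space
-/

set_option autoImplicit false
set_option linter.style.haveILetI false
set_option linter.unusedSectionVars false

universe u

open CategoryTheory CategoryTheory.Limits AlgebraicGeometry

noncomputable section

namespace Groth.Agent.H23KS.SplitCriterion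

open Groth.Agent Groth.Agent.LeadBC Groth.Agent.H10Coh

variable {k : Type u} [Field k] {A : Type u} [Ring A] [Algebra k A] [Algebra.IsCentral k A] [IsSimpleRing A]
  {X : Scheme.{u}} {f : X ⟶ Spec (CommRingCat.of k)} [IsProper f]
  {K : Type u} [Field K] [Algebra k K] [IsAlgClosure k K] {N : ℕ} (e : BrSev.Splitting f K N)

include e in
/-- Over a point everything splits. -/
theorem split_zero (hN : N = 0) {E : X.Modules} (hE : FlatMod.IsFinLocFree E) :
    ∃ (s : ℕ) (Ls : Fin s → (BrSev.bc f K).Modules), (∀ i, PicF.IsInvertible (Ls i)) ∧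
      Nonempty (BrSev.bcMod f K E ≅ ∐ Ls) := by
  subst hN
  haveI : IsIso (CohB1.ProjSpace.toSpec 0 K) := H11Proj.ProjSpace.isIso_toSpec_zero (R := K)
  haveI : IsIso (BrSev.bcTo f K) := by rw [← e.comm]; infer_instance
  haveI : IsLocallyNoetherian X := LocallyOfFiniteType.isLocallyNoetherian f
  let b : BrSev.bc f K ≅ Spec (CommRingCat.of K) := asIso (BrSev.bcTo f K)
  have hM := H16Derived.KFlat.Stalk.isFinLocFree_pullback (BrSev.proj f K) hE
  obtain ⟨r, ⟨u⟩⟩ := H26Def.exists_iso_freeMod_of_field K ((Scheme.Modules.pullback b.inv).obj (BrSev.bcMod f K E))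
    (H16Derived.KFlat.Stalk.isCoh_of_isFinLocFree (H16Derived.KFlat.Stalk.isFinLocFree_pullback _ hM))
  exact ⟨r, fun _ => Coh.structureModule (BrSev.bc f K), fun _ => H11Ample.isInvertible_structureModule,
    ⟨(pullIso b (BrSev.bcMod f K E)).symm ≪≫ (Scheme.Modules.pullback b.hom).mapIso u ≪≫
      H16Derived.KFlat.Stalk.freeModPullbackIso b.hom r⟩⟩

include e in
/-- The criterion. -/
theorem absSplit_iff
    (hH : ∀ (d : ℕ), 1 ≤ d → ∀ F : (CohB1.ProjSpace d K).Modules, Coh.IsCoh F → ¬ IsZero F →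
      (∃ n₀ : ℤ, ∀ n : ℤ, n ≤ n₀ →
        Subsingleton (Coh.HH (CohB1.ProjSpace d K) (CohB1.tensorMod F (Twist.twistProjSpace d K n)) 0)) →
      (∀ (n : ℤ) (i : ℕ), 1 ≤ i → i < d →
        Subsingleton (Coh.HH (CohB1.ProjSpace d K) (CohB1.tensorMod F (Twist.twistProjSpace d K n)) i)) →
      ∃ (r : ℕ) (a : Fin r → ℤ), Nonempty (F ≅ ∐ fun j => Twist.twistProjSpace d K (a j)))
    (hA : Module.finrank k A = (N + 1) * (N + 1)) (hX : BrSev.IsSBOf k A ((N + 1) * (N + 1) - (N + 1)) f)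
    {p : ℕ} (hp : CSAGal.IsPeriod k A p) {E : X.Modules} (hE : FlatMod.IsFinLocFree E) :
    (∃ (s : ℕ) (Ls : Fin s → (BrSev.bc f K).Modules), (∀ i, PicF.IsInvertible (Ls i)) ∧
        Nonempty (BrSev.bcMod f K E ≅ ∐ Ls)) ↔
      (∀ (i : ℕ), 0 < i → i < N → ∀ (a : ℤ) (L : X.Modules), PicF.IsInvertible L →
        BrSev.IsTwPow e (a * (p : ℤ)) 1 L → ∀ (j : ℤ), 0 ≤ j → j < (p : ℤ) →
        ∀ (W : X.Modules), FlatMod.IsFinLocFree W → Indec W →
        ∀ (r : ℕ), 0 < r → BrSev.IsTwPow e j r W →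
        Subsingleton (Coh.HH X (CohB1.tensorMod (CohB1.tensorMod E L) W) i)) := by
  refine ⟨?_, fun h => ?_⟩
  · rintro ⟨s, Ls, hLs, ⟨eE⟩⟩ i h0 hN a L hL hLt j _ _ W hW _ r _ hWt
    exact vanish_of_split e hE (H23Para.isFinLocFree_of_isInvertible hL) hW Ls hLs eE hLt hWt i h0 hN
  rcases Nat.eq_zero_or_pos N with hN | hN
  · exact split_zero e hN hE
  let F := (Scheme.Modules.pullback e.iso.inv).obj (BrSev.bcMod f K E)
  have hF : FlatMod.IsFinLocFree F :=
    H16Derived.KFlat.Stalk.isFinLocFree_pullback _ (H16Derived.KFlat.Stalk.isFinLocFree_pullback _ hE)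
  by_cases h0 : IsZero F
  · refine split_of_pn e (r := 0) (fun j => j.elim0) (IsZero.iso h0 ((IsZero.iff_id_eq_zero _).2 ?_))
    ext j; exact j.elim0
  haveI : IsLocallyNoetherian (CohB1.ProjSpace N K) :=
    LocallyOfFiniteType.isLocallyNoetherian (CohB1.ProjSpace.toSpec N K)
  have hFc : Coh.IsCoh F := H16Derived.KFlat.Stalk.isCoh_of_isFinLocFree hF
  obtain ⟨m₀, hm⟩ := H22Alg.ESZ.van_zero hN hFc fun x hx =>
    le_trans (by exact_mod_cast hN) (H22Alg.ESZ.depth_finLocFree hF hx)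
  obtain ⟨r, a, ⟨φ⟩⟩ := hH N hN F hFc h0 ⟨-(m₀ : ℤ), fun n hn => by
      obtain ⟨m, rfl⟩ : ∃ m : ℕ, n = -(m : ℤ) := ⟨(-n).toNat, by omega⟩
      exact hm m (by omega)⟩
    (fun d i hi hi' => pn_vanish_of_vanish e hA hX hp hE h d i hi hi')
  exact split_of_pn e a φ

end Groth.Agent.H23KS.SplitCriterion
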