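import Groth.Agent.H23KS.FieldBC
import Groth.Agent.H22Alg.ExtPowHom
import Mathlib

/-!
# Direct image along a split finite extension of the scalars

If `R` is a product of copies of the field `K` through `ψ i : R → K`, and `Z` over `R` projects affinely to `Y` over
`K` with sections `q i` over the points `ψ i`, then the direct image of a quasi-coherent `M` is `⊕ (q i)^* M`.
-/

set_option autoImplicit false
set_option linter.style.haveILetI false
set_option linter.unusedSectionVars false

universe u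

open CategoryTheory CategoryTheory.Limits AlgebraicGeometry Opposite TopologicalSpace
open scoped TensorProduct

noncomputable section

namespace Groth.Agent.H23KS.SplitPush

open Groth.Agent Groth.Agent.LeadBC Groth.Agent.LeadFF

attribute [local instance] Abelian.hasFiniteBiproducts

variable {K R : Type u} [Field K] [CommRing R] [Algebra K R] {Z Y : Scheme.{u}} [Z.Over (Spec (CommRingCat.of R))]
  [Y.Over (Spec (CommRingCat.of K))]

section One

variable (ψ : R →ₐ[K] K) {q : Y ⟶ Z}
  (hq : IsPullback q (Y ↘ Spec (CommRingCat.of K)) (Z ↘ Spec (CommRingCat.of R))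
    (Spec.map (CommRingCat.ofHom ψ.toRingHom)))
  (M : Z.Modules) [M.IsQuasicoherent]

include hq in
theorem pullSect_smul' (W : Z.Opens) (r : R) (m : Γ(M, W)) :
    OmegaSh.pullSect q M W (sc R W r • m) = sc K (q ⁻¹ᵁ W) (ψ r) • OmegaSh.pullSect q M W m := by
  letI : Algebra R K := ψ.toRingHom.toAlgebra
  rw [OmegaSh.pullSect_smul]
  exact congrArg (· • OmegaSh.pullSect q M W m) (app_scal hq W r)

include hq in
theorem exists_pullSect {W : Z.Opens} (hW : IsAffineOpen W) (z : Γ(qF q M, q ⁻¹ᵁ W)) :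
    ∃ m : Γ(M, W), OmegaSh.pullSect q M W m = z := by
  letI : Algebra R K := ψ.toRingHom.toAlgebra
  obtain ⟨t, ht⟩ := (bijective_β K hq M hW rfl (le_refl (q ⁻¹ᵁ W))).2 z
  suffices h : ∀ t, ∃ m : Γ(M, W), OmegaSh.pullSect q M W m =
      (show Γ(qF q M, q ⁻¹ᵁ W) from β K hq M (le_refl (q ⁻¹ᵁ W)) t) by
    obtain ⟨m, hm⟩ := h t
    exact ⟨m, hm.trans ht⟩
  intro t
  induction t using TensorProduct.induction_on with
  | zero => exact ⟨0, (map_zero (OmegaSh.pullSect q M W).hom).trans (map_zero (β K hq M (le_refl (q ⁻¹ᵁ W)))).symm⟩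
  | add a b ha hb =>
    obtain ⟨x, hx⟩ := ha
    obtain ⟨y, hy⟩ := hb
    exact ⟨x + y, (map_add (OmegaSh.pullSect q M W).hom x y).trans (by rw [map_add, hx, hy]; rfl)⟩
  | tmul m c =>
    refine ⟨sc R W (algebraMap K R c) • (show Γ(M, W) from m), ?_⟩
    rw [pullSect_smul' ψ hq, AlgHom.commutes, β_tmul]
    refine congrArg (sc K (q ⁻¹ᵁ W) c • ·) ?_
    exact (congrArg (fun z => (qF q M).presheaf.map z (OmegaSh.pullSect q M W m))
      (Subsingleton.elim (homOfLE (le_refl (q ⁻¹ᵁ W))).op (𝟙 _))).trans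
        (ConcreteCategory.congr_hom ((qF q M).presheaf.map_id _) _) |>.symm

include hq in
theorem smul_eq_zero_of_pullSect {W : Z.Opens} (hW : IsAffineOpen W) (e : R) (he : ∀ r, r * e = algebraMap K R (ψ r) * e)
    (m : Γ(M, W)) (h : OmegaSh.pullSect q M W m = 0) : sc R W e • m = 0 := by
  letI : Algebra R K := ψ.toRingHom.toAlgebra
  have h1 : (show sec R M W from m) ⊗ₜ[R] (1 : K) = 0 := by
    refine (bijective_β K hq M hW rfl (le_refl (q ⁻¹ᵁ W))).1 ?_
    rw [map_zero]
    show (show Γ(qF q M, q ⁻¹ᵁ W) from _) = 0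
    rw [β_tmul]
    show sc K (q ⁻¹ᵁ W) (1 : K) • (qF q M).presheaf.map _ (OmegaSh.pullSect q M W m) = 0
    rw [h, map_zero, smul_zero]
  let l : sec R M W ⊗[R] K →ₗ[R] sec R M W := TensorProduct.lift (LinearMap.mk₂ R
    (fun (x : sec R M W) (c : K) => (algebraMap K R c * e) • x)
    (fun x y c => smul_add _ _ _)
    (fun a x c => smul_comm _ _ _)
    (fun x c c' => by rw [map_add, add_mul, add_smul])
    (fun a x c => by
      rw [show a • c = ψ a * c from rfl, map_mul, smul_smul]
      refine congrArg (· • x) ?_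
      linear_combination (-(algebraMap K R c)) * he a))
  have h2 := congrArg l h1
  rw [map_zero] at h2
  have h3 : (algebraMap K R 1 * e) • (show sec R M W from m) = 0 := h2
  rw [map_one, one_mul] at h3
  exact h3

end One

variable {ι : Type} [Fintype ι] {π : Z ⟶ Y}

/-- The component of the direct image. -/
def comp {q : Y ⟶ Z} (h : q ≫ π = 𝟙 Y) (M : Z.Modules) :
    (Scheme.Modules.pushforward π).obj M ⟶ (Scheme.Modules.pullback q).obj M :=
  (Scheme.Modules.pushforward π).map ((Scheme.Modules.pullbackPushforwardAdjunction q).unit.app M) ≫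
    (Scheme.Modules.pushforwardComp q π).hom.app _ ≫ (Scheme.Modules.pushforwardCongr h).hom.app _ ≫
      (Scheme.Modules.pushforwardId Y).hom.app _

theorem comp_app {q : Y ⟶ Z} (h : q ≫ π = 𝟙 Y) (M : Z.Modules) (V : Y.Opens) (m : Γ(M, π ⁻¹ᵁ V)) :
    (comp h M).app V m = ((Scheme.Modules.pullback q).obj M).presheaf.map
      (eqToHom (show V = q ⁻¹ᵁ (π ⁻¹ᵁ V) by rw [← Scheme.Hom.comp_preimage, h, Scheme.Hom.id_preimage])).op
      (OmegaSh.pullSect q M (π ⁻¹ᵁ V) m) := rfl

variable (ψ : ι → R →ₐ[K] K) (hb : Function.Bijective fun (r : R) (i : ι) => ψ i r) {q : ι → (Y ⟶ Z)}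
  (hq : ∀ i, IsPullback (q i) (Y ↘ Spec (CommRingCat.of K)) (Z ↘ Spec (CommRingCat.of R))
    (Spec.map (CommRingCat.ofHom (ψ i).toRingHom)))
  (hqπ : ∀ i, q i ≫ π = 𝟙 Y) [IsAffineHom π] (M : Z.Modules) [M.IsQuasicoherent]

include hb hq hqπ in
/-- The direct image along a split finite extension. -/
theorem nonempty_iso :
    Nonempty ((Scheme.Modules.pushforward π).obj M ≅ ⨁ fun i => (Scheme.Modules.pullback (q i)).obj M) := by
  classical
  choose e he using fun i => hb.2 (Pi.single i 1)
  have he' : ∀ i j, ψ j (e i) = if j = i then 1 else 0 := fun i j =>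
    (congrFun (he i) j).trans (Pi.single_apply i 1 j)
  have hid : ∀ i r, r * e i = algebraMap K R (ψ i r) * e i := fun i r => hb.1 (funext fun j => by
    show ψ j (r * e i) = ψ j (algebraMap K R (ψ i r) * e i)
    rw [map_mul, map_mul, he', AlgHom.commutes, Algebra.algebraMap_self, RingHom.id_apply]
    split_ifs with h
    · subst h; rfl
    · simp)
  have hsum : ∑ i, e i = 1 := hb.1 (funext fun j => by
    show ψ j (∑ i, e i) = ψ j 1
    rw [map_sum, map_one]
    simp [he'])
  let N := fun i => (Scheme.Modules.pullback (q i)).obj M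
  let Φ := biproduct.lift fun i => comp (hqπ i) M
  haveI : IsIso Φ := by
    refine H22Alg.ExtPowHom.isIso_of_bijective_affine Φ fun ⟨V, hV⟩ => ?_
    have hW : IsAffineOpen (π ⁻¹ᵁ V) := hV.preimage π
    have heq : ∀ i, V = q i ⁻¹ᵁ (π ⁻¹ᵁ V) := fun i => by
      rw [← Scheme.Hom.comp_preimage, hqπ i, Scheme.Hom.id_preimage]
    let res := fun i => (N i).presheaf.map (eqToHom (heq i)).op
    have hres : ∀ i, Function.Bijective (res i) := fun i => ConcreteCategory.bijective_of_isIso _
    have hπ : ∀ (m : Γ(M, π ⁻¹ᵁ V)) i, (biproduct.π N i).app V (Φ.app V m) =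
        res i (OmegaSh.pullSect (q i) M (π ⁻¹ᵁ V) m) := fun m i =>
      (congrArg (fun z : _ ⟶ N i => z.app V m) (biproduct.lift_π (fun i => comp (hqπ i) M) i)).trans
        (comp_app (hqπ i) M V m)
    have hext : ∀ x y : Γ(⨁ N, V), (∀ i, (biproduct.π N i).app V x = (biproduct.π N i).app V y) → x = y := by
      intro x y hxy
      have h0 : evalAt V x (∑ i, biproduct.π N i ≫ biproduct.ι N i) = evalAt V y (∑ i, biproduct.π N i ≫ biproduct.ι N i) := by
        rw [map_sum, map_sum]
        exact Finset.sum_congr rfl fun i _ => congrArg ((biproduct.ι N i).app V) (hxy i)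
      rw [biproduct.total] at h0
      exact h0
    refine ⟨fun x y hxy => ?_, fun z => ?_⟩
    · suffices h : ∀ m : Γ(M, π ⁻¹ᵁ V), (∀ i, OmegaSh.pullSect (q i) M (π ⁻¹ᵁ V) m = 0) → m = 0 by
        refine sub_eq_zero.1 (h ((show Γ(M, π ⁻¹ᵁ V) from x) - (show Γ(M, π ⁻¹ᵁ V) from y)) fun i => (hres i).1 ?_)
        rw [map_zero, map_sub, map_sub, ← hπ, ← hπ]
        exact sub_eq_zero.2 (congrArg ((biproduct.π N i).app V) hxy)
      intro m hm
      rw [← one_smul Γ(Z, π ⁻¹ᵁ V) m, ← map_one (sc R (π ⁻¹ᵁ V)), ← hsum, map_sum, Finset.sum_smul]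
      exact Finset.sum_eq_zero fun i _ => smul_eq_zero_of_pullSect (ψ i) (hq i) M hW (e i) (hid i) m (hm i)
    · choose y hy using fun i => (hres i).2 ((biproduct.π N i).app V z)
      choose m hm using fun i => exists_pullSect (ψ i) (hq i) M hW (y i)
      refine ⟨(∑ i, sc R (π ⁻¹ᵁ V) (e i) • m i : Γ(M, π ⁻¹ᵁ V)), hext _ _ fun j => ?_⟩
      rw [← hy j]
      refine (hπ _ j).trans (congrArg (res j) ?_)
      rw [map_sum, Finset.sum_eq_single j]
      · rw [pullSect_smul' (ψ j) (hq j), he', if_pos rfl, map_one, one_smul, hm]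
      · intro i _ hij
        rw [pullSect_smul' (ψ j) (hq j), he', if_neg (Ne.symm hij), map_zero, zero_smul]
      · intro h; exact absurd (Finset.mem_univ j) h
  exact ⟨asIso Φ⟩

end Groth.Agent.H23KS.SplitPush
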