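import Groth.Agent.H29Ref.Free
import Groth.Agent.H11Tilde.QCohCrit
import Groth.Agent.H29Blow.QCohLoc
import Groth.Agent.H10Coh.Proper
import Groth.Agent.H17.CohSub
import Mathlib.Algebra.Category.ModuleCat.Presheaf.Submodule

/-!
# The subsheaf of sections with germs in given submodules of the stalks

For a family of submodules `M x ⊆ F_x` which is all of `F_x` away from finitely many closed points,
the sections with all germs in `M` form a subsheaf whose stalks are the `M x`; it is quasi-coherent
when every element of the maximal ideal is nilpotent on the quotients `F_x / M x`.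
-/

set_option autoImplicit false

universe u

open CategoryTheory CategoryTheory.Limits AlgebraicGeometry TopologicalSpace Opposite

namespace Groth.Agent.H23KS.StalkSub

variable {X : Scheme.{u}} (F : X.Modules)
  (M : ∀ x : X, Submodule (X.presheaf.stalk x) (F.presheaf.stalk x))

/-- All germs lie in the given submodules. -/
def IsMem {V : X.Opens} (s : Γ(F, V)) : Prop :=
  ∀ (y : X) (hy : y ∈ V), F.presheaf.germ V y hy s ∈ M y

variable {F M}

theorem IsMem.map {U V : X.Opens} {s : Γ(F, U)} (hs : IsMem F M s) (h : V ≤ U) :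
    IsMem F M (F.presheaf.map (homOfLE h).op s) := fun y hy => by
  rw [TopCat.Presheaf.germ_res_apply F.presheaf (homOfLE h) y hy s]
  exact hs y (h hy)

variable (F M)

/-- The submodule of sections with germs in `M`. -/
noncomputable def subPre : PresheafOfModules.Submodule F.val where
  obj V :=
    { carrier := {s | IsMem F M (V := V.unop) s}
      add_mem' := fun {s t} hs ht y hy => by
        show F.presheaf.germ V.unop y hy ((show Γ(F, V.unop) from s) + (show Γ(F, V.unop) from t)) ∈ M y
        rw [map_add]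
        exact add_mem (hs y hy) (ht y hy)
      zero_mem' := fun y hy => by
        show F.presheaf.germ V.unop y hy (0 : Γ(F, V.unop)) ∈ M y
        rw [map_zero]
        exact zero_mem _
      smul_mem' := fun r s hs y hy => by
        show F.presheaf.germ V.unop y hy
          ((show Γ(X, V.unop) from r) • (show Γ(F, V.unop) from s)) ∈ M y
        rw [Mero.germ_smul]
        exact Submodule.smul_mem _ _ (hs y hy) }
  map {U V} f v hv := IsMem.map hv (leOfHom f.unop)

theorem isSheaf_subPre :
    Presheaf.IsSheaf (Opens.grothendieckTopology X) (subPre F M).toPresheafOfModules.presheaf := by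
  refine (TopCat.Presheaf.isSheaf_iff_isSheafUniqueGluing _).2 fun ι U sf hsf => ?_
  obtain ⟨s, hs, huniq⟩ := (TopCat.Presheaf.isSheaf_iff_isSheafUniqueGluing F.presheaf).1 F.isSheaf U
    (fun j => (sf j).1) (fun j k => congrArg Subtype.val (hsf j k))
  have hk : IsMem F M s := fun y hy => by
    obtain ⟨j, hj⟩ := Opens.mem_iSup.1 hy
    have h1 : F.presheaf.germ (U j) y hj (sf j).1 ∈ M y := (sf j).2 y hj
    have h2 : F.presheaf.map (homOfLE (le_iSup U j)).op s = (sf j).1 := hs j
    rw [← h2, TopCat.Presheaf.germ_res_apply] at h1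
    exact h1
  exact ⟨⟨s, hk⟩, fun j => Subtype.ext (hs j),
    fun t ht => Subtype.ext (huniq t.1 fun j => congrArg Subtype.val (ht j))⟩

/-- The subsheaf of sections with germs in `M`. -/
noncomputable def subMod : X.Modules := ⟨(subPre F M).toPresheafOfModules, isSheaf_subPre F M⟩

/-- The inclusion. -/
noncomputable def subι : subMod F M ⟶ F := ⟨(subPre F M).ι⟩

instance mono_subι : Mono (subι F M) :=
  haveI : Mono ((SheafOfModules.forget _).map (subι F M)) :=
    inferInstanceAs (Mono (subPre F M).ι)
  (SheafOfModules.forget _).mono_of_mono_map ‹_›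

theorem subι_injective (V : X.Opens) : Function.Injective ((subι F M).app V) :=
  fun _ _ h => Subtype.ext h

theorem isMem_subι {V : X.Opens} (s : Γ(subMod F M, V)) : IsMem F M ((subι F M).app V s) := s.2

theorem exists_eq_subι {V : X.Opens} (s : Γ(F, V)) (hs : IsMem F M s) :
    ∃ t : Γ(subMod F M, V), (subι F M).app V t = s := ⟨⟨s, hs⟩, rfl⟩

theorem stalk_injective (x : X) : Function.Injective (RefHull.stalkMapₗ (subι F M) x) :=
  TopCat.Presheaf.stalkFunctor_map_injective_of_app_injective (f := (subι F M).mapPresheaf)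
    (fun V => subι_injective F M V) x

variable (hS : {x | M x ≠ ⊤}.Finite) (hcl : ∀ x, M x ≠ ⊤ → IsClosed ({x} : Set X))

include hS hcl in
theorem range_stalk (x : X) : LinearMap.range (RefHull.stalkMapₗ (subι F M) x) = M x := by
  apply le_antisymm
  · rintro _ ⟨w, rfl⟩
    obtain ⟨U, hxU, s, rfl⟩ := TopCat.Presheaf.exists_germ_eq (subMod F M).presheaf w
    rw [RefHull.stalkMapₗ_germ]
    exact isMem_subι F M s x hxU
  · intro v hv
    obtain ⟨U, hxU, s, rfl⟩ := TopCat.Presheaf.exists_germ_eq F.presheaf v
    let T : Set X := {y | M y ≠ ⊤} \ {x}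
    have hT : IsClosed T := by
      rw [← Set.biUnion_of_singleton T]
      exact (hS.subset Set.sdiff_subset).isClosed_biUnion fun y hy => hcl y hy.1
    let U' : X.Opens := U ⊓ ⟨Tᶜ, hT.isOpen_compl⟩
    have hxU' : x ∈ U' := ⟨hxU, fun h => h.2 rfl⟩
    have hle : U' ≤ U := inf_le_left
    have hmem : IsMem F M (F.presheaf.map (homOfLE hle).op s) := fun y hy => by
      rw [TopCat.Presheaf.germ_res_apply F.presheaf (homOfLE hle) y hy s]
      by_cases hxy : y = x
      · subst hxy; exact hv
      · rw [show M y = ⊤ from not_not.1 fun h => hy.2 ⟨h, hxy⟩]; trivial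
    obtain ⟨t, ht⟩ := exists_eq_subι F M _ hmem
    refine ⟨(subMod F M).presheaf.germ U' x hxU' t, ?_⟩
    rw [RefHull.stalkMapₗ_germ, ht, TopCat.Presheaf.germ_res_apply]

/-- The stalk of the subsheaf is the submodule. -/
noncomputable def stalkEquiv (x : X) :
    (subMod F M).presheaf.stalk x ≃ₗ[X.presheaf.stalk x] M x :=
  (LinearEquiv.ofInjective _ (stalk_injective F M x)).trans
    (LinearEquiv.ofEq _ _ (range_stalk F M hS hcl x))

theorem coe_stalkEquiv (x : X) (w : (subMod F M).presheaf.stalk x) :
    (stalkEquiv F M hS hcl x w : F.presheaf.stalk x) = RefHull.stalkMapₗ (subι F M) x w := rfl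

include hS hcl in
theorem stalk_bijective_of_eq_top (x : X) (hx : M x = ⊤) :
    Function.Bijective (RefHull.stalkMapₗ (subι F M) x) :=
  ⟨stalk_injective F M x, LinearMap.range_eq_top.1 ((range_stalk F M hS hcl x).trans hx)⟩

include hS hcl in
theorem subsingleton_stalk_cokernel (x : X) (hx : M x = ⊤) :
    Subsingleton ((cokernel (subι F M)).presheaf.stalk x) :=
  H10Coh.subsingleton_stalk_cokernel _ x (stalk_bijective_of_eq_top F M hS hcl x hx).2

include hS in
theorem isQCoh_subMod (hF : Coh.IsQCoh F)
    (hnil : ∀ x, ∀ r ∈ IsLocalRing.maximalIdeal (X.presheaf.stalk x), ∀ v : F.presheaf.stalk x,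
      ∃ N : ℕ, r ^ N • v ∈ M x) : Coh.IsQCoh (subMod F M) := by
  classical
  haveI : F.IsQuasicoherent := hF
  refine H11Tilde.isQuasicoherent_of_basicOpen_localization _ (fun W : X.affineOpens => W.1)
    (iSup_affineOpens_eq_top X) (fun W => W.2) (fun W r s hs => ?_) fun W r s' => ?_
  · obtain ⟨n, hn⟩ := H29Blow.exists_pow_smul_eq_zero F hF W.2 r ((subι F M).app W.1 s) (by
      have h := congrArg ((subι F M).app (X.basicOpen r)) hs
      rw [map_zero] at h
      exact h)
    exact ⟨n, subι_injective F M W.1 (by rw [Scheme.Modules.Hom.app_smul, hn, map_zero])⟩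
  · obtain ⟨n, s, hs⟩ :=
      H10Coh.exists_pow_smul_eq_res F W.2 r ((subι F M).app (X.basicOpen r) s')
    have h1 : ∀ y : X, ∃ N : ℕ, ∀ hy : y ∈ W.1, y ∉ X.basicOpen r →
        X.presheaf.germ W.1 y hy r ^ N • F.presheaf.germ W.1 y hy s ∈ M y := by
      intro y
      by_cases hy : y ∈ W.1
      · by_cases hr : y ∈ X.basicOpen r
        · exact ⟨0, fun _ h => absurd hr h⟩
        · obtain ⟨N, hN⟩ := hnil y (X.presheaf.germ W.1 y hy r)
            ((IsLocalRing.mem_maximalIdeal _).2 fun hu => hr ((X.mem_basicOpen r y hy).2 hu))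
            (F.presheaf.germ W.1 y hy s)
          exact ⟨N, fun _ _ => hN⟩
      · exact ⟨0, fun h => absurd h hy⟩
    choose N hN using h1
    let N₀ := hS.toFinset.sup N
    have hmem : IsMem F M (r ^ N₀ • s) := fun y hy => by
      rw [Mero.germ_smul, map_pow]
      by_cases hr : y ∈ X.basicOpen r
      · refine Submodule.smul_mem _ _ ?_
        rw [← TopCat.Presheaf.germ_res_apply F.presheaf (homOfLE (X.basicOpen_le r)) y hr s, hs,
          Mero.germ_smul]
        exact Submodule.smul_mem _ _ (isMem_subι F M s' y hr)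
      · by_cases hM : M y = ⊤
        · rw [hM]; trivial
        · rw [show N₀ = (N₀ - N y) + N y from
            (Nat.sub_add_cancel (Finset.le_sup (f := N) (hS.mem_toFinset.2 hM))).symm, pow_add, mul_smul]
          exact Submodule.smul_mem _ _ (hN y hy hr)
    obtain ⟨t, ht⟩ := exists_eq_subι F M _ hmem
    refine ⟨N₀ + n, t, subι_injective F M _ ?_⟩
    rw [Scheme.Modules.Hom.app_smul, H11Tilde.app_map_apply, ht, Scheme.Modules.map_smul, hs,
      ← mul_smul, ← map_mul, ← pow_add]

include hS in
theorem isCoh_subMod [IsLocallyNoetherian X] (hF : Coh.IsCoh F)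
    (hnil : ∀ x, ∀ r ∈ IsLocalRing.maximalIdeal (X.presheaf.stalk x), ∀ v : F.presheaf.stalk x,
      ∃ N : ℕ, r ^ N • v ∈ M x) : Coh.IsCoh (subMod F M) :=
  H10Coh.isCoh_of_mono (subι F M) (isQCoh_subMod F M hS hF.1 hnil) hF

include hS hcl in
theorem isFinLocFree_subMod [IsLocallyNoetherian X] (hF : Coh.IsCoh F)
    (hnil : ∀ x, ∀ r ∈ IsLocalRing.maximalIdeal (X.presheaf.stalk x), ∀ v : F.presheaf.stalk x,
      ∃ N : ℕ, r ^ N • v ∈ M x)
    (hfree : ∀ x, Module.Free (X.presheaf.stalk x) (M x)) : FlatMod.IsFinLocFree (subMod F M) :=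
  H29Ref.isFinLocFree_of_free_stalk _ (isCoh_subMod F M hS hF hnil) fun x =>
    haveI := hfree x
    Module.Free.of_equiv (stalkEquiv F M hS hcl x).symm

end Groth.Agent.H23KS.StalkSub
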