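import Groth.Agent.LeadPic.PnRel
import Groth.Agent.H11Ample.Converse
import Groth.Prelude.Def_BrSev
import Mathlib

/-!
# Twisting sheaves of a splitting and conjugation of the splitting field
-/

set_option autoImplicit false
set_option linter.style.haveILetI false
set_option linter.unusedSectionVars false

universe u

open CategoryTheory CategoryTheory.Limits AlgebraicGeometry Opposite TopologicalSpace

noncomputable section

namespace Groth.Agent.H23KS.Twist

open Groth.Agent Groth.Agent.H25Theta CohB1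

variable {k : Type u} [Field k] {X : Scheme.{u}} {f : X ⟶ Spec (CommRingCat.of k)}
  {K : Type u} [Field K] [Algebra k K] {n : ℕ} (e : BrSev.Splitting f K n)

theorem isInvertible_twist (j : ℤ) : PicF.IsInvertible (e.twist j) :=
  H11Ample.isInvertible_pullback e.iso.hom (H22Alg.RegSheaf.isInvertible_twistProjSpace n K j)

/-- The classes of the twisting sheaves of a splitting. -/
def TC : Multiplicative ℤ →* (Cls (BrSev.bc f K))ˣ := (pullU e.iso.hom).comp (LeadPic.PnRel.OC n K)

theorem val_TC (d : ℤ) :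
    ((TC e (Multiplicative.ofAdd d) : (Cls (BrSev.bc f K))ˣ) : Cls (BrSev.bc f K)) = cls (e.twist d) := rfl

theorem TC_eq (d : ℤ) : TC e (Multiplicative.ofAdd d) = unitCls (isInvertible_twist e d) := Units.ext rfl

theorem exists_TC_eq {L : (BrSev.bc f K).Modules} (hL : PicF.IsInvertible L) :
    ∃ d, TC e d = unitCls hL := by
  obtain ⟨d, hd⟩ := LeadPic.PnRel.OC_surjective n K (H11Ample.isInvertible_pullback e.iso.inv hL)
  refine ⟨d, Units.ext ?_⟩
  show pull e.iso.hom (LeadPic.PnRel.OC n K d : Cls _) = cls L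
  rw [hd]
  show pull e.iso.hom (pull e.iso.inv (cls L)) = cls L
  rw [pull_pull, e.iso.hom_inv_id, pull_id]

include e in
/-- Invertible modules on a split variety are twists. -/
theorem exists_iso_twist {L : (BrSev.bc f K).Modules} (hL : PicF.IsInvertible L) :
    ∃ d : ℤ, Nonempty (L ≅ e.twist d) := by
  obtain ⟨d, hd⟩ := exists_TC_eq e hL
  exact ⟨Multiplicative.toAdd d, cls_eq.1 (congrArg Units.val hd).symm⟩

theorem TC_injective (hn : n ≠ 0) : Function.Injective (TC e) := fun a b h => by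
  refine LeadPic.PnRel.OC_injective hn K ?_
  have := congrArg (pullU e.iso.inv) h
  simp only [TC, MonoidHom.comp_apply, pullU_pullU, e.iso.inv_hom_id, pullU_id] at this
  exact this

/-- Invertible modules on zero dimensional projective space over a field are trivial. -/
theorem TC_eq_one_of_zero (hn : n = 0) (a : Multiplicative ℤ) : TC e a = 1 := by
  subst hn
  haveI := H11Proj.ProjSpace.isIso_toSpec_zero (R := K)
  let t := CohB1.ProjSpace.toSpec 0 K
  have hL : PicF.IsInvertible ((Scheme.Modules.pullback (inv t)).obj (Twist.twistProjSpace 0 K (Multiplicative.toAdd a))) :=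
    H11Ample.isInvertible_pullback _ (H22Alg.RegSheaf.isInvertible_twistProjSpace 0 K _)
  have h1 : pullU (inv t) (LeadPic.PnRel.OC 0 K a) = 1 :=
    Units.ext (cls_eq.2 (LeadPic.nonempty_iso_field K hL))
  have h2 := congrArg (pullU t) h1
  rw [pullU_pullU, IsIso.hom_inv_id, pullU_id, map_one] at h2
  show pullU e.iso.hom (LeadPic.PnRel.OC 0 K a) = 1
  rw [h2, map_one]

/-- `O(1)` has a nonzero section. -/
theorem not_subsingleton_sections_one : ¬ Subsingleton Γ(Twist.twistProjSpace n K 1, ⊤) := fun h => by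
  haveI : Subsingleton Γ(H10Coh.Pn.Od n K ((1 : ℕ) : ℤ), ⊤) := h
  haveI := (H10Coh.HH0Equiv (H10Coh.Pn.Od n K ((1 : ℕ) : ℤ))).toEquiv.subsingleton
  haveI := (H10Coh.Pn.HH0Od_bijective (n := n) (R := K) 1).2.subsingleton
  haveI : Subsingleton ↥(MvPolynomial.homogeneousSubmodule (Fin (n + 1)) K 1) :=
    (H10Coh.Pn.homToAllowed_bijective (n := n) (R := K) 1).1.subsingleton
  have h0 : (⟨MvPolynomial.X (0 : Fin (n + 1)), (MvPolynomial.mem_homogeneousSubmodule _ _).2 (MvPolynomial.isHomogeneous_X K 0)⟩ :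
      ↥(MvPolynomial.homogeneousSubmodule (Fin (n + 1)) K 1)) = 0 := Subsingleton.elim _ _
  exact MvPolynomial.X_ne_zero (R := K) (0 : Fin (n + 1)) (congrArg Subtype.val h0)

/-- Conjugation of the base change by an automorphism of the field. -/
def galX (f : X ⟶ Spec (CommRingCat.of k)) (τ : K ≃ₐ[k] K) : BrSev.bc f K ⟶ BrSev.bc f K :=
  pullback.lift (BrSev.proj f K) (BrSev.bcTo f K ≫ Spec.map (CommRingCat.ofHom τ.toAlgHom.toRingHom)) (by
    rw [pullback.condition, Category.assoc, ← Spec.map_comp]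
    exact congrArg (BrSev.bcTo f K ≫ ·) (congrArg Spec.map (CommRingCat.hom_ext (RingHom.ext fun x => (τ.commutes x).symm))))

@[reassoc (attr := simp)]
theorem galX_proj (τ : K ≃ₐ[k] K) : galX f τ ≫ BrSev.proj f K = BrSev.proj f K := pullback.lift_fst _ _ _

@[reassoc (attr := simp)]
theorem galX_bcTo (τ : K ≃ₐ[k] K) :
    galX f τ ≫ BrSev.bcTo f K = BrSev.bcTo f K ≫ Spec.map (CommRingCat.ofHom τ.toAlgHom.toRingHom) :=
  pullback.lift_snd _ _ _

theorem galX_comp_symm (τ : K ≃ₐ[k] K) : galX f τ ≫ galX f τ.symm = 𝟙 _ := by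
  refine pullback.hom_ext (by simp) ?_
  simp only [Category.assoc, galX_bcTo, galX_bcTo_assoc, Category.id_comp, ← Spec.map_comp]
  refine Eq.trans ?_ (Category.comp_id _)
  rw [← Spec.map_id]
  exact congrArg (BrSev.bcTo f K ≫ ·) (congrArg Spec.map (CommRingCat.hom_ext (RingHom.ext fun x => τ.apply_symm_apply x)))

theorem isIso_galX (τ : K ≃ₐ[k] K) : IsIso (galX f τ) :=
  ⟨⟨galX f τ.symm, galX_comp_symm τ, by simpa using galX_comp_symm (f := f) τ.symm⟩⟩

/-- The classes of the twists are invariant under conjugation. -/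
theorem pullU_galX (τ : K ≃ₐ[k] K) (a : Multiplicative ℤ) : pullU (galX f τ) (TC e a) = TC e a := by
  rcases eq_or_ne n 0 with hn | hn
  · rw [TC_eq_one_of_zero e hn a, map_one]
  have key : ∀ σ : K ≃ₐ[k] K, ∃ d : Multiplicative ℤ,
      pullU (galX f σ) (TC e (Multiplicative.ofAdd 1)) = TC e d := fun σ => by
    obtain ⟨d, hd⟩ := exists_TC_eq e (H11Ample.isInvertible_pullback (galX f σ) (isInvertible_twist e 1))
    exact ⟨d, hd.symm ▸ Units.ext rfl⟩
  have hlin : ∀ (σ : K ≃ₐ[k] K) (d : Multiplicative ℤ), pullU (galX f σ) (TC e (Multiplicative.ofAdd 1)) = TC e d →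
      ∀ z : ℤ, pullU (galX f σ) (TC e (Multiplicative.ofAdd z)) = TC e (d ^ z) := fun σ d h z => by
    rw [show Multiplicative.ofAdd z = Multiplicative.ofAdd (1 : ℤ) ^ z by rw [← ofAdd_zsmul, zsmul_one, Int.cast_id],
      map_zpow, map_zpow, h, map_zpow]
  obtain ⟨d, hd⟩ := key τ
  obtain ⟨d', hd'⟩ := key τ.symm
  have h1 : TC e (d ^ Multiplicative.toAdd d') = TC e (Multiplicative.ofAdd 1) := by
    rw [← hlin τ d hd, ofAdd_toAdd, ← hd', pullU_pullU, galX_comp_symm, pullU_id]
  have h2 : Multiplicative.toAdd d' * Multiplicative.toAdd d = 1 :=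
    congrArg Multiplicative.toAdd (TC_injective e hn h1)
  rcases Int.eq_one_or_neg_one_of_mul_eq_one' h2 with ⟨-, h3⟩ | ⟨-, h3⟩
  · obtain rfl : d = Multiplicative.ofAdd 1 := h3
    rw [show a = Multiplicative.ofAdd (Multiplicative.toAdd a) from rfl, hlin τ _ hd, ← ofAdd_zsmul, zsmul_one,
      Int.cast_id]
  exfalso
  obtain rfl : d = Multiplicative.ofAdd (-1) := h3
  haveI := isIso_galX (f := f) τ
  obtain ⟨i⟩ : Nonempty ((Scheme.Modules.pullback (e.iso.inv ≫ galX f τ ≫ e.iso.hom)).obj (Twist.twistProjSpace n K 1) ≅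
      Twist.twistProjSpace n K (-1)) := by
    refine cls_eq.1 ?_
    have h := congrArg (fun c => pullU e.iso.inv c) hd
    simp only [TC, MonoidHom.comp_apply, pullU_pullU, Category.assoc, e.iso.inv_hom_id, pullU_id] at h
    exact congrArg Units.val h
  haveI := H10Coh.Pn.subsingleton_sections_of_neg (n := n) (R := K) hn (show (-1 : ℤ) < 0 by omega)
  haveI : Subsingleton Γ(Twist.twistProjSpace n K (-1), ⊤) := this
  refine not_subsingleton_sections_one (n := n) (K := K) ?_
  let g := e.iso.inv ≫ galX f τ ≫ e.iso.hom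
  let i' : Twist.twistProjSpace n K 1 ≅ (Scheme.Modules.pullback (inv g)).obj (Twist.twistProjSpace n K (-1)) :=
    ((Scheme.Modules.pullbackId _).app _).symm ≪≫
      (Scheme.Modules.pullbackCongr (IsIso.inv_hom_id g).symm).app _ ≪≫
      ((Scheme.Modules.pullbackComp (inv g) g).app _).symm ≪≫ (Scheme.Modules.pullback (inv g)).mapIso i
  let i'' : Twist.twistProjSpace n K 1 ≅ (Scheme.Modules.restrictFunctor (inv g)).obj (Twist.twistProjSpace n K (-1)) :=
    i' ≪≫ ((Scheme.Modules.restrictFunctorIsoPullback (inv g)).app _).symm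
  haveI : IsIso (i''.hom.app ⊤) := inferInstance
  haveI : Subsingleton Γ((Scheme.Modules.restrictFunctor (inv g)).obj (Twist.twistProjSpace n K (-1)), ⊤) := by
    show Subsingleton Γ(Twist.twistProjSpace n K (-1), (inv g) ''ᵁ ⊤)
    rw [show (inv g) ''ᵁ ⊤ = ⊤ from top_le_iff.1 fun x _ => ⟨g x, trivial, by simp [← Scheme.Hom.comp_apply]⟩]
    infer_instance
  exact (ConcreteCategory.bijective_of_isIso (i''.hom.app ⊤)).1.subsingleton

end Groth.Agent.H23KS.Twist
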