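import Groth.Agent.H22Alg.SyzPn
import Groth.Agent.H22Alg.RegBundle
import Groth.Agent.H22Alg.PnUnit
import Groth.Agent.H26Def.AdicPic
import Groth.Agent.H15Site.ModAssoc
import Mathlib

/-!
# Twists as equivalences; the first step of the canonical resolution over a field
-/

set_option autoImplicit false
set_option linter.style.haveILetI false

universe v u

open CategoryTheory CategoryTheory.Limits AlgebraicGeometry ZeroObject
attribute [local instance] HasDerivedCategory.standard
attribute [local instance 10000] Groth.Agent.H10Coh.hasSheafifyAb Groth.Agent.H10Coh.hasWeakSheafifyAb Groth.Agent.H10Coh.hasExtAb Groth.Agent.H10Coh.enoughInjAb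

noncomputable section

namespace Groth.Agent.H23KS.TwistEquiv

open Groth.Agent Groth.Agent.H22Alg

/-- Tensoring with the structure sheaf. -/
def leftUnitNat (X : Scheme.{u}) : (DCoh.tensorBi (X := X)).obj (Coh.structureModule X) ≅ 𝟭 X.Modules :=
  (show (DCoh.tensorBi (X := X)).obj (Coh.structureModule X) ≅ DCoh.toP ⋙ 𝟭 (CohB1.PMod X) ⋙ DCoh.shP from
    Functor.isoWhiskerLeft DCoh.toP
      (Functor.isoWhiskerRight (MonoidalCategory.leftUnitorNatIso (CohB1.PMod X)) DCoh.shP)) ≪≫
    (show DCoh.toP ⋙ 𝟭 (CohB1.PMod X) ⋙ DCoh.shP ≅ 𝟭 X.Modules from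
      (asIso (PresheafOfModules.sheafificationAdjunction (𝟙 X.ringCatSheaf.obj)).counit :))

variable (n : ℕ) (T : Scheme.{u})

/-- The twist by `d`. -/
abbrev Tw (d : ℤ) : (KRR.PY n T).Modules ⥤ (KRR.PY n T).Modules :=
  (DCoh.tensorBi (X := KRR.PY n T)).obj (Twist.twistOver n T d)

/-- Composite of twists. -/
def compIso (a b c : ℤ) (h : c = a + b) : Tw n T b ⋙ Tw n T a ≅ Tw n T c :=
  (show Tw n T b ⋙ Tw n T a ≅ (DCoh.tensorBi (X := KRR.PY n T)).obj
      (((DCoh.tensorBi (X := KRR.PY n T)).obj (Twist.twistOver n T a)).obj (Twist.twistOver n T b)) from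
    ((((H15Site.ModTensor.tAssoc (O := (KRR.PY n T).sheaf)).app (Twist.twistOver n T a)).app
      (Twist.twistOver n T b))).symm) ≪≫
    (DCoh.tensorBi (X := KRR.PY n T)).mapIso (RegSheaf.nonempty_twistOver_add (n := n) (T := T) a b c h).some

theorem nonempty_twistOver_zero : Nonempty (Twist.twistOver n T 0 ≅ Coh.structureModule (KRR.PY n T)) := by
  obtain ⟨e⟩ := H11Tilde.nonempty_twist_zero_iso (CohB1.polyGrading n (ULift.{u} ℤ))
  exact ⟨(Scheme.Modules.pullback _).mapIso e ≪≫ H16Derived.KFlat.Stalk.structurePullbackIso _⟩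

/-- The trivial twist. -/
def zeroIso : Tw n T 0 ≅ 𝟭 _ :=
  (DCoh.tensorBi (X := KRR.PY n T)).mapIso (nonempty_twistOver_zero n T).some ≪≫ leftUnitNat _

/-- The twist is an equivalence. -/
def twEquiv (d : ℤ) : (KRR.PY n T).Modules ≌ (KRR.PY n T).Modules :=
  CategoryTheory.Equivalence.mk (Tw n T d) (Tw n T (-d))
    (compIso n T (-d) d 0 (by ring) ≪≫ zeroIso n T).symm (compIso n T d (-d) 0 (by ring) ≪≫ zeroIso n T)

instance isEquivalence_Tw (d : ℤ) : (Tw n T d).IsEquivalence :=
  (twEquiv n T d).isEquivalence_functor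

/-- `O(j) ⊗ O(-j) = O`. -/
theorem nonempty_twist_cancel (j : ℤ) :
    Nonempty ((Tw n T j).obj (Twist.twistOver n T (-j)) ≅ Coh.structureModule (KRR.PY n T)) := by
  obtain ⟨e⟩ := RegSheaf.nonempty_twistOver_add (n := n) (T := T) j (-j) 0 (by ring)
  exact ⟨e ≪≫ (nonempty_twistOver_zero n T).some⟩

section General

variable {C : Type*} [Category C]

/-- A morphism out of a sum of copies of `O` to such a sum is an isomorphism when it is bijective on maps from `O`. -/
theorem isIso_of_bij {O : C} {J J' : Type} [HasCoproduct fun _ : J => O] [HasCoproduct fun _ : J' => O] {M : C}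
    (e : M ≅ ∐ fun _ : J' => O) (a : (∐ fun _ : J => O) ⟶ M)
    (h : Function.Bijective fun b : O ⟶ (∐ fun _ : J => O) => b ≫ a) : IsIso a := by
  choose p hp using fun j => h.2 (Sigma.ι (fun _ : J' => O) j ≫ e.inv)
  have h1 : (e.hom ≫ Sigma.desc p) ≫ a = 𝟙 M := by
    rw [← cancel_epi e.inv]
    refine Sigma.hom_ext _ _ fun j => ?_
    simpa using hp j
  refine ⟨e.hom ≫ Sigma.desc p, Sigma.hom_ext _ _ fun i => h.1 ?_, h1⟩
  show (Sigma.ι (fun _ : J => O) i ≫ a ≫ e.hom ≫ Sigma.desc p) ≫ a = (Sigma.ι (fun _ : J => O) i ≫ 𝟙 _) ≫ a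
  simp only [Category.assoc] at h1 ⊢
  rw [h1, Category.id_comp, Category.comp_id]

theorem bij_congr {L L' A A' B B' : C} (eL : L' ≅ L) (eA : A' ≅ A) (eB : B ≅ B') {φ : A ⟶ B}
    (h : Function.Bijective fun b : L ⟶ A => b ≫ φ) :
    Function.Bijective fun b : L' ⟶ A' => b ≫ eA.hom ≫ φ ≫ eB.hom := by
  refine ⟨fun x y hxy => ?_, fun c => ?_⟩
  · have h2 : eL.inv ≫ x ≫ eA.hom = eL.inv ≫ y ≫ eA.hom := h.1 (by
      have h3 := congrArg (fun z => eL.inv ≫ z ≫ eB.inv) hxy
      simpa [Category.assoc] using h3)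
    simpa [cancel_epi, cancel_mono] using h2
  · obtain ⟨b, hb⟩ := h.2 (eL.inv ≫ c ≫ eB.inv)
    refine ⟨eL.hom ≫ b ≫ eA.inv, ?_⟩
    simp only [Category.assoc, Iso.inv_hom_id_assoc]
    rw [reassoc_of% (show b ≫ φ = _ from hb)]
    simp

theorem bij_map {D : Type*} [Category D] (F : C ⥤ D) [F.Full] [F.Faithful] {L A B : C} {φ : A ⟶ B}
    (h : Function.Bijective fun b : L ⟶ A => b ≫ φ) :
    Function.Bijective fun b : F.obj L ⟶ F.obj A => b ≫ F.map φ := by
  refine ⟨fun x y hxy => ?_, fun c => ?_⟩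
  · obtain ⟨x, rfl⟩ := F.map_surjective x
    obtain ⟨y, rfl⟩ := F.map_surjective y
    simp only [← Functor.map_comp] at hxy
    exact congrArg F.map (h.1 (F.map_injective hxy))
  · obtain ⟨c, rfl⟩ := F.map_surjective c
    obtain ⟨b, rfl⟩ := h.2 c
    exact ⟨F.map b, (F.map_comp _ _).symm⟩

end General

section Field

variable {N : ℕ} {K : Type u} [Field K]

local notation "S" => Spec (CommRingCat.of K)

set_option maxHeartbeats 1000000 in
/-- A morphism from a free module to a regular bundle which is bijective on global sections is, up to isomorphism,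
the counit. -/
theorem regStep {G : (KRR.PY N S).Modules} (hG : FlatMod.IsFinLocFree G) (hreg : KRR.IsRegSheaf N S G) {h : ℕ}
    (ψ : FlatMod.freeMod (KRR.PY N S) h ⟶ G)
    (hψ : Function.Bijective fun b : Coh.structureModule (KRR.PY N S) ⟶ FlatMod.freeMod (KRR.PY N S) h => b ≫ ψ) :
    Epi ψ ∧ Nonempty (kernel ψ ≅ kernel (SyzPn.ε N S G)) := by
  haveI := CMGen.epi_counit (H8Props.FinLocFree.isQCoh_of_isFinLocFree _ hG) hreg
  let adj := Scheme.Modules.pullbackPushforwardAdjunction (KRR.pr N S)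
  let V := FlatMod.freeMod S h
  let u := H16Derived.KFlat.Stalk.freeModPullbackIso (KRR.pr N S) h
  let s := H16Derived.KFlat.Stalk.structurePullbackIso (KRR.pr N S)
  let a : V ⟶ (Scheme.Modules.pushforward (KRR.pr N S)).obj G := adj.homEquiv _ _ (u.hom ≫ ψ)
  obtain ⟨r, ⟨eG⟩⟩ := H26Def.exists_iso_freeMod_of_field K _
    (H16Derived.KFlat.Stalk.isCoh_of_isFinLocFree (RegBundle.finLocFree_push hG hreg))
  have hV : Coh.IsQCoh V := H8Props.FinLocFree.isQCoh_of_isFinLocFree _
    (H16Derived.KFlat.Stalk.isFinLocFree_sigma _ fun _ => PnVan.finLocFree_of_inv (PnDeg0.isInvertible_structure _))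
  haveI : IsIso (adj.unit.app V) := PnUnit.isIso_unit (n := N) V hV
  have hmap : Function.Bijective fun b : Coh.structureModule S ⟶ V => (Scheme.Modules.pullback (KRR.pr N S)).map b := by
    have hc : (fun b : Coh.structureModule S ⟶ V => (Scheme.Modules.pullback (KRR.pr N S)).map b) =
        (adj.homEquiv (Coh.structureModule S) ((Scheme.Modules.pullback (KRR.pr N S)).obj V)).symm ∘
          fun b => b ≫ adj.unit.app V := by
      funext b
      symm
      show (adj.homEquiv _ _).symm (b ≫ adj.unit.app V) = _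
      rw [Adjunction.homEquiv_counit, Functor.map_comp, Category.assoc, adj.left_triangle_components,
        Category.comp_id]
    rw [hc]
    exact (Equiv.bijective _).comp
      ⟨fun x y hxy => (cancel_mono (adj.unit.app V)).1 hxy, fun c => ⟨c ≫ inv (adj.unit.app V), by simp⟩⟩
  have hbij : Function.Bijective fun b : Coh.structureModule S ⟶ V => b ≫ a := by
    have hc : (fun b : Coh.structureModule S ⟶ V => b ≫ a) =
        adj.homEquiv (Coh.structureModule S) G ∘
          ((fun c : (Scheme.Modules.pullback (KRR.pr N S)).obj (Coh.structureModule S) ⟶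
              (Scheme.Modules.pullback (KRR.pr N S)).obj V => c ≫ u.hom ≫ ψ ≫ (Iso.refl G).hom) ∘
          fun b => (Scheme.Modules.pullback (KRR.pr N S)).map b) := by
      funext b
      simp only [Function.comp_apply, Iso.refl_hom, Category.comp_id]
      exact (adj.homEquiv_naturality_left b (u.hom ≫ ψ)).symm
    rw [hc]
    exact (Equiv.bijective _).comp ((bij_congr s u (Iso.refl G) hψ).comp hmap)
  haveI : IsIso a := isIso_of_bij eG a hbij
  have key : ψ = (u.inv ≫ (Scheme.Modules.pullback (KRR.pr N S)).map a) ≫ SyzPn.ε N S G := by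
    have h2 : (Scheme.Modules.pullback (KRR.pr N S)).map a ≫ SyzPn.ε N S G = u.hom ≫ ψ :=
      (adj.homEquiv_counit V G a).symm.trans ((adj.homEquiv _ _).symm_apply_apply (u.hom ≫ ψ))
    rw [Category.assoc, h2, Iso.inv_hom_id_assoc]
  rw [key]
  exact ⟨inferInstance, ⟨kernelIsIsoComp _ _⟩⟩

end Field

end Groth.Agent.H23KS.TwistEquiv
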